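import Cfsg.Agent.Lib.Classical.CliffordTwo.Sys
import Cfsg.Prelude.Def_GeometricClasses
import Cfsg.Agent.Lib.Fus.SympFacts

/-!
An absolutely irreducible two-group of symplectic type of exponent four with centre of order two gives a Clifford
system on the matrix algebra.
-/

set_option autoImplicit false
set_option linter.unusedSectionVars false

namespace Cfsg.Agent.Classical.CliffordTwo.Bridge

open Matrix Module
open scoped commutatorElement

local notation "Z2" => ZMod 2

variable {F : Type*} [Field F] {ι : Type} [Fintype ι] [DecidableEq ι]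

/-- What is used of the group. -/
structure Ext (R : Subgroup (GL ι F)) (k : ℕ) : Prop where
  fin : Finite R
  two : (2 : F) ≠ 0
  ne : Nonempty ι
  card : Nat.card R = 2 ^ (1 + 2 * k)
  sq : ∀ g ∈ R, Peq (-1) (g * g) 1
  comm : ∀ g ∈ R, ∀ h ∈ R, Peq (-1) (g * h) (h * g)
  neg : (-1 : GL ι F) ∈ R
  sc : ∀ M : Matrix ι ι F, (∀ g ∈ R, M * (g : Matrix ι ι F) = (g : Matrix ι ι F) * M) → ∃ z : F, M = z • 1
  centre : ∀ g ∈ R, (∀ h ∈ R, g * h = h * g) → Peq (-1) g 1

theorem cinv [Nonempty ι] (h2 : (2 : F) ≠ 0) : CInv (-1 : GL ι F) where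
  central g := by rw [neg_one_mul, mul_neg_one]
  sq := by simp
  ne e := by
    have h3 := congrArg (fun u : GL ι F => (u : Matrix ι ι F) (Classical.arbitrary ι) (Classical.arbitrary ι)) e
    simp at h3
    exact h2 (by linear_combination -h3)

theorem ext_of (h2 : (2 : F) ≠ 0) (hι : 2 ≤ Fintype.card ι) {R : Subgroup (GL ι F)} {k : ℕ}
    (hR : Cfsg.Geo.IsSymplecticTypeGroup 2 R)
    (hirr : Cfsg.Geo.ActsAbsolutelyIrreducibly (Cfsg.Geo.matrixSet R))
    (hcard : Nat.card R = 2 ^ (1 + 2 * k)) (hZ : Nat.card (Subgroup.center R) = 2) : Ext R k := by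
  classical
  haveI : Finite R := Nat.finite_of_card_ne_zero (by rw [hcard]; positivity)
  haveI : Nonempty ι := Fintype.card_pos_iff.1 (by omega)
  have h4 : ∀ x : R, x ^ 4 = 1 := fun x => by
    have h := Monoid.pow_exponent_eq_one x
    rwa [hR.exponent_eq] at h
  obtain ⟨hsq, hcm, -⟩ := Fus.SympPair.symp_facts (T := R) ⟨hR.pGroup, hR.cyclic_of_characteristic⟩ h4
  have hsc : ∀ M : Matrix ι ι F, (∀ g ∈ R, M * (g : Matrix ι ι F) = (g : Matrix ι ι F) * M) → ∃ z : F, M = z • 1 :=
    fun M hM => hirr.2 M (by rintro _ ⟨g, hg, rfl⟩; exact hM g hg)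
  have hcen : ∀ z : R, z ∈ Subgroup.center R → z ^ 2 = 1 → Peq (-1) (z : GL ι F) 1 := by
    intro z hz hz2
    obtain ⟨s, hs⟩ := hsc ((z : GL ι F) : Matrix ι ι F) (fun g hg => by
      have h := congrArg (fun u : R => ((u : GL ι F) : Matrix ι ι F)) (Subgroup.mem_center_iff.1 hz ⟨g, hg⟩)
      simpa using h.symm)
    have hs2 : s * s = 1 := by
      have h := congrArg (fun u : R => ((u : GL ι F) : Matrix ι ι F) (Classical.arbitrary ι) (Classical.arbitrary ι))
        hz2
      simpa [pow_two, hs] using h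
    rcases mul_self_eq_one_iff.1 hs2 with rfl | rfl
    · exact Or.inl (Units.ext (by simpa using hs))
    · exact Or.inr (Units.ext (by simpa using hs))
  have hsq' : ∀ g ∈ R, Peq (-1) (g * g) 1 := fun g hg => by
    obtain ⟨h1, h3⟩ := hsq ⟨g, hg⟩
    simpa [pow_two] using hcen _ h1 h3
  have hcomm : ∀ g ∈ R, ∀ h ∈ R, Peq (-1) (g * h) (h * g) := fun g hg h hh => by
    obtain ⟨h1, h3⟩ := hcm ⟨g, hg⟩ ⟨h, hh⟩
    have hz := (cinv (ι := ι) h2).mul_right (h * g) (hcen _ h1 h3)
    rw [one_mul] at hz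
    simpa [commutatorElement_def, mul_assoc] using hz
  have hneg : (-1 : GL ι F) ∈ R := by
    by_contra hneg
    have hall : ∀ g ∈ R, ∃ z : F, (g : Matrix ι ι F) = z • 1 := fun g hg => hsc _ fun h hh => by
      rcases hcomm g hg h hh with e | e
      · exact congrArg Units.val e
      · refine absurd ?_ hneg
        have : (-1 : GL ι F) = g * h * (h * g)⁻¹ := by rw [e, mul_inv_cancel_right]
        rw [this]
        exact mul_mem (mul_mem hg hh) (inv_mem (mul_mem hh hg))
    obtain ⟨a, b, hab⟩ := Fintype.exists_pair_of_one_lt_card (show 1 < Fintype.card ι by omega)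
    rcases hirr.1 (Submodule.span F {Pi.single a (1 : F)}) (by
      rintro _ ⟨g, hg, rfl⟩
      rw [Submodule.map_le_iff_le_comap, Submodule.span_singleton_le_iff_mem, Submodule.mem_comap]
      obtain ⟨z, hz⟩ := hall g hg
      beta_reduce
      rw [hz, toLin'_apply, smul_mulVec, one_mulVec]
      exact Submodule.smul_mem _ _ (Submodule.mem_span_singleton_self _)) with e | e
    · have h1 : (Pi.single a (1 : F) : ι → F) = 0 := Submodule.span_singleton_eq_bot.1 e
      simpa using congrFun h1 a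
    · obtain ⟨c, hc⟩ := Submodule.mem_span_singleton.1 (e.symm ▸ Submodule.mem_top : (Pi.single b (1 : F) : ι → F) ∈ _)
      simpa [hab.symm] using congrFun hc b
  refine ⟨inferInstance, h2, inferInstance, hcard, hsq', hcomm, hneg, hsc, fun g hg hc => ?_⟩
  by_contra hcon
  have h1 : ∀ x : R, (∀ h ∈ R, (x : GL ι F) * h = h * x) → x ∈ Subgroup.center R := fun x hx =>
    Subgroup.mem_center_iff.2 fun y => Subtype.ext (hx y y.2).symm
  obtain ⟨c1, hc1⟩ : ∃ c : Subgroup.center R, ((c : R) : GL ι F) = -1 :=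
    ⟨⟨⟨-1, hneg⟩, h1 _ fun h _ => (cinv h2).central h⟩, rfl⟩
  obtain ⟨c2, hc2⟩ : ∃ c : Subgroup.center R, ((c : R) : GL ι F) = g := ⟨⟨⟨g, hg⟩, h1 _ hc⟩, rfl⟩
  haveI := Fintype.ofFinite (Subgroup.center R)
  have h3 : ({1, c1, c2} : Finset (Subgroup.center R)).card = 3 := by
    rw [Finset.card_insert_of_notMem, Finset.card_pair]
    · intro e
      exact hcon (Or.inr (by rw [← hc2, ← e, hc1, mul_one]))
    · simp only [Finset.mem_insert, Finset.mem_singleton, not_or]
      refine ⟨fun e => (cinv (ι := ι) h2).ne (by rw [← hc1, ← e]; rfl),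
        fun e => hcon (Or.inl (by rw [← hc2, ← e]; rfl))⟩
  have := Finset.card_le_univ ({1, c1, c2} : Finset (Subgroup.center R))
  rw [← Nat.card_eq_fintype_card, hZ, h3] at this
  omega

variable {R : Subgroup (GL ι F)} {k : ℕ}

/-- A labelling of the group by a vector space over two elements. -/
theorem Ext.exists_label (E : Ext R k) : ∃ r : (Fin (2 * k) → Z2) → GL ι F, (∀ v, r v ∈ R) ∧
    (∀ v w, Peq (-1) (r v * r w) (r (v + w))) ∧ (∀ v, Peq (-1) (r v) 1 → v = 0) ∧
    ∀ g ∈ R, ∃ v, Peq (-1) g (r v) := by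
  classical
  haveI := E.fin
  haveI := E.ne
  have hc := cinv (ι := ι) E.two
  obtain ⟨C, hC⟩ : ∃ C : Subgroup R, ∀ x, x ∈ C ↔ Peq (-1) (x : GL ι F) 1 :=
    ⟨{ carrier := {x | Peq (-1) (x : GL ι F) 1}
       one_mem' := hc.refl _
       mul_mem' := fun {a b} (ha : Peq _ _ _) (hb : Peq _ _ _) => by simpa using hc.mul ha hb
       inv_mem' := fun {a} (ha : Peq _ _ _) => by simpa using hc.inv ha }, fun _ => Iff.rfl⟩
  haveI : C.Normal := ⟨fun x hx y => by
    rw [hC] at hx ⊢
    simpa [mul_assoc] using hc.conj (y : GL ι F) hx⟩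
  have hcardC : Nat.card C = 2 := by
    rw [Nat.card_eq_two_iff]
    refine ⟨1, ⟨⟨-1, E.neg⟩, (hC _).2 (Or.inr (mul_one _).symm)⟩, fun e => hc.ne ?_, ?_⟩
    · exact (congrArg (fun x : C => ((x : R) : GL ι F)) e).symm
    · refine Set.eq_univ_of_forall fun x => ?_
      rcases (hC _).1 x.2 with e | e
      · exact Or.inl (Subtype.ext (Subtype.ext e))
      · exact Or.inr (Subtype.ext (Subtype.ext (by simpa using e)))
  have hcardQ : Nat.card (R ⧸ C) = 2 ^ (2 * k) := by
    have h := Subgroup.card_eq_card_quotient_mul_card_subgroup C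
    rw [E.card, hcardC, add_comm, pow_succ] at h
    exact (Nat.eq_of_mul_eq_mul_right two_pos h).symm
  have hmk : ∀ x y : R, (x : R ⧸ C) = y ↔ Peq (-1) (x : GL ι F) y := fun x y => by
    rw [QuotientGroup.eq, hC, Subgroup.coe_mul, Subgroup.coe_inv]
    constructor
    · intro h
      have := hc.mul_left (x : GL ι F) h
      rw [mul_inv_cancel_left, mul_one] at this
      exact hc.symm this
    · intro h
      have := hc.mul_left (x : GL ι F)⁻¹ h
      rw [inv_mul_cancel] at this
      exact hc.symm this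
  letI : CommGroup (R ⧸ C) :=
    { (inferInstance : Group (R ⧸ C)) with
      mul_comm := fun a b => by
        obtain ⟨x, rfl⟩ := QuotientGroup.mk_surjective a
        obtain ⟨y, rfl⟩ := QuotientGroup.mk_surjective b
        rw [← QuotientGroup.mk_mul, ← QuotientGroup.mk_mul, hmk]
        exact E.comm x x.2 y y.2 }
  have h2 : ∀ a : Additive (R ⧸ C), 2 • a = 0 := fun a => by
    obtain ⟨x, hx⟩ := QuotientGroup.mk_surjective a.toMul
    rw [two_nsmul]
    refine Additive.toMul.injective ?_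
    rw [toMul_add, toMul_zero, ← hx, ← QuotientGroup.mk_mul, ← QuotientGroup.mk_one, hmk]
    exact E.sq x x.2
  letI : Module Z2 (Additive (R ⧸ C)) := AddCommGroup.zmodModule h2
  have hfr : finrank Z2 (Additive (R ⧸ C)) = 2 * k := by
    have h := Module.natCard_eq_pow_finrank (K := Z2) (V := Additive (R ⧸ C))
    rw [Nat.card_congr Additive.toMul, hcardQ, Nat.card_zmod] at h
    exact (Nat.pow_right_injective le_rfl h).symm
  obtain ⟨e, -⟩ : ∃ e : Additive (R ⧸ C) ≃+ (Fin (2 * k) → Z2), True :=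
    ⟨(Module.finBasisOfFinrankEq Z2 _ hfr).equivFun.toAddEquiv, trivial⟩
  obtain ⟨r, hr⟩ : ∃ r : (Fin (2 * k) → Z2) → R, ∀ v, (r v : R ⧸ C) = (e.symm v).toMul :=
    ⟨fun v => (e.symm v).toMul.out, fun v => QuotientGroup.out_eq' _⟩
  refine ⟨fun v => r v, fun v => (r v).2, fun v w => ?_, fun v hv => ?_, fun g hg => ?_⟩
  · have h := (hmk (r v * r w) (r (v + w))).1 (by rw [QuotientGroup.mk_mul, hr, hr, hr, map_add, toMul_add])
    simpa using h
  · have h := (hmk (r v) 1).2 (by simpa using hv)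
    rw [hr, QuotientGroup.mk_one, ← toMul_zero] at h
    have := congrArg e (Additive.toMul.injective h)
    simpa using this
  · refine ⟨e (Additive.ofMul ((⟨g, hg⟩ : R) : R ⧸ C)), ?_⟩
    exact (hmk ⟨g, hg⟩ (r _)).1 (by rw [hr]; simp)

theorem pw_val (s : Z2) : ((pw (-1 : GL ι F) s : GL ι F) : Matrix ι ι F) = sg F s • 1 := by
  rcases z2_cases s with rfl | rfl
  · simp [pw, sg_zero]
  · simp [pw, sg_one]

theorem sg_sum_eq_zero {V : Type*} [AddCommGroup V] [Module (ZMod 2) V] [Fintype V] (h2 : (2 : F) ≠ 0)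
    (Q : Qd V) {u : V} (hu : u ≠ 0) : ∑ p, sg F (Q.B u p) = 0 := by
  obtain ⟨w, -, hw⟩ := Q.exists_perp_one (S := ⊥) (v := u) hu
  have h := Equiv.sum_comp (Equiv.addRight w) fun p => sg F (Q.B u p)
  simp only [Equiv.coe_addRight, map_add, hw, sg_add, sg_one, mul_neg_one, Finset.sum_neg_distrib] at h
  exact (mul_eq_zero.1 (show (2 : F) * ∑ p, sg F (Q.B u p) = 0 by linear_combination -h)).resolve_left h2

/-- The system. -/
theorem Ext.exists_sys (E : Ext R k) (τ : Matrix ι ι F →ₗ[F] Matrix ι ι F) (hτ : ∀ a b, τ (a * b) = τ b * τ a)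
    (hτR : ∀ g ∈ R, τ (g : Matrix ι ι F) * g = 1) :
    ∃ S : Sys F (Matrix ι ι F) (Fin (2 * k) → Z2), S.τ = τ ∧ (∀ v, S.r v ∈ R) ∧
      (∀ g ∈ R, ∃ v, Peq (-1) g (S.r v)) ∧ Fintype.card ι = 2 ^ k := by
  classical
  haveI := E.fin
  haveI := E.ne
  have hc := cinv (ι := ι) E.two
  obtain ⟨r, hrR, hmul, hinj, hsurj⟩ := E.exists_label
  have hrinj : ∀ {v w}, Peq (-1) (r v) (r w) → v = w := fun {v w} h => by
    refine vadd_eq_zero (hinj _ (hc.trans (hc.symm (hmul v w)) (hc.trans (hc.mul_right _ h) (E.sq _ (hrR w)))))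
  choose b hb using fun v w => hc.exists_pw (E.comm _ (hrR v) _ (hrR w))
  choose qv hqv using fun v => hc.exists_pw (E.sq _ (hrR v))
  have hbu : ∀ {v w s}, r v * r w = pw (-1) s * (r w * r v) → b v w = s := fun h => hc.comm_sign_unique (hb _ _) h
  have hbadd : ∀ v v' w, b (v + v') w = b v w + b v' w := fun v v' w =>
    hbu (hc.comm_sign_peq (hmul v v') (hc.refl _) (hc.comm_sign_mul (hb v w) (hb v' w)))
  have hbsymm : ∀ v w, b v w = b w v := fun v w => hbu (hc.comm_sign_symm (hb w v))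
  have hb0 : ∀ w, b 0 w = 0 := fun w => by
    have := hbadd 0 0 w
    rwa [add_zero, z2_add_self] at this
  obtain ⟨B, hB⟩ : ∃ B : LinearMap.BilinForm Z2 (Fin (2 * k) → Z2), ∀ v w, B v w = b v w := by
    refine ⟨LinearMap.mk₂ Z2 b hbadd (fun c v w => ?_) (fun v w w' => ?_) (fun c v w => ?_), fun _ _ => rfl⟩
    · rcases z2_cases c with rfl | rfl <;> simp [hb0]
    · rw [hbsymm v (w + w'), hbadd, hbsymm w, hbsymm w']
    · rcases z2_cases c with rfl | rfl <;> simp [hbsymm v 0, hb0]
  have hpolar : ∀ v w, qv (v + w) = qv v + qv w + B v w := fun v w => by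
    obtain ⟨s, hs⟩ := hc.exists_pw (hmul v w)
    have h1 : r (v + w) * r (v + w) = r v * r w * (r v * r w) := by
      rw [hs, mul_assoc, ← mul_assoc (r (v + w)), ← hc.pw_comm s (r (v + w)), mul_assoc (pw _ s) (r (v + w)),
        ← mul_assoc, ← hc.pw_add, z2_add_self, hc.pw_zero, one_mul]
    have h2 : r v * r w * (r v * r w) = pw (-1) (b w v + (qv v + qv w)) := by
      calc r v * r w * (r v * r w) = r v * (r w * r v) * r w := by simp only [mul_assoc]
        _ = pw (-1) (b w v) * ((r v * r v) * (r w * r w)) := by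
          rw [hb w v, ← mul_assoc (r v) (pw _ _), ← hc.pw_comm]; simp only [mul_assoc]
        _ = _ := by rw [hqv, hqv, mul_one, mul_one, ← hc.pw_add, ← hc.pw_add]
    rw [h2, hqv, mul_one] at h1
    rw [hc.pw_inj h1, hB, hbsymm w v]
    abel
  have hsep : ∀ v, (∀ w, B v w = 0) → v = 0 := fun v hv => hinj v (E.centre _ (hrR v) fun g hg => by
    obtain ⟨w, hw⟩ := hsurj g hg
    have h1 := hb v w
    rw [← hB, hv, hc.pw_zero, one_mul] at h1
    have h2 := hc.comm_sign_peq (hc.refl (r v)) (hc.symm hw) (s := 0) (by rw [hc.pw_zero, one_mul]; exact h1)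
    rwa [hc.pw_zero, one_mul] at h2)
  obtain ⟨Q, hQq, hQB⟩ : ∃ Q : Qd (Fin (2 * k) → Z2), Q.q = qv ∧ Q.B = B := ⟨⟨qv, B, hpolar, hsep⟩, rfl, rfl⟩
  obtain ⟨m, hm⟩ : ∃ m : (Fin (2 * k) → Z2) → Matrix ι ι F, m = fun v => (r v : Matrix ι ι F) := ⟨_, rfl⟩
  obtain ⟨mi, hmi⟩ : ∃ mi : (Fin (2 * k) → Z2) → Matrix ι ι F, mi = fun v => (((r v)⁻¹ : GL ι F) : Matrix ι ι F) := ⟨_, rfl⟩
  have hcomm : ∀ v w, m v * m w = sg F (b v w) • (m w * m v) := fun v w => by
    have := congrArg Units.val (hb v w)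
    simp only [Units.val_mul, pw_val, smul_mul_assoc, one_mul] at this
    rw [hm]; exact this
  have hmim : ∀ v, mi v * m v = 1 ∧ m v * mi v = 1 := fun v => by simp [hm, hmi]
  obtain ⟨c, hcdef⟩ : ∃ c : (Fin (2 * k) → Z2) → Matrix ι ι F →ₗ[F] Matrix ι ι F,
      ∀ v X, c v X = ∑ p, sg F (b v p) • (m p * X * mi p) :=
    ⟨fun v => ∑ p, sg F (b v p) • ((LinearMap.mulRight F (mi p)).comp (LinearMap.mulLeft F (m p))), fun v X => by
      simp [LinearMap.sum_apply]⟩
  have hsum : ∀ u, u ≠ 0 → ∑ p, sg F (b u p) = 0 := fun u hu => by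
    have := sg_sum_eq_zero E.two Q hu
    simpa [hQB, hB] using this
  have h00 : ∀ p : Fin (2 * k) → Z2, b p 0 = 0 := fun p => by rw [hbsymm, hb0]
  have hN : (Fintype.card (Fin (2 * k) → Z2) : F) ≠ 0 := by simp [E.two]
  have hconj : ∀ p v, m p * m v * mi p = sg F (b p v) • m v := fun p v => by
    rw [hcomm, smul_mul_assoc, mul_assoc, (hmim p).2, mul_one]
  -- independence
  have hli : LinearIndependent F m := Fintype.linearIndependent_iff.2 fun g hg u => by
    have h := congrArg (c u) hg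
    rw [map_zero, map_sum] at h
    rw [Finset.sum_eq_single u (fun v _ hvu => ?_) (by simp)] at h
    · rw [map_smul, hcdef] at h
      simp only [hconj, smul_smul, hbsymm u, sg_sq, one_smul, Finset.sum_const, Finset.card_univ,
        ← Nat.cast_smul_eq_nsmul F] at h
      rcases smul_eq_zero.1 h with e | e
      · exact (mul_eq_zero.1 e).resolve_right hN
      · exact absurd e (by rw [hm]; exact Units.ne_zero _)
    · rw [map_smul, hcdef]
      simp only [hconj, smul_smul, hbsymm _ v, ← sg_add, ← hbadd, ← Finset.sum_smul]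
      rw [hsum _ fun e => hvu (vadd_eq_zero e).symm, mul_zero, zero_smul]
  -- spanning
  have hspan : ⊤ ≤ Submodule.span F (Set.range m) := fun X _ => by
    have heig : ∀ v, c v X ∈ Submodule.span F (Set.range m) := fun v => by
      obtain ⟨z, hz⟩ := E.sc (mi v * c v X) fun g hg => by
        obtain ⟨w, hw⟩ := hsurj g hg
        have key : mi v * c v X * m w = m w * (mi v * c v X) := by
          have e1 : m w * c v X = sg F (b v w) • (c v X * m w) := by
            rw [hcdef, Finset.mul_sum, Finset.sum_mul, Finset.smul_sum]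
            refine Fintype.sum_equiv (Equiv.addRight w) _ _ fun p => ?_
            rw [Equiv.coe_addRight, mul_smul_comm, smul_mul_assoc, smul_smul]
            obtain ⟨s, hs⟩ := hc.exists_pw (hmul w p)
            have e2 : m w * m p = sg F s • m (p + w) := by
              have := congrArg Units.val hs
              simp only [Units.val_mul, pw_val, smul_mul_assoc, one_mul] at this
              rw [hm, add_comm p]; exact this
            have e3 : mi (p + w) * m w = sg F s • mi p := by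
              have := congrArg (fun M => mi (p + w) * M * mi p) e2
              simp only [mul_assoc, (hmim p).2, mul_one] at this
              rw [this, smul_mul_assoc, mul_smul_comm, ← mul_assoc, (hmim (p + w)).1, one_mul]
            rw [hbsymm v (p + w), hbadd, sg_add, hbsymm v p, hbsymm v w, show sg F (b w v) * (sg F (b p v) * sg F (b w v))
              = sg F (b p v) by rw [mul_comm, mul_assoc, sg_sq, mul_one]]
            simp only [← mul_assoc, e2, smul_mul_assoc]
            rw [mul_assoc _ (mi (p + w)) (m w), e3, mul_smul_comm, smul_smul]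
          have e4 : m w * mi v = sg F (b v w) • (mi v * m w) := by
            have := congrArg (fun M => mi v * M * mi v) (hcomm v w)
            simp only [← mul_assoc, (hmim v).1, one_mul] at this
            rw [this, mul_smul_comm, smul_mul_assoc, mul_assoc (mi v), mul_assoc (m w), (hmim v).2, mul_one]
          rw [← mul_assoc (m w), e4, smul_mul_assoc, mul_assoc _ (m w), e1, mul_smul_comm, smul_smul, sg_sq,
            one_smul, mul_assoc]
        rcases hw with e | e <;> rw [e]
        · simpa [hm] using key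
        · simpa [hm] using key
      have : c v X = z • m v := by
        have := congrArg (m v * ·) hz
        simp only [← mul_assoc, (hmim v).2, one_mul, mul_smul_comm, mul_one] at this
        exact this
      rw [this]
      exact Submodule.smul_mem _ _ (Submodule.subset_span ⟨v, rfl⟩)
    have hall : ∑ v, c v X = (Fintype.card (Fin (2 * k) → Z2) : F) • X := by
      simp only [hcdef]
      rw [Finset.sum_comm, Finset.sum_eq_single (0 : Fin (2 * k) → Z2) (fun p _ hp => ?_) (by simp)]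
      · simp only [h00, sg_zero, one_smul, Finset.sum_const, Finset.card_univ, ← Nat.cast_smul_eq_nsmul F]
        congr 1
        rcases hmul 0 0 with e | e <;> rw [add_zero] at e
        · have e' : r 0 = 1 := mul_eq_left.1 e
          simp [hm, hmi, e']
        · have e' : r 0 = -1 := mul_left_cancel (e.trans ((hc.central _)))
          simp only [hm, hmi, e', hc.eps_inv]
          simp
      · rw [← Finset.sum_smul]
        simp only [hbsymm _ p]
        rw [hsum p hp, zero_smul]
    have : X = (Fintype.card (Fin (2 * k) → Z2) : F)⁻¹ • ∑ v, c v X := by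
      rw [hall, smul_smul, inv_mul_cancel₀ hN, one_smul]
    rw [this]
    exact Submodule.smul_mem _ _ (Submodule.sum_mem _ fun v _ => heig v)
  have hsq : ∀ v, m v * m v = sg F (qv v) • (1 : Matrix ι ι F) := fun v => by
    have := congrArg Units.val (hqv v)
    simp only [Units.val_mul, pw_val, smul_mul_assoc, one_mul, Units.val_one] at this
    rw [hm]; exact this
  refine ⟨{ toQd := Q, two := E.two, τ := τ, τ_mul := hτ, r := r, mul := fun v w => ?_, comm := fun v w => ?_,
            sq := fun v => ?_, adj := fun v => ?_, li := ?_, span := ?_ }, rfl, hrR, hsurj, ?_⟩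
  · rcases hmul v w with e | e
    · exact Or.inl (by rw [← Units.val_mul, e])
    · exact Or.inr (by rw [← Units.val_mul, e]; simp)
  · rw [hQB, hB]; simpa [hm] using hcomm v w
  · rw [hQq]; simpa [hm] using hsq v
  · rw [hQq]
    calc τ (r v : Matrix ι ι F) = τ (r v : Matrix ι ι F) * (r v * (sg F (qv v) • (r v : Matrix ι ι F))) := by
          have h1 : (r v : Matrix ι ι F) * r v = sg F (qv v) • 1 := by simpa [hm] using hsq v
          rw [mul_smul_comm, h1, smul_smul, sg_sq, one_smul, mul_one]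
      _ = _ := by rw [← mul_assoc, hτR _ (hrR v), one_mul]
  · simpa [hm] using hli
  · simpa [hm] using hspan
  · have hbas := Module.finrank_eq_card_basis (Basis.mk hli hspan)
    rw [Module.finrank_matrix, Module.finrank_self, mul_one, Fintype.card_fun, ZMod.card, Fintype.card_fin, two_mul,
      pow_add, ← pow_two, ← pow_two] at hbas
    exact Nat.pow_left_injective two_ne_zero hbas

section
variable {S : Sys F (Matrix ι ι F) (Fin (2 * k) → Z2)} (hSR : ∀ v, S.r v ∈ R)
  (hsurj : ∀ g ∈ R, ∃ v, Peq (-1) g (S.r v))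

theorem peq_coe {g h : S.Iso} : Peq S.epsI g h ↔ Peq (-1) (g : GL ι F) h := by
  rw [S.peq_iff]
  refine or_congr ⟨fun e => Units.ext e, congrArg Units.val⟩ ⟨fun e => Units.ext ?_, fun e => ?_⟩
  · simpa using e
  · rw [e]; simp

include hSR hsurj

theorem mem_N_iff (E : Ext R k) (g : S.Iso) :
    g ∈ S.gsys.N ↔ (g : GL ι F) ∈ Subgroup.normalizer (R : Set (GL ι F)) := by
  haveI := E.fin
  haveI := E.ne
  have hc := cinv (ι := ι) E.two
  have hpe : ∀ {v} {x : GL ι F}, Peq (-1) x (S.r v) → x ∈ R := fun {v x} hx => by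
    rcases hx with e | e
    · exact e ▸ hSR v
    · exact e ▸ mul_mem E.neg (hSR v)
  constructor
  · intro hg
    have hmem : ∀ x ∈ R, (g : GL ι F) * x * (g : GL ι F)⁻¹ ∈ R := fun x hx => by
      obtain ⟨v, hv⟩ := hsurj x hx
      obtain ⟨w, hw⟩ := hg v
      have h1 : Peq (-1) ((g : GL ι F) * S.r v * (g : GL ι F)⁻¹) (S.r w) := peq_coe.1 hw
      exact hpe (hc.trans (hc.conj _ hv) h1)
    rw [Subgroup.mem_normalizer_iff]
    intro x
    refine ⟨hmem x, fun hx => ?_⟩
    have hinj : Function.Injective fun y : R => (⟨_, hmem y y.2⟩ : R) := fun y y' e => by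
      simpa using congrArg Subtype.val e
    obtain ⟨y, hy⟩ := (Finite.injective_iff_surjective.1 hinj) ⟨_, hx⟩
    have : (y : GL ι F) = x := by simpa using congrArg Subtype.val hy
    exact this ▸ y.2
  · intro hg v
    obtain ⟨w, hw⟩ := hsurj _ ((Subgroup.mem_normalizer_iff.1 hg _).1 (hSR v))
    exact ⟨w, peq_coe.2 hw⟩

theorem noHalf (E : Ext R k) (hminus : Cfsg.Geo.IsOfMinusType k R) (U : Submodule Z2 (Fin (2 * k) → Z2))
    (hU : ∀ u ∈ U, S.q u = 0) : finrank Z2 U < k := by
  classical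
  haveI := E.fin
  haveI := E.ne
  have hc := cinv (ι := ι) E.two
  have hB : ∀ u ∈ U, ∀ u' ∈ U, S.B u u' = 0 := fun u hu u' hu' => by
    have h := S.polar u u'
    rw [hU _ (add_mem hu hu'), hU _ hu, hU _ hu', zero_add, zero_add] at h
    exact h.symm
  have hmulg : ∀ v w, Peq (-1) (S.r v * S.r w) (S.r (v + w)) := fun v w => peq_coe.1 (S.gsys.mul v w)
  obtain ⟨A, hA⟩ : ∃ A : Subgroup R, ∀ x, x ∈ A ↔ ∃ u ∈ U, Peq (-1) (x : GL ι F) (S.r u) :=
    ⟨{ carrier := {x | ∃ u ∈ U, Peq (-1) (x : GL ι F) (S.r u)}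
       one_mem' := ⟨0, zero_mem _, hc.symm (peq_coe.1 S.gsys.r_zero)⟩
       mul_mem' := by
         rintro a b ⟨u, hu, hau⟩ ⟨u', hu', hbu⟩
         exact ⟨u + u', add_mem hu hu', by simpa using hc.trans (hc.mul hau hbu) (hmulg u u')⟩
       inv_mem' := by
         rintro a ⟨u, hu, hau⟩
         exact ⟨u, hu, by simpa [S.gsys_r, Sys.rI] using hc.trans (hc.inv hau) (peq_coe.1 (S.gsys.r_inv u))⟩ }, fun _ => Iff.rfl⟩
  have hAc : IsMulCommutative A := ⟨⟨fun x y => by
    obtain ⟨u, hu, hxu⟩ := (hA _).1 x.2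
    obtain ⟨u', hu', hyu⟩ := (hA _).1 y.2
    have h := congrArg (fun g : S.Iso => (g : GL ι F)) (S.gsys.comm u u')
    rw [show S.gsys.B u u' = 0 from hB u hu u' hu'] at h
    have h' : S.r u * S.r u' = pw (-1) 0 * (S.r u' * S.r u) := by simpa [pw, S.gsys_r, Sys.rI] using h
    have h2 := hc.comm_sign_peq (hc.symm hxu) (hc.symm hyu) h'
    rw [hc.pw_zero, one_mul] at h2
    exact Subtype.ext (Subtype.ext h2)⟩⟩
  have hA2 : ∀ x ∈ A, x * x = 1 := fun x hx => by
    obtain ⟨u, hu, hxu⟩ := (hA _).1 hx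
    obtain ⟨s, hs⟩ := hc.exists_pw hxu
    refine Subtype.ext ?_
    rw [Subgroup.coe_mul, hs, mul_assoc, ← mul_assoc (S.r u), ← hc.pw_comm s, mul_assoc _ (S.r u), ← mul_assoc,
      ← hc.pw_add, z2_add_self, hc.pw_zero, one_mul]
    exact Units.ext (by rw [Units.val_mul, S.sq, hU u hu, sg_zero, one_smul]; simp)
  have hcard : Nat.card A = 2 * 2 ^ finrank Z2 U := by
    have hmem : ∀ p : Z2 × U, pw (-1 : GL ι F) p.1 * S.r (p.2 : Fin (2 * k) → Z2) ∈ R := fun p =>
      mul_mem (by rcases z2_cases p.1 with e | e <;> rw [e] <;> simp [pw, E.neg]) (hSR _)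
    obtain ⟨f, hf⟩ : ∃ f : Z2 × U → A, ∀ p, ((f p : R) : GL ι F) = pw (-1) p.1 * S.r (p.2 : Fin (2 * k) → Z2) :=
      ⟨fun p => ⟨⟨_, hmem p⟩, (hA _).2 ⟨_, p.2.2, hc.pw_mul_peq _ _⟩⟩, fun _ => rfl⟩
    have hfb : Function.Bijective f := by
      constructor
      · rintro ⟨a, u⟩ ⟨a', u'⟩ e
        have e' := (hf (a, u)).symm.trans ((congrArg (fun x : A => ((x : R) : GL ι F)) e).trans (hf (a', u')))
        obtain rfl : u = u' := Subtype.ext (S.gsys.r_inj (peq_coe.2
          (hc.trans (hc.symm (hc.pw_mul_peq a (S.r (u : Fin (2 * k) → Z2)))) (by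
            show Peq (-1) (pw (-1 : GL ι F) a * S.r (u : Fin (2 * k) → Z2)) _
            rw [e']; exact hc.pw_mul_peq a' _))))
        obtain rfl : a = a' := hc.pw_inj (mul_right_cancel e')
        rfl
      · intro x
        obtain ⟨u, hu, hxu⟩ := (hA _).1 x.2
        obtain ⟨s, hs⟩ := hc.exists_pw hxu
        exact ⟨(s, ⟨u, hu⟩), Subtype.ext (Subtype.ext ((hf _).trans hs.symm))⟩
    rw [← Nat.card_eq_of_bijective f hfb, Nat.card_prod, Nat.card_zmod,
      Module.natCard_eq_pow_finrank (K := Z2) (V := U), Nat.card_zmod]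
  have := hminus A hAc hA2
  rw [hcard, ← pow_succ'] at this
  have := (Nat.pow_lt_pow_iff_right (le_refl 2)).1 this
  omega

theorem exists_half (E : Ext R k) (hplus : Cfsg.Geo.IsOfPlusType k R) :
    ∃ U : Submodule Z2 (Fin (2 * k) → Z2), (∀ u ∈ U, S.q u = 0) ∧ k ≤ finrank Z2 U := by
  classical
  haveI := E.fin
  haveI := E.ne
  have hc := cinv (ι := ι) E.two
  obtain ⟨A, hAc, hA2, hAcard⟩ := hplus
  choose f hf using fun a : A => hsurj ((a : R) : GL ι F) (a : R).2
  have hmulg : ∀ v w, Peq (-1) (S.r v * S.r w) (S.r (v + w)) := fun v w => peq_coe.1 (S.gsys.mul v w)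
  have hrinj : ∀ {v w}, Peq (-1) (S.r v) (S.r w) → v = w := fun h => S.gsys.r_inj (peq_coe.2 h)
  have hadd : ∀ a a', f (a * a') = f a + f a' := fun a a' => hrinj (hc.trans (hc.symm (hf (a * a')))
    (by simpa using hc.trans (hc.mul (hf a) (hf a')) (hmulg _ _)))
  have h1 : f 1 = 0 := by
    have := hadd 1 1
    rwa [mul_one, left_eq_add] at this
  obtain ⟨U, hU⟩ : ∃ U : Submodule Z2 (Fin (2 * k) → Z2), ∀ u, u ∈ U ↔ ∃ a, f a = u :=
    ⟨{ carrier := {u | ∃ a, f a = u}
       zero_mem' := ⟨1, h1⟩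
       add_mem' := fun {u u'} ⟨a, ha⟩ ⟨a', ha'⟩ => ⟨a * a', by rw [hadd, ha, ha']⟩
       smul_mem' := fun c u hu => by
         rcases z2_smul c u with e | e <;> rw [e]
         · exact ⟨1, h1⟩
         · exact hu }, fun _ => Iff.rfl⟩
  refine ⟨U, fun u hu => ?_, ?_⟩
  · obtain ⟨a, rfl⟩ := (hU u).1 hu
    have h2 := congrArg (fun x : R => (x : GL ι F)) (hA2 a a.2)
    obtain ⟨s, hs⟩ := hc.exists_pw (hf a)
    simp only [Subgroup.coe_mul, OneMemClass.coe_one] at h2
    rw [hs, mul_assoc, ← mul_assoc (S.r (f a)), ← hc.pw_comm s, mul_assoc _ (S.r (f a)), ← mul_assoc,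
      ← hc.pw_add, z2_add_self, hc.pw_zero, one_mul] at h2
    have h3 := S.sq (f a)
    rw [← Units.val_mul, h2, Units.val_one, ← one_smul F (1 : Matrix ι ι F), smul_smul, mul_one] at h3
    haveI := S.nontrivial
    refine (Sys.sg_eq_one ?_ E.two)
    by_contra hne
    exact smul_ne_zero (sub_ne_zero.2 hne) one_ne_zero
      (show (sg F (S.q (f a)) - 1) • (1 : Matrix ι ι F) = 0 by rw [sub_smul, ← h3, sub_self])
  · by_contra hlt
    push Not at hlt
    have hle : Nat.card A ≤ 2 * Nat.card U := by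
      have hs : ∀ a : A, ∃ s : Z2, ((a : R) : GL ι F) = pw (-1) s * S.r (f a) := fun a => hc.exists_pw (hf a)
      choose sf hsf using hs
      have hinj : Function.Injective fun a : A => ((sf a, ⟨f a, (hU _).2 ⟨a, rfl⟩⟩) : Z2 × U) := fun a a' e => by
        simp only [Prod.mk.injEq, Subtype.mk.injEq] at e
        exact Subtype.ext (Subtype.ext (by rw [hsf a, hsf a', e.1, e.2]))
      have := Nat.card_le_card_of_injective _ hinj
      rwa [Nat.card_prod, Nat.card_zmod] at this
    rw [hAcard, Module.natCard_eq_pow_finrank (K := Z2) (V := U), Nat.card_zmod, ← pow_succ',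
      Nat.pow_le_pow_iff_right (le_refl 2)] at hle
    omega

end

end Cfsg.Agent.Classical.CliffordTwo.Bridge
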