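import Cfsg.Agent.Lib.Classical.CliffordTwo.Control

/-!
The doubly controlled elements, described by vectors of the space.
-/

set_option autoImplicit false
set_option linter.unusedSectionVars false

namespace Cfsg.Agent.Classical.CliffordTwo

open Module

local notation "Z2" => ZMod 2

/-- The conditions on two perpendicular hyperbolic pairs and a perpendicular vector. -/
structure CCok {V : Type*} [AddCommGroup V] [Module (ZMod 2) V] (Q : Qd V) (z x z' x' w : V) : Prop where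
  qz : Q.q z = 0
  qx : Q.q x = 0
  qz' : Q.q z' = 0
  qx' : Q.q x' = 0
  zx : Q.B z x = 1
  zx' : Q.B z' x' = 1
  z_z' : Q.B z z' = 0
  z_x' : Q.B z x' = 0
  x_z' : Q.B x z' = 0
  x_x' : Q.B x x' = 0
  z_w : Q.B z w = 0
  x_w : Q.B x w = 0
  z'_w : Q.B z' w = 0
  x'_w : Q.B x' w = 0

namespace Sys

variable {F : Type*} [Field F] {A : Type*} [Ring A] [Algebra F A] {V : Type*} [AddCommGroup V] [Module (ZMod 2) V]
  (S : Sys F A V)

/-- The value of a negative projection. -/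
def pmVal (z : V) : A := (2 : F)⁻¹ • (1 - (S.r z : A))

/-- The value of a doubly controlled element. -/
def ccVal (z z' w : V) : A := 1 + S.pmVal z * S.pmVal z' * ((S.r w : A) - 1)

/-- The group contains all doubly controlled elements. -/
def HasCC (H : Subgroup S.Iso) : Prop :=
  ∀ z x z' x' w : V, CCok S.toQd z x z' x' w → ∃ g ∈ H, ((g : Aˣ) : A) = S.ccVal z z' w

theorem ctl_val (h : HPair S.toQd) (g : (S.sub h).Iso) : (((S.ctl h g : S.Iso) : Aˣ) : A) =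
    1 + S.Pm h * ((((g : (S.subAlg h)ˣ) : S.subAlg h) : A) - 1) := by
  rw [ctl_apply, Psi_val]
  simp only [OneMemClass.coe_one, Units.val_one]
  rw [pr, mul_one, mul_sub, mul_one, ← S.Pp_add_Pm h]
  abel

theorem sub_pmVal (h : HPair S.toQd) (u : h.W) : ((S.sub h).pmVal u : A) = S.pmVal (u : V) := rfl

theorem sub_ccVal (h : HPair S.toQd) (z z' w : h.W) :
    ((S.sub h).ccVal z z' w : A) = S.ccVal (z : V) (z' : V) (w : V) := rfl

/-- A doubly controlled element centralised by a pair is a diagonal one. -/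
theorem hasCC_sub (h : HPair S.toQd) {H : Subgroup S.Iso} (hcc : S.HasCC H) :
    (S.sub h).HasCC (H.comap (S.dia h)) := by
  rintro z x z' x' w ⟨h1, h2, h3, h4, h5, h6, h7, h8, h9, h10, h11, h12, h13, h14⟩
  obtain ⟨g, hg, hval⟩ := hcc z x z' x' w ⟨h1, h2, h3, h4, h5, h6, h7, h8, h9, h10, h11, h12, h13, h14⟩
  have hmem : ((g : Aˣ) : A) ∈ S.subAlg h := by rw [hval, ← S.sub_ccVal h]; exact SetLike.coe_mem _
  have h1' := S.mem_Iso.1 g.2
  have h2' : ((g : Aˣ) : A) * S.τ ((g : Aˣ) : A) = 1 := by rw [S.τ_eq_inv g.2, Units.mul_inv]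
  refine ⟨(S.sub h).mkIso ⟨_, hmem⟩ (Subtype.ext h1') (Subtype.ext h2'), ?_, ?_⟩
  · show S.dia h _ ∈ H
    rw [show S.dia h ((S.sub h).mkIso ⟨_, hmem⟩ (Subtype.ext h1') (Subtype.ext h2')) = g from
      S.ext_val (by rw [S.dia_val]; rfl)]
    exact hg
  · exact Subtype.ext (by rw [S.sub_ccVal h]; exact hval)

variable [Finite V] [Finite A]

/-- The control theorem. -/
theorem hasCC_of_not_le (hd : 8 ≤ finrank (ZMod 2) V) {m : ℕ} (hm : finrank (ZMod 2) V = 2 * m)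
    {H : Subgroup S.Iso} (hNO : S.NO ≤ H) (hH : ¬ H ≤ S.gsys.N) : S.HasCC H := by
  intro z x z' x' w c
  obtain ⟨h, hz, hx⟩ : ∃ h : HPair S.toQd, h.z = z ∧ h.x = x := ⟨⟨z, x, c.qz, c.qx, c.zx⟩, rfl, rfl⟩
  have hz' : z' ∈ h.W := h.mem_W.2 ⟨by rw [hz]; exact c.z_z', by rw [hx]; exact c.x_z'⟩
  have hx' : x' ∈ h.W := h.mem_W.2 ⟨by rw [hz]; exact c.z_x', by rw [hx]; exact c.x_x'⟩
  have hw : w ∈ h.W := h.mem_W.2 ⟨by rw [hz]; exact c.z_w, by rw [hx]; exact c.x_w⟩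
  obtain ⟨h', hh'z, hh'x⟩ : ∃ h' : HPair (S.sub h).toQd, h'.z = ⟨z', hz'⟩ ∧ h'.x = ⟨x', hx'⟩ :=
    ⟨⟨⟨z', hz'⟩, ⟨x', hx'⟩, c.qz', c.qx', c.zx'⟩, rfl, rfl⟩
  have hwW : (⟨w, hw⟩ : h.W) ∈ h'.W := h'.mem_W.2 ⟨by rw [hh'z]; exact c.z'_w, by rw [hh'x]; exact c.x'_w⟩
  refine ⟨_, S.ctl_ctl_mem hd hm hNO hH h h' ⟨⟨w, hw⟩, hwW⟩, ?_⟩
  rw [ctl_val, ctl_val]
  simp only [Subalgebra.coe_add, Subalgebra.coe_mul, Subalgebra.coe_one, AddSubgroupClass.coe_sub]
  rw [show S.ccVal z z' w = 1 + S.pmVal z * (S.pmVal z' * ((S.r w : A) - 1)) by rw [ccVal, mul_assoc],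
    add_sub_cancel_left, ← hz]
  simp only [Pm, pmVal]
  rw [hh'z]
  rfl

end Sys

end Cfsg.Agent.Classical.CliffordTwo
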