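import Cfsg.Agent.Lib.Classical.CliffordTwo.SympRep
import Cfsg.Agent.Lib.Classical.MaxSpFourClifford

/-!
Minus type: an overgroup of the derived normaliser with all doubly controlled elements is the whole symplectic group.
-/

set_option autoImplicit false
set_option linter.unusedSectionVars false

namespace Cfsg.Agent.Classical.CliffordTwo

open Module Matrix

local notation "Z2" => ZMod 2

/-- No totally singular subspace of the given dimension. -/
def Qd.NoHalf {V : Type*} [AddCommGroup V] [Module (ZMod 2) V] (Q : Qd V) (m : ℕ) : Prop :=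
  ∀ U : Submodule (ZMod 2) V, (∀ u ∈ U, Q.q u = 0) → finrank (ZMod 2) U < m

theorem HPair.noHalf {V : Type*} [AddCommGroup V] [Module (ZMod 2) V] [Finite V] {Q : Qd V} (h : HPair Q) {m : ℕ}
    (hm : Q.NoHalf (m + 1)) : h.qd.NoHalf m := by
  intro U hU
  obtain ⟨U', hU'⟩ : ∃ U', U' = U.map h.W.subtype ⊔ Submodule.span Z2 ({h.z} : Set V) := ⟨_, rfl⟩
  have h1 : ∀ u ∈ U', Q.q u = 0 := fun u hu => by
    obtain ⟨a, ⟨a', ha', rfl⟩, b, hb, rfl⟩ := Submodule.mem_sup.1 (hU' ▸ hu)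
    have hq : Q.q (a' : V) = 0 := hU a' ha'
    rcases mem_span_one hb with rfl | rfl
    · rw [add_zero]; exact hq
    · rw [Submodule.subtype_apply, Q.polar, hq, h.qz, Q.symm, (h.mem_W.1 a'.2).1]; rfl
  have h2 : finrank Z2 U' = finrank Z2 U + 1 := by
    have hdis : U.map h.W.subtype ⊓ Submodule.span Z2 ({h.z} : Set V) = ⊥ := eq_bot_iff.2 fun u ⟨⟨a, ha, e⟩, hb⟩ => by
      rcases mem_span_one hb with e' | e'
      · exact e' ▸ zero_mem _
      · exfalso
        have := (h.mem_W.1 a.2).2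
        rw [show (a : V) = h.z from e.trans e', h.bxz] at this
        exact one_ne_zero this
    have h3 := Submodule.finrank_sup_add_finrank_inf_eq (U.map h.W.subtype) (Submodule.span Z2 ({h.z} : Set V))
    rw [hdis, finrank_bot, finrank_span_singleton h.z_ne, Submodule.finrank_map_subtype_eq, ← hU'] at h3
    omega
  have := hm U' h1
  omega

theorem nsmul_three {V : Type*} [AddCommGroup V] [Module (ZMod 2) V] (v : V) : (3 : ℕ) • v = v := by
  rw [show (3 : ℕ) = 2 + 1 from rfl, succ_nsmul, two_nsmul, vadd_self, zero_add]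

theorem nsmul_four {V : Type*} [AddCommGroup V] [Module (ZMod 2) V] (v : V) : (4 : ℕ) • v = 0 := by
  rw [show (4 : ℕ) = 2 + 2 from rfl, add_nsmul, two_nsmul, vadd_self]

theorem zsmul_three {V : Type*} [AddCommGroup V] [Module (ZMod 2) V] (v : V) : (3 : ℤ) • v = v := by
  rw [show (3 : ℤ) = 2 + 1 from rfl, add_zsmul, two_zsmul, vadd_self, one_zsmul, zero_add]

theorem zsmul_four {V : Type*} [AddCommGroup V] [Module (ZMod 2) V] (v : V) : (4 : ℤ) • v = 0 := by
  rw [show (4 : ℤ) = 2 + 2 from rfl, add_zsmul, two_zsmul, vadd_self]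

namespace Sys

variable {F : Type*} [Field F] [Fintype F] {A : Type*} [Ring A] [Algebra F A] [Finite A] {V : Type*} [AddCommGroup V]
  [Module (ZMod 2) V] [Finite V] (S : Sys F A V)

/-- The base of the induction. -/
theorem symp_base (P : S.SRep 2) (hd : finrank (ZMod 2) V = 4) (hmin : S.toQd.NoHalf 2)
    (hp : (Fintype.card F).Prime) {H : Subgroup S.Iso} (hNO : S.NO ≤ H) (hH : ¬ H ≤ S.gsys.N) : H = ⊤ := by
  classical
  obtain ⟨z, -, hz0, hqz⟩ := S.toQd.exists_singular (W := ⊤) (by rw [finrank_top, hd]; norm_num)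
  obtain ⟨h, hhz⟩ := S.exists_hpair (by omega) hz0 hqz
  have hW := h.finrank_W
  have hq1 : ∀ w : h.W, w ≠ 0 → S.q (w : V) = 1 := fun w hw => z2_eq_one fun e => by
    have := h.noHalf (m := 1) hmin (Submodule.span Z2 {w}) fun u hu => by
      rcases mem_span_one hu with rfl | rfl
      · exact h.qd.q_zero
      · exact e
    rw [finrank_span_singleton hw] at this
    exact lt_irrefl 1 this
  obtain ⟨b⟩ : Nonempty (Basis (Fin 2) Z2 h.W) :=
    ⟨(Module.finBasis Z2 h.W).reindex (finCongr (by omega))⟩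
  obtain ⟨s₁, s₂, hs₁, hs₂⟩ : ∃ s₁ s₂ : h.W, s₁ = b 0 ∧ s₂ = b 1 := ⟨_, _, rfl, rfl⟩
  have hs10 : s₁ ≠ 0 := hs₁ ▸ b.ne_zero 0
  have hs20 : s₂ ≠ 0 := hs₂ ▸ b.ne_zero 1
  have hs12 : s₁ + s₂ ≠ 0 := fun e => by
    have := vadd_eq_zero e
    rw [hs₁, hs₂] at this
    exact absurd (b.injective this) (by decide)
  have hB12 : S.B (s₁ : V) (s₂ : V) = 1 := by
    have h1 := hq1 _ hs12
    rw [Submodule.coe_add, S.polar, hq1 _ hs10, hq1 _ hs20] at h1
    exact (zero_add _).symm.trans h1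
  obtain ⟨v, hv⟩ : ∃ v : Fin 5 → V, v = ![h.z, h.x, h.z + h.x + s₁, h.z + h.x + s₂, h.z + h.x + (s₁ + s₂)] := ⟨_, rfl⟩
  have m1 := h.mem_W.1 s₁.2
  have m2 := h.mem_W.1 s₂.2
  have hqv : ∀ i, S.q (v i) = 0 := fun i => by
    fin_cases i <;>
      simp [hv, S.polar, h.qz, h.qx, h.bzx, hq1 _ hs10, hq1 _ hs20, hB12, m1, m2] <;> rfl
  have hBv : ∀ i j, i ≠ j → S.B (v i) (v j) = 1 := fun i j hij => by
    fin_cases i <;> fin_cases j <;> simp at hij <;>
      simp [hv, h.bzx, h.bxz, hB12, m1, m2, S.toQd.self_perp, S.toQd.symm _ h.z, S.toQd.symm _ h.x,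
        S.toQd.symm (s₂ : V) (s₁ : V)] <;> rfl
  obtain ⟨γ, hγ⟩ : ∃ γ, γ = fun i => P.toGL (S.rI (v i)) := ⟨_, rfl⟩
  obtain ⟨R4, hR4⟩ : ∃ R4, R4 = S.gsys.R.map P.toGL := ⟨_, rfl⟩
  have heps : P.toGL S.epsI = -1 := Units.ext (by simp [SRep.toGL_val, epsI_val])
  have hpw : ∀ s, P.toGL (pw S.epsI s) = if s = 0 then 1 else -1 := fun s => by
    rcases z2_cases s with rfl | rfl
    · simp [pw]
    · simp [pw, heps]
  have hanti : ∀ i j, i ≠ j → γ i * γ j = -(γ j * γ i) := fun i j hij => by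
    simp only [hγ, ← map_mul]
    rw [show S.rI (v i) * S.rI (v j) = pw S.epsI (S.B (v i) (v j)) * (S.rI (v j) * S.rI (v i)) from S.gsys.comm _ _,
      hBv i j hij, map_mul, hpw, if_neg one_ne_zero, neg_one_mul, map_mul]
  have hspan : ∀ K : Submodule Z2 V, (∀ i, v i ∈ K) → ∀ y, y ∈ K := fun K hK y => by
    have hz := hK 0
    have hx := hK 1
    have hs : ∀ {s : V}, h.z + h.x + s ∈ K → s ∈ K := fun {s} hs => by
      have := add_mem hs (add_mem hz hx)
      simp only [hv, Matrix.cons_val_zero, Matrix.cons_val_one] at this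
      rwa [add_comm (h.z + h.x) s, add_assoc, vadd_self, add_zero] at this
    have hsW : ∀ w : h.W, (w : V) ∈ K := fun w => by
      rw [← b.sum_repr w, Fin.sum_univ_two, ← hs₁, ← hs₂, Submodule.coe_add, Submodule.coe_smul, Submodule.coe_smul]
      refine add_mem (K.smul_mem _ (hs ?_)) (K.smul_mem _ (hs ?_))
      · simpa [hv] using hK 2
      · simpa [hv] using hK 3
    have e : y = (y + S.B h.x y • h.z + S.B h.z y • h.x) + (S.B h.x y • h.z + S.B h.z y • h.x) := by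
      rw [add_assoc y, add_assoc y, vadd_self, add_zero]
    rw [e]
    refine add_mem (hsW ⟨_, h.decomp y⟩) (add_mem (K.smul_mem _ ?_) (K.smul_mem _ ?_))
    · simpa [hv] using hz
    · simpa [hv] using hx
  have hgen : R4 ≤ Subgroup.closure (Set.range γ) := by
    obtain ⟨C, hC⟩ : ∃ C, C = (Subgroup.closure (Set.range γ)).comap P.toGL := ⟨_, rfl⟩
    have hγC : ∀ i, S.rI (v i) ∈ C := fun i => hC ▸ Subgroup.subset_closure ⟨i, by simp [hγ]⟩
    have hepsC : S.epsI ∈ C := by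
      have h1 : S.rI (v 0) * S.rI (v 1) = pw S.epsI (S.B (v 0) (v 1)) * (S.rI (v 1) * S.rI (v 0)) := S.gsys.comm _ _
      rw [hBv 0 1 (by decide), S.cinv_epsI.pw_one, eq_comm, ← eq_mul_inv_iff_mul_eq] at h1
      rw [h1]
      exact mul_mem (mul_mem (hγC 0) (hγC 1)) (inv_mem (mul_mem (hγC 1) (hγC 0)))
    obtain ⟨K, hK⟩ : ∃ K : Submodule Z2 V, ∀ y, y ∈ K ↔ S.rI y ∈ C :=
      ⟨{ carrier := {y | S.rI y ∈ C}
         zero_mem' := S.cinv_epsI.eps_mem hepsC S.gsys.r_zero (one_mem _)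
         add_mem' := fun {a b} ha hb => S.cinv_epsI.eps_mem hepsC (S.cinv_epsI.symm (S.gsys.mul a b)) (mul_mem ha hb)
         smul_mem' := fun c y hy => by
           rcases z2_smul c y with e | e <;> rw [e]
           · exact S.cinv_epsI.eps_mem hepsC S.gsys.r_zero (one_mem _)
           · exact hy }, fun _ => Iff.rfl⟩
    rw [hR4, Subgroup.map_le_iff_le_comap, ← hC]
    rintro g ⟨y, hy⟩
    exact S.cinv_epsI.eps_mem hepsC hy ((hK y).1 (hspan K (fun i => (hK _).2 (hγC i)) y))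
  have hcz : ∀ X : Matrix (Fin 2 ⊕ Fin 2) (Fin 2 ⊕ Fin 2) F,
      (∀ i, X * (γ i : Matrix _ _ F) = (γ i : Matrix _ _ F) * X) → ∃ c : F, X = c • 1 := fun X hX => by
    obtain ⟨a, rfl⟩ := P.e.surjective X
    obtain ⟨K, hK⟩ : ∃ K : Submodule Z2 V, ∀ y, y ∈ K ↔ a * (S.r y : A) = (S.r y : A) * a :=
      ⟨{ carrier := {y | a * (S.r y : A) = (S.r y : A) * a}
         zero_mem' := by rcases S.r_zero with e | e <;> simp [e]
         add_mem' := fun {y y'} (hy : _ = _) (hy' : _ = _) => by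
           show _ = _
           rcases S.mul y y' with e | e
           · rw [← e, ← mul_assoc, hy, mul_assoc, hy', mul_assoc]
           · rw [show (S.r (y + y') : A) = -((S.r y : A) * S.r y') by rw [e, neg_neg], mul_neg, neg_mul, ← mul_assoc,
               hy, mul_assoc, hy', mul_assoc]
         smul_mem' := fun c y hy => by
           rcases z2_smul c y with e | e <;> rw [e]
           · show _ = _
             rcases S.r_zero with e | e <;> simp [e]
           · exact hy }, fun _ => Iff.rfl⟩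
    have hall := hspan K fun i => (hK _).2 (P.e.injective (by
      rw [map_mul, map_mul]
      have := hX i
      simpa [hγ, SRep.toGL_val, rI_val] using this))
    obtain ⟨u, c, huc⟩ := S.eq_smul_of_comm (a := a) fun w => ⟨0, by rw [sg_zero, one_smul]; exact (hK w).1 (hall w)⟩
    rcases eq_or_ne c 0 with rfl | hc
    · exact ⟨0, by rw [huc]; simp⟩
    have hu : u = 0 := S.sep u fun w => S.support_of_comm (a := a) (s := 0)
      (by rw [sg_zero, one_smul]; exact (hK w).1 (hall w)) (by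
        rw [huc, S.repr_r_smul, if_pos rfl]; exact hc)
    rcases S.r_zero with e | e
    · exact ⟨c, by rw [huc, hu, e, map_smul, map_one]⟩
    · exact ⟨-c, by rw [huc, hu, e, map_smul, map_neg, map_one, smul_neg, neg_smul]⟩
  have hsq : ∀ g ∈ R4, g * g = 1 ∨ g * g = -1 := fun g hg => by
    obtain ⟨x, ⟨y, hy⟩, rfl⟩ := hR4 ▸ hg
    rw [← map_mul, show x * x = pw S.epsI (S.q y) by
      rw [GSys.sq_eq_of_peq (S := S.gsys) hy]; exact S.gsys.sq y, hpw]
    split_ifs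
    · exact Or.inl rfl
    · exact Or.inr rfl
  have hcomm : ∀ g ∈ R4, ∀ g' ∈ R4, g * g' = g' * g ∨ g * g' = -(g' * g) := fun g hg g' hg' => by
    obtain ⟨x, ⟨y, hy⟩, rfl⟩ := hR4 ▸ hg
    obtain ⟨x', ⟨y', hy'⟩, rfl⟩ := hR4 ▸ hg'
    have h1 := S.cinv_epsI.comm_sign_peq (S.cinv_epsI.symm hy) (S.cinv_epsI.symm hy') (S.gsys.comm y y')
    rw [← map_mul, h1, map_mul, map_mul, hpw]
    split_ifs
    · exact Or.inl (one_mul _)
    · exact Or.inr (neg_one_mul _)
  -- counting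
  obtain ⟨ev, hev⟩ : ∃ ev : Z2 × V → R4, ∀ p, (ev p : GL (Fin 2 ⊕ Fin 2) F) = P.toGL (pw S.epsI p.1 * S.rI p.2) :=
    ⟨fun p => ⟨_, hR4 ▸ Subgroup.mem_map_of_mem _ ⟨p.2, S.cinv_epsI.pw_mul_peq _ _⟩⟩, fun _ => rfl⟩
  have hevb : Function.Bijective ev := by
    constructor
    · rintro ⟨a, x⟩ ⟨a', x'⟩ e
      have e' : pw S.epsI a * S.rI x = pw S.epsI a' * S.rI x' := P.toGL_injective (by
        rw [← hev (a, x), ← hev (a', x'), e])
      obtain rfl : x = x' := S.gsys.r_inj (S.cinv_epsI.trans (S.cinv_epsI.symm (S.cinv_epsI.pw_mul_peq a _))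
        (e' ▸ S.cinv_epsI.pw_mul_peq a' _))
      rw [S.cinv_epsI.pw_inj (mul_right_cancel e')]
    · rintro ⟨g, hg⟩
      obtain ⟨x, ⟨y, hy⟩, rfl⟩ := hR4 ▸ hg
      obtain ⟨s, hs⟩ := S.cinv_epsI.exists_pw hy
      exact ⟨(s, y), Subtype.ext ((hev _).trans (congrArg P.toGL hs.symm))⟩
  have hcardR : Nat.card R4 = 32 := by
    rw [← Nat.card_eq_of_bijective ev hevb, Nat.card_prod, Nat.card_zmod,
      Module.natCard_eq_pow_finrank (K := Z2) (V := V), hd, Nat.card_zmod]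
    norm_num
  have hcz2 : Nat.card (Subgroup.center R4) = 2 := by
    have hcen : ∀ p, ev p ∈ Subgroup.center R4 ↔ p.2 = 0 := fun p => by
      have hpe : Peq S.epsI (pw S.epsI p.1 * S.rI p.2) (S.rI p.2) := S.cinv_epsI.pw_mul_peq _ _
      constructor
      · intro hc
        refine S.sep _ fun w => ?_
        have h1 := congrArg Subtype.val (Subgroup.mem_center_iff.1 hc (ev (0, w)))
        simp only [Subgroup.coe_mul, hev, ← map_mul] at h1
        have h2 := P.toGL_injective h1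
        rw [S.cinv_epsI.pw_zero, one_mul] at h2
        exact S.cinv_epsI.comm_sign_unique (S.cinv_epsI.comm_sign_peq (S.cinv_epsI.symm hpe) (S.cinv_epsI.refl _)
          (S.gsys.comm p.2 w)) (by rw [S.cinv_epsI.pw_zero, one_mul]; exact h2.symm) |>.trans rfl
      · intro hp2
        refine Subgroup.mem_center_iff.2 fun g => ?_
        obtain ⟨⟨a, w⟩, rfl⟩ := hevb.2 g
        refine Subtype.ext ?_
        simp only [Subgroup.coe_mul, hev, ← map_mul]
        congr 1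
        have h1 := S.cinv_epsI.comm_sign_peq (S.cinv_epsI.symm (S.cinv_epsI.pw_mul_peq a _)) (S.cinv_epsI.symm hpe)
          (S.gsys.comm w p.2)
        rw [show S.gsys.B w p.2 = 0 by rw [hp2, map_zero], S.cinv_epsI.pw_zero, one_mul] at h1
        exact h1
    have hb : Function.Bijective fun s : Z2 => (⟨ev (s, 0), (hcen _).2 rfl⟩ : Subgroup.center R4) := by
      refine ⟨fun a a' e => congrArg Prod.fst (hevb.1 (congrArg Subtype.val e)), fun ⟨g, hg⟩ => ?_⟩
      obtain ⟨⟨a, w⟩, rfl⟩ := hevb.2 g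
      obtain rfl : w = 0 := (hcen _).1 hg
      exact ⟨a, rfl⟩
    rw [← Nat.card_eq_of_bijective _ hb, Nat.card_zmod]
  have hneg : (-1 : GL (Fin 2 ⊕ Fin 2) F) ∈ R4 := hR4 ▸ ⟨S.epsI, S.gsys.eps_mem_R, heps⟩
  haveI : Finite R4 := Nat.finite_of_card_ne_zero (by rw [hcardR]; norm_num)
  have hsym : CliffordFour.Sym R4 := ⟨inferInstance, by simp, S.two, hcomm, hsq, hneg,
    fun X hX => hcz X fun i => hX _ (hR4 ▸ hγ ▸ Subgroup.mem_map_of_mem _ (S.gsys.r_mem (v i))),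
    by rw [hcardR, hcz2]⟩
  have G : SpClifford.Ga R4 γ := ⟨S.two, hsym, by rw [hR4]; rintro _ ⟨g, -, rfl⟩; exact P.toGL_mem g,
    fun i => hR4 ▸ hγ ▸ Subgroup.mem_map_of_mem _ (S.gsys.r_mem (v i)),
    fun i => by
      simp only [hγ, ← map_mul]
      rw [show S.rI (v i) * S.rI (v i) = pw S.epsI (S.q (v i)) from S.gsys.sq _, hqv, hpw, if_pos rfl],
    hanti, hgen, hcz⟩
  obtain ⟨M, hM⟩ : ∃ M, M = H.map P.toGL := ⟨_, rfl⟩
  have hnorm : ∀ g : S.Iso, P.toGL g ∈ Subgroup.normalizer (R4 : Set (GL (Fin 2 ⊕ Fin 2) F)) → g ∈ S.gsys.N :=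
    fun g hg y => by
      obtain ⟨x, hx, hxe⟩ := hR4 ▸ (Subgroup.mem_normalizer_iff.1 hg _).1
        (hR4 ▸ Subgroup.mem_map_of_mem P.toGL (S.gsys.r_mem y))
      rw [← map_inv, ← map_mul, ← map_mul] at hxe
      exact P.toGL_injective hxe ▸ hx
  rcases (G.maximal hp).2 M (fun x hx => by
      obtain ⟨g, rfl⟩ : x ∈ P.toGL.range := P.toGL_range.symm ▸ hx.2
      refine hM ▸ Subgroup.mem_map_of_mem _ (hNO ⟨hnorm g hx.1, ?_⟩)
      rw [P.perfect le_rfl]; trivial)
    (by rw [hM]; rintro _ ⟨g, -, rfl⟩; exact P.toGL_mem g) with e | e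
  · refine absurd (fun g hg => ?_) hH
    exact hnorm g ((e ▸ hM ▸ Subgroup.mem_map_of_mem P.toGL hg : P.toGL g ∈ _ ⊓ spGL 2 F).1)
  · rw [eq_top_iff]
    intro g _
    have : P.toGL g ∈ M := e.symm ▸ P.toGL_mem g
    obtain ⟨g', hg', he⟩ := hM ▸ this
    exact P.toGL_injective he ▸ hg'

variable {S}

theorem Psi_fst_mem_R (h : HPair S.toQd) {a b : (S.sub h).Iso} (hR : S.Psi h (a, b) ∈ S.gsys.R) :
    a ∈ (S.sub h).gsys.R := by
  obtain ⟨v, hv⟩ := hR
  have hz : S.B h.z v = 0 := by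
    rw [S.toQd.symm]
    refine S.cinv_epsI.comm_sign_unique (S.cinv_epsI.comm_sign_peq (S.cinv_epsI.refl _) (S.cinv_epsI.refl _)
      (S.gsys.comm v h.z)) ?_
    refine S.cinv_epsI.comm_sign_peq hv (S.cinv_epsI.refl _) ?_
    rw [S.cinv_epsI.pw_zero, one_mul, gsys_r, ← S.ctl_eps h, ctl_apply, ← map_mul, ← map_mul, Prod.mk_mul_mk, Prod.mk_mul_mk,
      mul_one, one_mul, (S.sub h).cinv_epsI.central b]
  have hw := h.decomp v
  rw [hz, zero_smul, add_zero] at hw
  obtain ⟨w, hwv⟩ : ∃ w : h.W, (w : V) = v + S.B h.x v • h.z := ⟨⟨_, hw⟩, rfl⟩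
  refine ⟨w, ?_⟩
  rcases z2_smul (S.B h.x v) h.z with e | e <;> rw [e] at hwv
  · rw [add_zero] at hwv
    rw [← hwv, gsys_r, ← S.dia_rI h w, dia_apply] at hv
    rcases hv with e' | e'
    · exact Or.inl (congrArg Prod.fst (S.Psi_injective h e'))
    · have h2 : S.Psi h (a, b) = S.Psi h ((S.sub h).epsI * (S.sub h).rI w, (S.sub h).epsI * (S.sub h).rI w) := by
        rw [e', ← Prod.mk_mul_mk, map_mul, ← dia_apply]
        congr 1
        exact S.ext_val (by rw [← dia_apply, S.dia_val]; simp [gsys, epsI])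
      exact Or.inr (congrArg Prod.fst (S.Psi_injective h h2))
  · have hv' : v = h.z + (w : V) := by rw [hwv, add_comm v, ← add_assoc, vadd_self, zero_add]
    have h1 := S.cinv_epsI.trans hv (hv' ▸ S.cinv_epsI.symm (S.gsys.mul h.z (w : V)))
    simp only [gsys_r] at h1
    rw [← S.ctl_eps h, ← S.dia_rI h w, ctl_apply, dia_apply, ← map_mul, Prod.mk_mul_mk, one_mul] at h1
    rcases h1 with e' | e'
    · exact Or.inl (congrArg Prod.fst (S.Psi_injective h e'))
    · have h2 : S.Psi h (a, b) = S.Psi h ((S.sub h).epsI * (S.sub h).rI w,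
          (S.sub h).epsI * ((S.sub h).epsI * (S.sub h).rI w)) := by
        rw [e', show (((S.sub h).epsI * (S.sub h).rI w, (S.sub h).epsI * ((S.sub h).epsI * (S.sub h).rI w)) :
            (S.sub h).Iso × (S.sub h).Iso) = ((S.sub h).epsI, (S.sub h).epsI) *
            ((S.sub h).rI w, (S.sub h).epsI * (S.sub h).rI w) from rfl, map_mul, ← dia_apply]
        congr 1
        exact S.ext_val (by rw [S.dia_val]; simp [gsys, epsI])
      exact Or.inr (congrArg Prod.fst (S.Psi_injective h h2))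

/-- From the whole diagonal to the whole group. -/
theorem top_of_dia {i j : ℕ} (P : S.SRep i) (hd : 6 ≤ finrank (ZMod 2) V) (h : HPair S.toQd)
    (P' : (S.sub h).SRep j) (hj : 2 ≤ j) {H : Subgroup S.Iso} (hNO : S.NO ≤ H)
    (hdia : H.comap (S.dia h) = ⊤) : H = ⊤ := by
  have hdia' : ∀ a, S.dia h a ∈ H := fun a => (show a ∈ H.comap (S.dia h) by rw [hdia]; trivial)
  obtain ⟨L, hL⟩ : ∃ L, L = H.comap (S.ctl h) := ⟨_, rfl⟩
  haveI : L.Normal := ⟨fun l hl g => by
    rw [hL, Subgroup.mem_comap] at hl ⊢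
    have e : S.ctl h (g * l * g⁻¹) = S.dia h g * S.ctl h l * (S.dia h g)⁻¹ := by
      simp only [ctl_apply, dia_apply, ← map_inv, ← map_mul]
      simp
    rw [e]
    exact mul_mem (mul_mem (hdia' g) hl) (inv_mem (hdia' g))⟩
  obtain ⟨w, hw⟩ : ∃ w : h.W, w ≠ 0 := by
    have := h.finrank_W
    haveI : Nontrivial h.W := Module.nontrivial_of_finrank_pos (R := Z2) (by omega)
    exact exists_ne 0
  have hLtop : L = ⊤ := P'.normal_eq_top hj (x := (S.sub h).rI w)
    (by rw [hL, Subgroup.mem_comap]; exact hNO (S.ctl_rI_mem_NO h hd w)) fun hc => hw ((S.sub h).sep w fun u => by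
      refine (S.sub h).cinv_epsI.comm_sign_unique ((S.sub h).gsys.comm w u) ?_
      rw [(S.sub h).cinv_epsI.pw_zero, one_mul]
      exact (Subgroup.mem_center_iff.1 hc ((S.sub h).rI u)).symm)
  obtain ⟨γ, hγ, hγN, hγz⟩ := S.gsys.exists_move_singular (by omega) (S.lifts_NO hd) h.z_ne h.qz h.x_ne h.qx
  refine P.eq_top_of_blocks h (fun a b => ?_) (hNO hγ) hγN hγz
  have e : S.Psi h (a, b) = S.dia h a * S.ctl h (a⁻¹ * b) := by
    simp only [ctl_apply, dia_apply, ← map_mul]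
    simp
  rw [e]
  exact mul_mem (hdia' a) (show a⁻¹ * b ∈ H.comap (S.ctl h) by rw [← hL, hLtop]; trivial)

theorem hasCC_nested {H : Subgroup S.Iso} (hcc : S.HasCC H) (h : HPair S.toQd) (h' : HPair (S.sub h).toQd)
    (w : h'.W) : S.ctl h ((S.sub h).ctl h' (((S.sub h).sub h').rI w)) ∈ H := by
  obtain ⟨a1, a2⟩ := h.mem_W.1 h'.z.2
  obtain ⟨b1, b2⟩ := h.mem_W.1 h'.x.2
  obtain ⟨c1, c2⟩ := h.mem_W.1 (w : h.W).2
  obtain ⟨d1, d2⟩ := h'.mem_W.1 w.2
  obtain ⟨g, hg, hval⟩ := hcc h.z h.x (h'.z : V) (h'.x : V) ((w : h.W) : V)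
    ⟨h.qz, h.qx, h'.qz, h'.qx, h.bzx, h'.bzx, a1, b1, a2, b2, c1, c2, d1, d2⟩
  have e : g = S.ctl h ((S.sub h).ctl h' (((S.sub h).sub h').rI w)) := by
    refine S.ext_val ?_
    rw [hval, ctl_val, ctl_val]
    simp only [Subalgebra.coe_add, Subalgebra.coe_mul, Subalgebra.coe_one, AddSubgroupClass.coe_sub]
    rw [show S.ccVal h.z (h'.z : V) ((w : h.W) : V) = 1 + S.pmVal h.z * (S.pmVal (h'.z : V) * ((S.r ((w : h.W) : V) : A) - 1)) by
      rw [ccVal, mul_assoc], add_sub_cancel_left]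
    rfl
  exact e ▸ hg

end Sys

open Sys in
/-- The minus type endgame. -/
theorem symp_top {F : Type*} [Field F] [Fintype F] (hp : (Fintype.card F).Prime) :
    ∀ m, 3 ≤ m → ∀ {A : Type _} [Ring A] [Algebra F A] [Finite A] {V : Type _} [AddCommGroup V]
      [Module (ZMod 2) V] [Finite V] (S : Sys F A V), finrank (ZMod 2) V = 2 * m → S.SRep (2 ^ (m - 1)) →
      S.toQd.NoHalf m → ∀ H : Subgroup S.Iso, S.NO ≤ H → S.HasCC H → H = ⊤ := by
  intro m hm
  induction m, hm using Nat.le_induction with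
  | base =>
    intro A _ _ _ V _ _ _ S hd P hmin H hNO hcc
    classical
    obtain ⟨z, -, hz0, hqz⟩ := S.toQd.exists_singular (W := ⊤) (by rw [finrank_top, hd]; norm_num)
    obtain ⟨h2, -⟩ := S.exists_hpair (by omega) hz0 hqz
    have hW2 := h2.finrank_W
    obtain ⟨z', -, hz'0, hqz'⟩ := h2.qd.exists_singular (W := ⊤) (by rw [finrank_top]; omega)
    obtain ⟨h3', -⟩ := (S.sub h2).exists_hpair (by omega) hz'0 hqz'
    obtain ⟨h3, hh3z, hh3x⟩ : ∃ h3 : HPair S.toQd, h3.z = (h3'.z : V) ∧ h3.x = (h3'.x : V) :=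
      ⟨⟨(h3'.z : V), (h3'.x : V), h3'.qz, h3'.qx, h3'.bzx⟩, rfl, rfl⟩
    have hW3 := h3'.finrank_W
    have hq1 : ∀ w : h3'.W, w ≠ 0 → (S.sub h2).q (w : h2.W) = 1 := fun w hw => z2_eq_one fun e => by
      have := h3'.noHalf (m := 1) (h2.noHalf (m := 2) hmin) (Submodule.span (ZMod 2) {w}) fun u hu => by
        rcases mem_span_one hu with rfl | rfl
        · exact h3'.qd.q_zero
        · exact e
      rw [finrank_span_singleton hw] at this
      exact lt_irrefl 1 this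
    haveI : Nontrivial h3'.W := Module.nontrivial_of_finrank_pos (R := ZMod 2) (by omega)
    obtain ⟨s₁, hs10⟩ := exists_ne (0 : h3'.W)
    obtain ⟨s₂, -, hB⟩ := h3'.qd.exists_perp_one (S := ⊥) (v := s₁) hs10
    have hs20 : s₂ ≠ 0 := fun e => by rw [e, map_zero] at hB; exact zero_ne_one hB
    obtain ⟨L, hL⟩ : ∃ L, L = H.comap (S.ctl h2) := ⟨_, rfl⟩
    have hlift : (S.sub h2).gsys.Lifts L := (S.sub h2).lifts_of_ctl (by omega) fun h' w =>
      hL ▸ Sys.hasCC_nested hcc h2 h' w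
    have hn : ∀ w : h3'.W, w ≠ 0 → ∃ g ∈ L, g ∈ (S.sub h2).gsys.N ∧ (S.sub h2).gsys.phi g h3'.z = h3'.x ∧
        (S.sub h2).gsys.phi g h3'.x = h3'.z ∧
        ∀ u : h3'.W, (S.sub h2).gsys.phi g (u : h2.W) = (u : h2.W) + (S.sub h2).B (u : h2.W) (w : h2.W) • (w : h2.W) := by
      intro w hw
      obtain ⟨e1, e2⟩ := h3'.mem_W.1 w.2
      obtain ⟨γ, hγ, hγN, hγx⟩ := hlift h3'.z (w : h2.W) h3'.qz e1
      obtain ⟨δ, hδ, hδN, hδx⟩ := hlift h3'.x (w : h2.W) h3'.qx e2
      have hqw := hq1 w hw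
      refine ⟨γ * δ * γ, mul_mem (mul_mem hγ hδ) hγ, mul_mem (mul_mem hγN hδN) hγN, ?_, ?_, fun u => ?_⟩
      all_goals
        rw [(S.sub h2).gsys.phi_mul (mul_mem hγN hδN) hγN, (S.sub h2).gsys.phi_mul hγN hδN, hγx, hδx, hγx]
        show (S.sub h2).toQd.rho _ _ ((S.sub h2).toQd.rho _ _ ((S.sub h2).toQd.rho _ _ _)) = _
      · simp only [Qd.rho_apply, map_add, map_smul, LinearMap.add_apply, LinearMap.smul_apply, (S.sub h2).toQd.self_perp,
          e1, e2, h3'.bzx, h3'.bxz, hqw, (S.sub h2).toQd.symm (w : h2.W) h3'.z, (S.sub h2).toQd.symm (w : h2.W) h3'.x]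
        simp
        abel_nf
        simp [two_smul, vadd_self, nsmul_three, nsmul_four, zsmul_three, zsmul_four]
      · simp only [Qd.rho_apply, map_add, map_smul, LinearMap.add_apply, LinearMap.smul_apply, (S.sub h2).toQd.self_perp,
          e1, e2, h3'.bzx, h3'.bxz, hqw, (S.sub h2).toQd.symm (w : h2.W) h3'.z, (S.sub h2).toQd.symm (w : h2.W) h3'.x]
        simp
        abel_nf
        simp [two_smul, vadd_self, nsmul_three, nsmul_four, zsmul_three, zsmul_four]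
      · obtain ⟨f1, f2⟩ := h3'.mem_W.1 u.2
        simp only [Qd.rho_apply, map_add, map_smul, LinearMap.add_apply, LinearMap.smul_apply, (S.sub h2).toQd.self_perp,
          e1, e2, h3'.bzx, h3'.bxz, hqw, (S.sub h2).toQd.symm (w : h2.W) h3'.z, (S.sub h2).toQd.symm (w : h2.W) h3'.x,
          (S.sub h2).toQd.symm (u : h2.W) h3'.z, (S.sub h2).toQd.symm (u : h2.W) h3'.x, f1, f2]
        rcases z2_cases ((S.sub h2).B (u : h2.W) (w : h2.W)) with hc | hc <;> rw [hc] <;> simp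
        abel_nf
        simp [two_smul, vadd_self, nsmul_three, nsmul_four, zsmul_three, zsmul_four]
    obtain ⟨g1, hg1, hg1N, hg1z, hg1x, hg1u⟩ := hn s₁ hs10
    obtain ⟨g2, hg2, hg2N, hg2z, hg2x, hg2u⟩ := hn s₂ hs20
    obtain ⟨g, hg, hgN, hgz, hgx, hgs⟩ : ∃ g ∈ L, g ∈ (S.sub h2).gsys.N ∧ (S.sub h2).gsys.phi g h3'.z = h3'.z ∧
        (S.sub h2).gsys.phi g h3'.x = h3'.x ∧ (S.sub h2).gsys.phi g (s₂ : h2.W) ≠ (s₂ : h2.W) := by
      refine ⟨g1 * g2, mul_mem hg1 hg2, mul_mem hg1N hg2N, ?_, ?_, ?_⟩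
      · rw [(S.sub h2).gsys.phi_mul hg1N hg2N, hg2z, hg1x]
      · rw [(S.sub h2).gsys.phi_mul hg1N hg2N, hg2x, hg1z]
      · rw [(S.sub h2).gsys.phi_mul hg1N hg2N, hg2u, (S.sub h2).toQd.self_perp, zero_smul, add_zero, hg1u,
          (S.sub h2).toQd.symm, show (S.sub h2).B (s₁ : h2.W) (s₂ : h2.W) = 1 from hB, one_smul]
        intro e
        exact hs10 (Subtype.ext (add_eq_left.1 e))
    have hRL : (S.sub h2).gsys.R ≤ L := by
      rintro l ⟨u, hu⟩
      rw [hL]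
      refine (S.sub h2).cinv_epsI.eps_mem ?_ hu ?_
      · rw [Subgroup.mem_comap, S.ctl_eps]
        exact hNO (S.R_le_NO (by omega) (S.gsys.r_mem h2.z))
      · exact hNO (S.ctl_rI_mem_NO h2 (by omega) u)
    -- make it commute exactly with the pair
    obtain ⟨g', hg', hg'z, hg'x, hg'R⟩ : ∃ g' ∈ L, g' * (S.sub h2).rI h3'.z = (S.sub h2).rI h3'.z * g' ∧
        g' * (S.sub h2).rI h3'.x = (S.sub h2).rI h3'.x * g' ∧ g' ∉ (S.sub h2).gsys.R := by
      have hc := (S.sub h2).cinv_epsI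
      have c1 := hgz ▸ (S.sub h2).gsys.phi_spec hgN h3'.z
      have c2 := hgx ▸ (S.sub h2).gsys.phi_spec hgN h3'.x
      obtain ⟨a, ha⟩ := hc.comm_sign_of_conj c1
      obtain ⟨b, hb⟩ := hc.comm_sign_of_conj c2
      obtain ⟨u, hu⟩ : ∃ u : h2.W, u = a • h3'.x + b • h3'.z := ⟨_, rfl⟩
      have h1 := (S.sub h2).gsys.comm u h3'.z
      have h2' := (S.sub h2).gsys.comm u h3'.x
      have e1 : (S.sub h2).gsys.B u h3'.z = a := by
        show (S.sub h2).B u h3'.z = a
        rw [hu, map_add, map_smul, map_smul, LinearMap.add_apply, LinearMap.smul_apply, LinearMap.smul_apply,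
          h3'.bxz, (S.sub h2).toQd.self_perp, smul_zero, add_zero, smul_eq_mul, mul_one]
      have e2 : (S.sub h2).gsys.B u h3'.x = b := by
        show (S.sub h2).B u h3'.x = b
        rw [hu, map_add, map_smul, map_smul, LinearMap.add_apply, LinearMap.smul_apply, LinearMap.smul_apply,
          h3'.bzx, (S.sub h2).toQd.self_perp, smul_zero, zero_add, smul_eq_mul, mul_one]
      rw [e1] at h1
      rw [e2] at h2'
      refine ⟨(S.sub h2).rI u * g, mul_mem (hRL ((S.sub h2).gsys.r_mem u)) hg, ?_, ?_, fun hR => ?_⟩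
      · have := hc.comm_sign_mul h1 ha
        rwa [z2_add_self, hc.pw_zero, one_mul] at this
      · have := hc.comm_sign_mul h2' hb
        rwa [z2_add_self, hc.pw_zero, one_mul] at this
      · refine hgs ?_
        have h5 := (S.sub h2).gsys.phi_of_mem_R ((S.sub h2).gsys.R.mul_mem
          ((S.sub h2).gsys.R.inv_mem ((S.sub h2).gsys.r_mem u)) hR) (s₂ : h2.W)
        rwa [show (S.sub h2).gsys.r u = (S.sub h2).rI u from rfl, inv_mul_cancel_left] at h5
    obtain ⟨C, hC⟩ : ∃ C, C = S.ctl h2 g' := ⟨_, rfl⟩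
    have hcomm : ∀ u : h2.W, g' * (S.sub h2).rI u = (S.sub h2).rI u * g' →
        C * S.rI (u : V) = S.rI (u : V) * C := fun u hu => by
      rw [← S.dia_rI h2 u, hC, ctl_apply, dia_apply, ← map_mul, ← map_mul, Prod.mk_mul_mk, Prod.mk_mul_mk, hu]
      simp
    obtain ⟨c, d, hcd⟩ := S.exists_Psi h3 (g := C) (by rw [hh3z]; exact hcomm _ hg'z)
    have hdc : d = c := by
      have h1 := S.swap_Psi h3 c d
      rw [← hcd, hh3x, ← hcomm _ hg'x, mul_inv_cancel_right, hcd] at h1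
      exact (congrArg Prod.fst (S.Psi_injective h3 h1)).symm
    rw [hdc, ← dia_apply] at hcd
    have hcK : c ∈ H.comap (S.dia h3) := by
      rw [Subgroup.mem_comap, ← hcd, hC]
      rw [hL, Subgroup.mem_comap] at hg'
      exact hg'
    have hcN : c ∉ (S.sub h3).gsys.N := fun hN => hg'R (Sys.Psi_fst_mem_R h2 (b := g'⁻¹) (by
      obtain ⟨y, hy⟩ := S.dia_mem_N h3 hN h2.x
      rw [← hcd, hC] at hy
      have e1 : S.ctl h2 g' * S.rI h2.x * (S.ctl h2 g')⁻¹ = S.rI h2.x * S.Psi h2 (g', g'⁻¹) := by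
        rw [mul_inv_eq_iff_eq_mul, mul_assoc, ctl_apply, ← map_mul, Prod.mk_mul_mk, mul_one, inv_mul_cancel,
          ← mul_inv_eq_iff_eq_mul.1 (S.swap_Psi h2 g' 1)]
      rw [gsys_r, e1] at hy
      have h1 := S.gsys.R.mul_mem (S.gsys.R.inv_mem (S.gsys.r_mem h2.x)) ⟨y, hy⟩
      rwa [gsys_r, inv_mul_cancel_left] at h1))
    have hW3' := h3.finrank_W
    obtain ⟨P3⟩ := P.exists_sub h3 (j := 2) (by norm_num) (by
      rw [Module.natCard_eq_pow_finrank (K := ZMod 2) (V := V), Module.natCard_eq_pow_finrank (K := ZMod 2) (V := h3.W),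
        Nat.card_zmod, hd, show finrank (ZMod 2) h3.W = 4 by omega]
      norm_num)
    have hK : H.comap (S.dia h3) = ⊤ := (S.sub h3).symp_base P3 (by omega) (h3.noHalf (m := 2) hmin) hp
      (fun x hx => hNO (S.dia_mem_NO h3 hx)) fun hle => hcN (hle hcK)
    exact Sys.top_of_dia P (by omega) h3 P3 le_rfl hNO hK
  | succ m hm ih =>
    intro A _ _ _ V _ _ _ S hd P hmin H hNO hcc
    classical
    obtain ⟨z, -, hz0, hqz⟩ := S.toQd.exists_singular (W := ⊤) (by rw [finrank_top, hd]; omega)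
    obtain ⟨h, -⟩ := S.exists_hpair (by omega) hz0 hqz
    have hW := h.finrank_W
    have hj : 2 ^ (m + 1 - 1) = 2 * 2 ^ (m - 1) := by
      rw [show m + 1 - 1 = m - 1 + 1 by omega, pow_succ, mul_comm]
    obtain ⟨P'⟩ := P.exists_sub h (j := 2 ^ (m - 1)) hj (by
      rw [Module.natCard_eq_pow_finrank (K := ZMod 2) (V := V), Module.natCard_eq_pow_finrank (K := ZMod 2) (V := h.W),
        Nat.card_zmod, hd, show finrank (ZMod 2) h.W = 2 * m by omega, show 2 * (m + 1) = 2 * m + 2 by ring, pow_add]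
      ring)
    have hj2 : 2 ≤ 2 ^ (m - 1) := le_trans (by norm_num) (Nat.pow_le_pow_right (by norm_num) (show 1 ≤ m - 1 by omega))
    exact Sys.top_of_dia P (by omega) h P' hj2 hNO (ih (S.sub h) (by omega) P' (h.noHalf hmin)
      _ (fun x hx => hNO (S.dia_mem_NO h hx)) (S.hasCC_sub h hcc))

end Cfsg.Agent.Classical.CliffordTwo
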