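import Cfsg.Agent.Lib.Classical.CliffordTwo.GSys

/-!
A group of normalising elements invariant under the Siegel transformations realises all of them.
-/

set_option autoImplicit false
set_option linter.unusedSectionVars false

namespace Cfsg.Agent.Classical.CliffordTwo

open Module

local notation "Z2" => ZMod 2

theorem Qd.exists_q_one {V : Type*} [AddCommGroup V] [Module (ZMod 2) V] (Q : Qd V) {W : Submodule (ZMod 2) V}
    {a b : V} (ha : a ∈ W) (hb : b ∈ W) (h : Q.B a b = 1) : ∃ z ∈ W, Q.q z = 1 := by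
  by_cases hqa : Q.q a = 1
  · exact ⟨a, ha, hqa⟩
  by_cases hqb : Q.q b = 1
  · exact ⟨b, hb, hqb⟩
  exact ⟨a + b, add_mem ha hb, by
    rw [Q.polar, h, (z2_cases _).resolve_right hqa, (z2_cases _).resolve_right hqb]; rfl⟩

theorem Qd.rho_rho {V : Type*} [AddCommGroup V] [Module (ZMod 2) V] [Finite V] (Q : Qd V) {v w : V} (hv : Q.q v = 0)
    (hw : Q.B v w = 0) (x : V) : Q.rho v w (Q.rho v w x) = x := by
  rw [Q.rho_add hv hw hw, vadd_self, Q.rho_zero]

theorem Qd.rho_self_eq {V : Type*} [AddCommGroup V] [Module (ZMod 2) V] [Finite V] (Q : Qd V) {v : V} (hv : Q.q v = 0) (x : V) :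
    Q.rho v v x = x := by
  rw [Qd.rho_apply, hv, zero_mul, add_zero, add_assoc, vadd_self, add_zero]

/-- A pair in the perpendicular of a line and a hyperbolic pair perpendicular to it. -/
theorem Qd.exists_pair_perp {V : Type*} [AddCommGroup V] [Module (ZMod 2) V] [Finite V] (Q : Qd V)
    (hd : 6 ≤ finrank (ZMod 2) V) {v a c : V} (hva : Q.B v a = 0) (hvc : Q.B v c = 0) (hac : Q.B a c = 1) :
    ∃ y₁ y₂, (∀ y ∈ ({y₁, y₂, y₁ + y₂} : Set V), Q.B v y = 0 ∧ Q.B a y = 0 ∧ Q.B c y = 0 ∧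
      y ∉ Submodule.span (ZMod 2) ({v} : Set V)) ∧ Q.B y₁ y₂ = 1 := by
  obtain ⟨T, hT⟩ : ∃ T, T = Submodule.span Z2 ({v, a, c} : Set V) := ⟨_, rfl⟩
  have hTd : finrank Z2 T ≤ 3 := by
    classical
    rw [hT]
    refine (finrank_span_le_card ({v, a, c} : Set V)).trans ?_
    rw [Set.toFinset_insert, Set.toFinset_insert, Set.toFinset_singleton]
    exact Finset.card_le_three
  obtain ⟨y₁, hy₁, hy₁v⟩ : ∃ y ∈ Q.perp T, y ∉ Submodule.span Z2 ({v} : Set V) := by
    by_contra hcon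
    push Not at hcon
    have h1 := Submodule.finrank_mono (show Q.perp T ≤ Submodule.span Z2 ({v} : Set V) from hcon)
    rw [Q.finrank_perp] at h1
    have := Qd.finrank_span_one_le v
    omega
  have hmemT : ∀ {y : V}, y ∈ Q.perp T → Q.B v y = 0 ∧ Q.B a y = 0 ∧ Q.B c y = 0 := fun {y} hy => by
    rw [hT, Q.mem_perp_span] at hy
    exact ⟨hy v (by simp), hy a (by simp), hy c (by simp)⟩
  obtain ⟨y₂, hy₂, hy12⟩ := Q.exists_perp_one (S := T) (v := y₁) fun hm => by
    rw [hT, Submodule.mem_span_insert] at hm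
    obtain ⟨s, z, hz, hyz⟩ := hm
    obtain ⟨i, j, hij⟩ := Submodule.mem_span_pair.1 hz
    obtain ⟨-, e1, e2⟩ := hmemT hy₁
    rw [hyz, ← hij, map_add, map_add, map_smul, map_smul, map_smul, Q.symm a v, hva, Q.self_perp, hac,
      smul_zero, smul_zero, zero_add, zero_add, smul_eq_mul, mul_one] at e1
    rw [hyz, ← hij, map_add, map_add, map_smul, map_smul, map_smul, Q.symm c v, hvc, Q.self_perp,
      Q.symm c a, hac, smul_zero, smul_zero, zero_add, add_zero, smul_eq_mul, mul_one] at e2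
    rw [e1, e2, zero_smul, zero_smul, add_zero] at hij
    rw [← hij, add_zero] at hyz
    exact hy₁v (hyz ▸ Submodule.smul_mem _ s (Submodule.mem_span_singleton_self v))
  refine ⟨y₁, y₂, fun y hy => ?_, hy12⟩
  obtain ⟨a1, a2, a3⟩ := hmemT hy₁
  obtain ⟨b1, b2, b3⟩ := hmemT hy₂
  rcases hy with rfl | rfl | rfl
  · exact ⟨a1, a2, a3, hy₁v⟩
  · refine ⟨b1, b2, b3, fun hm => ?_⟩
    rcases mem_span_one hm with e | e
    · rw [e, map_zero] at hy12; exact zero_ne_one hy12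
    · rw [e, Q.symm, a1] at hy12; exact zero_ne_one hy12
  · refine ⟨by rw [map_add, a1, b1, add_zero], by rw [map_add, a2, b2, add_zero],
      by rw [map_add, a3, b3, add_zero], fun hm => ?_⟩
    rcases mem_span_one hm with e | e
    · rw [← vadd_eq_zero e, Q.self_perp] at hy12; exact zero_ne_one hy12
    · have := congrArg (Q.B y₁) e
      rw [map_add, Q.self_perp, hy12, zero_add, Q.symm y₁ v, a1] at this
      exact one_ne_zero this

namespace GSys

variable {G : Type*} [Group G] {V : Type*} [AddCommGroup V] [Module (ZMod 2) V] [Finite V] (S : GSys G V)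

/-- The commutator with a lift of a Siegel transformation. -/
theorem phi_commutator {x γ : G} (hx : x ∈ S.N) (hγ : γ ∈ S.N) {v w : V} (hv : S.q v = 0) (hw : S.B v w = 0)
    (h : ∀ y, S.phi γ y = S.toQd.rho v w y) (y : V) :
    S.phi (x * γ * x⁻¹ * γ⁻¹) y = S.toQd.rho (S.phi x v) (S.phi x w) (S.toQd.rho v w y) := by
  have hinv : S.phi γ⁻¹ y = S.toQd.rho v w y := S.phi_injective hγ (by
    rw [S.phi_phi_inv hγ, h, S.toQd.rho_rho hv hw])
  rw [S.phi_mul (mul_mem (mul_mem hx hγ) (inv_mem hx)) (inv_mem hγ), S.phi_mul (mul_mem hx hγ) (inv_mem hx),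
    S.phi_mul hx hγ, hinv, h, S.rho_phi hx, S.phi_phi_inv hx]

theorem phi_conj {x γ : G} (hx : x ∈ S.N) (hγ : γ ∈ S.N) {v w : V}
    (h : ∀ y, S.phi x y = S.toQd.rho v w y) (y : V) :
    S.phi (γ * x * γ⁻¹) y = S.toQd.rho (S.phi γ v) (S.phi γ w) y := by
  rw [S.phi_mul (mul_mem hγ hx) (inv_mem hγ), S.phi_mul hγ hx, h, S.rho_phi hγ, S.phi_phi_inv hγ]

/-- The invariance hypotheses. -/
structure Inv (Γ L : Subgroup G) : Prop where
  dim : 6 ≤ finrank (ZMod 2) V
  lifts : S.Lifts Γ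
  le : L ≤ S.N
  inv : ∀ γ ∈ Γ, γ ∈ S.N → ∀ x ∈ L, γ * x * γ⁻¹ ∈ L

namespace Inv

variable {S} {Γ L : Subgroup G} (P : S.Inv Γ L)
include P

theorem comm_mem {x γ : G} (hx : x ∈ L) (hγ : γ ∈ Γ) (hγN : γ ∈ S.N) : x * γ * x⁻¹ * γ⁻¹ ∈ L := by
  rw [mul_assoc x γ, mul_assoc x]
  exact mul_mem hx (P.inv γ hγ hγN _ (inv_mem hx))

/-- An element fixing a singular vector and acting non-trivially. -/
theorem exists_fix {x : G} (hx : x ∈ L) {v : V} (hv : v ≠ 0) (hqv : S.q v = 0) (hne : S.phi x v ≠ v)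
    (hperp : S.B v (S.phi x v) = 0) : ∃ c ∈ L, S.phi c v = v ∧ ∃ y, S.phi c y ≠ y := by
  have hd := P.dim
  have hxN := P.le hx
  obtain ⟨v', hv'⟩ : ∃ v', v' = S.phi x v := ⟨_, rfl⟩
  obtain ⟨v'', hv''⟩ : ∃ v'', v'' = S.phi x⁻¹ v := ⟨_, rfl⟩
  obtain ⟨w, hw, hwn⟩ : ∃ w ∈ S.toQd.perp (Submodule.span Z2 ({v, v''} : Set V)),
      w ∉ Submodule.span Z2 ({v, v'} : Set V) := by
    by_contra hcon
    push Not at hcon
    have h1 := Submodule.finrank_mono (show S.toQd.perp (Submodule.span Z2 ({v, v''} : Set V)) ≤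
      Submodule.span Z2 ({v, v'} : Set V) from hcon)
    rw [S.toQd.finrank_perp] at h1
    have := Qd.finrank_span_pair_le v v'
    have := Qd.finrank_span_pair_le v v''
    omega
  rw [S.toQd.mem_perp_two] at hw
  obtain ⟨γ, hγ, hγN, hγx⟩ := P.lifts v w hqv hw.1
  obtain ⟨y, hy, hy1⟩ := S.toQd.exists_perp_one hwn
  rw [S.toQd.mem_perp_two] at hy
  have hphiw : S.B v (S.phi x w) = 0 := by
    rw [← S.B_phi (inv_mem hxN), S.phi_inv_phi hxN, ← hv'']; exact hw.2
  refine ⟨_, P.comm_mem hx hγ hγN, ?_, y, ?_⟩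
  · rw [S.phi_commutator hxN hγN hqv hw.1 hγx, S.toQd.rho_self hw.1]
    simp [Qd.rho_apply, hperp, hphiw]
  · rw [S.phi_commutator hxN hγN hqv hw.1 hγx, S.toQd.rho_perp (x := y) (by rw [S.toQd.symm]; exact hy.1),
      S.toQd.symm y w, hy1, one_smul, map_add,
      S.toQd.rho_perp (x := y) (by rw [S.toQd.symm, ← hv']; exact hy.2), Qd.rho_apply, hperp, hphiw, ← hv']
    intro e
    simp only [zero_smul, add_zero, zero_mul, mul_zero] at e
    rw [add_assoc, add_eq_left] at e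
    rcases z2_smul (S.B y (S.phi x w)) v' with e' | e' <;> rw [e'] at e
    · rw [zero_add] at e; exact hv e
    · exact hne (hv' ▸ vadd_eq_zero e)

theorem exists_fix' {x : G} (hx : x ∈ L) {v : V} (hv : v ≠ 0) (hqv : S.q v = 0) (hne : S.phi x v ≠ v) :
    ∃ c ∈ L, ∃ v, v ≠ 0 ∧ S.q v = 0 ∧ S.phi c v = v ∧ ∃ y, S.phi c y ≠ y := by
  have hd := P.dim
  have hxN := P.le hx
  rcases z2_cases (S.B v (S.phi x v)) with h0 | h1
  · obtain ⟨c, hc, h⟩ := P.exists_fix hx hv hqv hne h0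
    exact ⟨c, hc, v, hv, hqv, h⟩
  obtain ⟨w, hw, hwn, hqw⟩ := S.toQd.exists_singular_outside (W := S.toQd.perp (Submodule.span Z2 {v}))
    (E := Submodule.span Z2 ({v, S.phi x v} : Set V)) (by
      rw [S.toQd.finrank_perp]
      have := Qd.finrank_span_one_le v
      have := Qd.finrank_span_pair_le v (S.phi x v)
      omega)
  rw [S.toQd.mem_perp_one] at hw
  obtain ⟨γ, hγ, hγN, hγx⟩ := P.lifts v w hqv hw
  have hcL := P.comm_mem hx hγ hγN
  have hcv : S.B v (S.phi (x * γ * x⁻¹ * γ⁻¹) v) = 0 := by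
    rw [S.phi_commutator hxN hγN hqv hw hγx, S.toQd.rho_self hw, Qd.rho_apply, h1, one_smul, S.q_phi hxN, hqw,
      zero_mul, add_zero, map_add, map_add, map_smul, S.toQd.self_perp, zero_add, h1, smul_eq_mul, mul_one,
      z2_add_self]
  by_cases hfix : S.phi (x * γ * x⁻¹ * γ⁻¹) v = v
  · refine ⟨_, hcL, v, hv, hqv, hfix, ?_⟩
    obtain ⟨y, hy, hy1⟩ := S.toQd.exists_perp_one hwn
    rw [S.toQd.mem_perp_two] at hy
    refine ⟨y, ?_⟩
    rw [S.phi_commutator hxN hγN hqv hw hγx] at hfix ⊢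
    rw [S.toQd.rho_perp (x := y) (by rw [S.toQd.symm]; exact hy.1), S.toQd.symm y w, hy1, one_smul, map_add,
      S.toQd.rho_perp (x := y) (by rw [S.toQd.symm]; exact hy.2)]
    rw [S.toQd.rho_self hw] at hfix
    rw [hfix]
    intro e
    rw [add_assoc, add_eq_left] at e
    rcases z2_smul (S.B y (S.phi x w)) (S.phi x v) with e' | e' <;> rw [e'] at e
    · rw [zero_add] at e; exact hv e
    · exact hne (vadd_eq_zero e)
  · obtain ⟨c, hc, h⟩ := P.exists_fix hcL hv hqv hfix hcv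
    exact ⟨c, hc, v, hv, hqv, h⟩

/-- One non-trivial transformation at a singular vector. -/
theorem exists_one {x : G} (hx : x ∈ L) {v : V} (hv : v ≠ 0) (hqv : S.q v = 0) (hfix : S.phi x v = v)
    (hne : ∃ y, S.phi x y ≠ y) :
    ∃ w, S.B v w = 0 ∧ w ∉ Submodule.span Z2 {v} ∧ ∃ c ∈ L, ∀ y, S.phi c y = S.toQd.rho v w y := by
  have hd := P.dim
  have hxN := P.le hx
  by_cases hall : ∀ w, S.B v w = 0 → S.phi x w + w ∈ Submodule.span Z2 {v}
  · obtain ⟨f, hqf, hvf⟩ := S.toQd.exists_singular_pair (by omega) hv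
    obtain ⟨e, he⟩ : ∃ e, e = S.phi x f + f := ⟨_, rfl⟩
    have hxf : S.phi x f = e + f := by rw [he, add_assoc, vadd_self, add_zero]
    have hve : S.B v e = 0 := by
      rw [he, map_add]
      conv_lhs => arg 1; rw [← hfix]
      rw [S.B_phi hxN, z2_add_self]
    have hqe : S.q e + S.B f e = 0 := by
      have h := S.q_phi hxN f
      rwa [hxf, S.polar, hqf, add_zero, S.toQd.symm e f] at h
    have key : ∀ y, S.phi x y = S.toQd.rho v e y := by
      intro y
      obtain ⟨w, hw⟩ : ∃ w, w = y + S.B v y • f := ⟨_, rfl⟩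
      have hvw : S.B v w = 0 := by
        rw [hw, map_add, map_smul, hvf, smul_eq_mul, mul_one, z2_add_self]
      have h1 : S.phi x w = S.toQd.rho v e w := by
        rw [S.toQd.rho_perp (by rw [S.toQd.symm]; exact hvw)]
        obtain ⟨c, hc⟩ := Submodule.mem_span_singleton.1 (hall w hvw)
        have hxw : S.phi x w = w + c • v := by rw [hc, add_comm (S.phi x w), ← add_assoc, vadd_self, zero_add]
        have h2 := S.B_phi hxN f w
        simp only [hxw, hxf, map_add, map_smul, LinearMap.add_apply, smul_eq_mul, S.toQd.symm e v, hve, zero_add,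
          S.toQd.symm f v, hvf, mul_one, S.toQd.symm e w] at h2
        rw [hxw, show c = S.B w e by
          clear hc hxw
          revert h2
          generalize S.B w e = a
          generalize S.B f w = b
          revert a b c
          decide]
      have h3 : S.phi x f = S.toQd.rho v e f := by
        rw [hxf, Qd.rho_apply, S.toQd.symm f v, hvf, one_smul, mul_one, add_comm (S.B f e), hqe, zero_smul,
          add_zero, add_comm]
      have hy : y = w + S.B v y • f := by rw [hw, add_assoc, vadd_self, add_zero]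
      rw [hy, ← S.phiL_apply hxN, map_add, map_smul, map_add, map_smul, S.phiL_apply, S.phiL_apply, h1, h3]
    refine ⟨e, hve, fun hmem => ?_, x, hx, key⟩
    obtain ⟨y, hy⟩ := hne
    rcases mem_span_one hmem with e' | e'
    · exact hy (by rw [key, e', S.toQd.rho_zero])
    · exact hy (by rw [key, e', S.toQd.rho_self_eq hqv])
  · push Not at hall
    obtain ⟨w, hw, hwn⟩ := hall
    obtain ⟨γ, hγ, hγN, hγx⟩ := P.lifts v w hqv hw
    have hw' : S.B v (S.phi x w) = 0 := by rw [← hfix, S.B_phi hxN, hw]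
    refine ⟨_, by rw [map_add, hw', hw, add_zero], hwn, _, P.comm_mem hx hγ hγN, fun y => ?_⟩
    rw [S.phi_commutator hxN hγN hqv hw hγx, hfix, S.toQd.rho_add hqv hw' hw]

theorem lifts_at {x : G} (hx : x ∈ L) {v : V} (hv : v ≠ 0) (hqv : S.q v = 0) (hfix : S.phi x v = v)
    (hne : ∃ y, S.phi x y ≠ y) {w : V} (hw : S.B v w = 0) :
    ∃ c ∈ L, ∀ y, S.phi c y = S.toQd.rho v w y := by
  have hd := P.dim
  obtain ⟨W, hWmem⟩ : ∃ W : Submodule Z2 V, ∀ a, a ∈ W ↔
      S.B v a = 0 ∧ ∃ c ∈ L, ∀ y, S.phi c y = S.toQd.rho v a y :=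
    ⟨{ carrier := {a | S.B v a = 0 ∧ ∃ c ∈ L, ∀ y, S.phi c y = S.toQd.rho v a y}
       zero_mem' := ⟨map_zero _, 1, one_mem _, fun y => by rw [S.phi_one, S.toQd.rho_zero]⟩
       add_mem' := by
         rintro a b ⟨ha, c, hc, hca⟩ ⟨hb, d, hd', hdb⟩
         refine ⟨by rw [map_add, ha, hb, add_zero], c * d, mul_mem hc hd', fun y => ?_⟩
         rw [S.phi_mul (P.le hc) (P.le hd'), hdb, hca, S.toQd.rho_add hqv ha hb]
       smul_mem' := fun c a ha => by
         rcases z2_smul c a with e | e <;> rw [e]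
         · exact ⟨map_zero _, 1, one_mem _, fun y => by rw [S.phi_one, S.toQd.rho_zero]⟩
         · exact ha }, fun _ => Iff.rfl⟩
  suffices hall : ∀ c, S.B v c = 0 → c ∈ W from ((hWmem w).1 (hall w hw)).2
  have hvW : v ∈ W := (hWmem v).2 ⟨S.toQd.self_perp v, 1, one_mem _, fun y => by
    rw [S.phi_one, S.toQd.rho_self_eq hqv]⟩
  have hmove : ∀ a b c, c ∈ W → S.q a = 0 → S.B a b = 0 → S.B v a = 0 → S.B v b = 0 →
      S.B c a • b + (S.B c b + S.q b * S.B c a) • a ∈ W := fun a b c hc hqa hab hva hvb => by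
    obtain ⟨hvc, d, hd', hdc⟩ := (hWmem c).1 hc
    obtain ⟨γ, hγ, hγN, hγx⟩ := P.lifts a b hqa hab
    have hv' : S.phi γ v = v := by rw [hγx, S.toQd.rho_perp hva, hvb, zero_smul, add_zero]
    have hmem : S.toQd.rho a b c ∈ W := (hWmem _).2 ⟨by
        rw [← hγx, ← hv', S.B_phi hγN]; exact hvc,
      _, P.inv γ hγ hγN d hd', fun y => by rw [S.phi_conj (P.le hd') hγN hdc, hv', hγx]⟩
    have := add_mem hc hmem
    rwa [Qd.rho_apply, add_assoc c, ← add_assoc c c, vadd_self, zero_add] at this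
  obtain ⟨w₀, hvw₀, hw₀, hc₀⟩ := P.exists_one hx hv hqv hfix hne
  have hw₀W : w₀ ∈ W := (hWmem _).2 ⟨hvw₀, hc₀⟩
  obtain ⟨a, ha, hav, hqa⟩ : ∃ a ∈ W, a ∉ Submodule.span Z2 {v} ∧ S.q a = 0 := by
    by_cases hq₀ : S.q w₀ = 0
    · exact ⟨w₀, hw₀W, hw₀, hq₀⟩
    obtain ⟨a, ha, hav, hqa⟩ := S.toQd.exists_singular_outside
      (W := S.toQd.perp (Submodule.span Z2 ({v, w₀} : Set V))) (E := Submodule.span Z2 {v}) (by
        rw [S.toQd.finrank_perp]
        have := Qd.finrank_span_one_le v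
        have := Qd.finrank_span_pair_le v w₀
        omega)
    rw [S.toQd.mem_perp_two] at ha
    obtain ⟨b, hb, hb1⟩ := S.toQd.exists_perp_one (S := Submodule.span Z2 ({v, a} : Set V)) (v := w₀) fun hmem => by
      obtain ⟨s, t, hst⟩ := Submodule.mem_span_pair.1 hmem
      rcases z2_smul s v with e | e <;> rcases z2_smul t a with e' | e' <;> rw [e, e'] at hst <;> subst hst
      · exact hw₀ (by simp)
      · exact hq₀ (by rwa [zero_add])
      · exact hw₀ (by rw [add_zero]; exact Submodule.mem_span_singleton_self v)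
      · exact hq₀ (by rw [S.polar, hqv, hqa, ha.1]; rfl)
    rw [S.toQd.mem_perp_two] at hb
    refine ⟨a, ?_, hav, hqa⟩
    have := hmove a b w₀ hw₀W hqa hb.2 ha.1 hb.1
    rwa [ha.2, hb1, zero_smul, zero_add, mul_zero, add_zero, one_smul] at this
  have hva : S.B v a = 0 := ((hWmem a).1 ha).1
  have hperp : ∀ a ∈ W, a ∉ Submodule.span Z2 {v} → S.q a = 0 → ∀ c, S.q c = 0 → S.B v c = 0 → S.B a c = 0 →
      c ∈ W := fun a ha hav hqa c hqc hvc hac => by
    have hva : S.B v a = 0 := ((hWmem a).1 ha).1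
    by_cases hmem : c ∈ Submodule.span Z2 ({v, a} : Set V)
    · exact Submodule.span_le.2 (Set.insert_subset hvW (Set.singleton_subset_iff.2 ha)) hmem
    obtain ⟨a', ha', ha'1⟩ := S.toQd.exists_perp_one (S := Submodule.span Z2 ({v, c} : Set V)) (v := a) fun hm => by
      obtain ⟨s, t, hst⟩ := Submodule.mem_span_pair.1 hm
      rcases z2_smul t c with e' | e' <;> rw [e'] at hst
      · exact hav (hst ▸ by simpa using Submodule.smul_mem _ s (Submodule.mem_span_singleton_self v))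
      · refine hmem (Submodule.mem_span_pair.2 ⟨s, 1, ?_⟩)
        rw [one_smul, ← hst, ← add_assoc, vadd_self, zero_add]
    rw [S.toQd.mem_perp_two] at ha'
    obtain ⟨f, hf1, hf2, hf3, hqf⟩ : ∃ f, S.B v f = 0 ∧ S.B c f = 0 ∧ S.B a f = 1 ∧ S.q f = 0 := by
      by_cases hq' : S.q a' = 0
      · exact ⟨a', ha'.1, ha'.2, ha'1, hq'⟩
      · exact ⟨a' + a, by rw [map_add, ha'.1, hva, add_zero],
          by rw [map_add, ha'.2, S.toQd.symm c a, hac, add_zero],
          by rw [map_add, ha'1, S.toQd.self_perp, add_zero],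
          by rw [S.polar, z2_eq_one hq', hqa, S.toQd.symm a' a, ha'1]; rfl⟩
    have := hmove f c a ha hqf (by rw [S.toQd.symm]; exact hf2) hf1 hvc
    rwa [hf3, one_smul, hac, hqc, zero_mul, add_zero, zero_smul, add_zero] at this
  have hsing : ∀ c, S.q c = 0 → S.B v c = 0 → c ∈ W := fun c hqc hvc => by
    rcases z2_cases (S.B a c) with hac | hac
    · exact hperp a ha hav hqa c hqc hvc hac
    obtain ⟨y₁, y₂, hy, hy12⟩ := S.toQd.exists_pair_perp hd hva hvc hac
    by_cases hsg : ∃ d ∈ ({y₁, y₂, y₁ + y₂} : Set V), S.q d = 0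
    · obtain ⟨d, hd1, hqd⟩ := hsg
      obtain ⟨h1, h2, h3, h4⟩ := hy d hd1
      exact hperp d (hperp a ha hav hqa d hqd h1 h2) h4 hqd c hqc hvc (by rw [S.toQd.symm]; exact h3)
    · push Not at hsg
      have hyc : ∀ y ∈ ({y₁, y₂, y₁ + y₂} : Set V), y + c ∈ W := fun y hy' => by
        obtain ⟨h1, h2, h3, -⟩ := hy y hy'
        have := hmove c y a ha hqc h3 hvc h1
        rwa [hac, one_smul, h2, z2_eq_one (hsg y hy'), one_mul, zero_add, one_smul] at this
      have := add_mem (add_mem (hyc y₁ (by simp)) (hyc y₂ (by simp))) (hyc (y₁ + y₂) (by simp))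
      have e : y₁ + c + (y₂ + c) + (y₁ + y₂ + c) = c + ((y₁ + y₁) + (y₂ + y₂) + (c + c)) := by abel
      simpa [e, vadd_self] using this
  intro c hvc
  rcases z2_cases (S.q c) with hq | hq
  · exact hsing c hq hvc
  obtain ⟨s, hs1, hs2, hqs⟩ : ∃ s, S.B v s = 0 ∧ S.B c s = 1 ∧ S.q s = 0 := by
    obtain ⟨s, hs, hs1⟩ := S.toQd.exists_perp_one (S := Submodule.span Z2 {v}) (v := c) fun hm => by
      rcases mem_span_one hm with e | e <;> rw [e] at hq
      · rw [S.toQd.q_zero] at hq; exact zero_ne_one hq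
      · rw [hqv] at hq; exact zero_ne_one hq
    rw [S.toQd.mem_perp_one] at hs
    by_cases hqs : S.q s = 0
    · exact ⟨s, hs, hs1, hqs⟩
    obtain ⟨y₁, y₂, hy, hy12⟩ := S.toQd.exists_pair_perp hd hvc hs hs1
    obtain ⟨z, hz, hz1⟩ : ∃ z ∈ ({y₁, y₂, y₁ + y₂} : Set V), S.q z = 1 := by
      by_cases h1 : S.q y₁ = 1
      · exact ⟨y₁, by simp, h1⟩
      by_cases h2 : S.q y₂ = 1
      · exact ⟨y₂, by simp, h2⟩
      exact ⟨y₁ + y₂, by simp, by
        rw [S.polar, hy12, (z2_cases _).resolve_right h1, (z2_cases _).resolve_right h2]; rfl⟩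
    obtain ⟨g1, g2, g3, -⟩ := hy z hz
    exact ⟨s + z, by rw [map_add, hs, g1, add_zero], by rw [map_add, hs1, g2, add_zero],
      by rw [S.polar, z2_eq_one hqs, hz1, g3]; rfl⟩
  have h1 := hsing (c + s) (by rw [S.polar, hq, hqs, hs2]; rfl) (by rw [map_add, hvc, hs1, add_zero])
  have h2 := hsing s hqs hs1
  have := add_mem h1 h2
  rwa [add_assoc, vadd_self, add_zero] at this

/-- All Siegel transformations are realised. -/
theorem lifts_all (hne : ∃ x ∈ L, ∃ y, S.phi x y ≠ y) : S.Lifts L := by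
  have hd := P.dim
  obtain ⟨x, hx, hy⟩ := hne
  obtain ⟨v, ⟨hv, hqv⟩, hmv⟩ : ∃ v ∈ {v | v ≠ 0 ∧ S.q v = 0}, S.phi x v ≠ v := by
    by_contra hcon
    push Not at hcon
    obtain ⟨y, hy⟩ := hy
    refine hy ?_
    have hxN := P.le hx
    have h : S.phiL hxN = LinearMap.id :=
      LinearMap.ext_on (S.toQd.span_singular (by omega)) fun v hv => hcon v hv
    exact LinearMap.congr_fun h y
  obtain ⟨c, hc, v₀, hv₀, hqv₀, hfix, hne'⟩ := P.exists_fix' hx hv hqv hmv
  intro u w hqu huw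
  rcases eq_or_ne u 0 with rfl | hu
  · refine ⟨1, one_mem _, one_mem _, fun y => ?_⟩
    rw [S.phi_one]
    simp [Qd.rho_apply]
  obtain ⟨γ, hγ, hγN, hγu⟩ := S.exists_move_singular hd P.lifts hv₀ hqv₀ hu hqu
  obtain ⟨d, hd', hdx⟩ := P.lifts_at hc hv₀ hqv₀ hfix hne' (w := S.phi γ⁻¹ w) (by
    rw [← S.B_phi hγN, hγu, S.phi_phi_inv hγN]; exact huw)
  refine ⟨_, P.inv γ hγ hγN d hd', P.le (P.inv γ hγ hγN d hd'), fun y => ?_⟩
  rw [S.phi_conj (P.le hd') hγN hdx, hγu, S.phi_phi_inv hγN]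

end Inv

end GSys

end Cfsg.Agent.Classical.CliffordTwo
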