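import Cfsg.Agent.Lib.Classical.CliffordTwo.GSys

/-!
Odd order subgroups invariant under the two-group: a normal complement, and an invariant abelian subgroup.
-/

set_option autoImplicit false
set_option linter.unusedSectionVars false

namespace Cfsg.Agent.Classical.CliffordTwo

open scoped Pointwise

namespace GSys

variable {G : Type*} [Group G] [Finite G] {V : Type*} [AddCommGroup V] [Module (ZMod 2) V] [Finite V] (S : GSys G V)

theorem isPGroup_R : IsPGroup 2 S.R := fun x => by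
  obtain ⟨v, hv⟩ := x.2
  have h : Peq S.ε ((x : G) * x) 1 := S.hε.trans (S.hε.mul hv hv) (S.inv_mul_r v)
  refine ⟨2, Subtype.ext ?_⟩
  rw [SubmonoidClass.coe_pow, show (2 : ℕ) ^ 2 = 2 * 2 by norm_num, pow_mul, pow_two (x : G), pow_two]
  rcases h with e | e <;> rw [e] <;> simp [S.hε.sq]

/-- Odd elements of a subgroup meeting the normaliser only in the two-group form a complement. -/
theorem exists_odd_part {L : Subgroup G} (hR : S.R ≤ L) (hN : L ⊓ S.N ≤ S.R) :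
    ∃ O : Subgroup G, O ≤ L ∧ Odd (Nat.card O) ∧ (∀ x, x ∈ O ↔ x ∈ L ∧ Odd (orderOf x)) ∧ (O = ⊥ → L ≤ S.R) := by
  classical
  haveI : Fact (Nat.Prime 2) := ⟨Nat.prime_two⟩
  obtain ⟨e, he⟩ : ∃ e : L, e = ⟨S.ε, hR S.eps_mem_R⟩ := ⟨_, rfl⟩
  haveI hZn : (Subgroup.zpowers e).Normal := ⟨fun n hn g => by
    obtain ⟨k, rfl⟩ := Subgroup.mem_zpowers_iff.1 hn
    refine Subgroup.mem_zpowers_iff.2 ⟨k, ?_⟩
    rw [eq_comm, mul_inv_eq_iff_eq_mul]
    exact ((show Commute g e from Subtype.ext (by rw [he]; exact (S.hε.central _).symm)).zpow_right k).eq⟩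
  have hez : ∀ n ∈ Subgroup.zpowers e, (n : G) = 1 ∨ (n : G) = S.ε := fun n hn => by
    obtain ⟨k, rfl⟩ := Subgroup.mem_zpowers_iff.1 hn
    rw [SubgroupClass.coe_zpow, he]
    rcases Int.even_or_odd' k with ⟨j, rfl | rfl⟩
    · left; rw [zpow_mul, zpow_two, S.hε.sq, one_zpow]
    · right; rw [zpow_add, zpow_mul, zpow_two, S.hε.sq, one_zpow, one_mul, zpow_one]
  obtain ⟨P0, hP0⟩ : ∃ P0, P0 = (S.R.subgroupOf L).map (QuotientGroup.mk' (Subgroup.zpowers e)) := ⟨_, rfl⟩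
  have hmem : ∀ x : L, QuotientGroup.mk' (Subgroup.zpowers e) x ∈ P0 ↔ (x : G) ∈ S.R := fun x => by
    rw [hP0]
    refine ⟨fun h => ?_, fun h => ⟨x, Subgroup.mem_subgroupOf.2 h, rfl⟩⟩
    obtain ⟨y, hy, hyx⟩ := h
    have hz := QuotientGroup.eq.1 hyx
    have : (x : G) = (y : G) * ((y⁻¹ * x : L) : G) := by simp
    rw [this]
    refine mul_mem hy ?_
    rcases hez _ hz with e' | e' <;> rw [e']
    · exact one_mem _
    · exact S.eps_mem_R
  have hP0p : IsPGroup 2 P0 := hP0 ▸ ((S.isPGroup_R).comap_subtype).map _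
  have hself : Subgroup.normalizer (P0 : Set (L ⧸ Subgroup.zpowers e)) ≤ P0 := fun y hy => by
    obtain ⟨x, rfl⟩ := QuotientGroup.mk'_surjective _ y
    refine (hmem x).2 (hN ⟨x.2, fun v => ?_⟩)
    have h1 := (Subgroup.mem_normalizer_iff.1 hy (QuotientGroup.mk' _ ⟨S.r v, hR (S.r_mem v)⟩)).1
      ((hmem _).2 (S.r_mem v))
    rw [← map_inv, ← map_mul, ← map_mul, hmem] at h1
    exact h1
  obtain ⟨Q, hQ⟩ := hP0p.exists_le_sylow
  have hQeq : P0 = Q := by
    refine le_antisymm hQ ?_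
    by_contra hlt
    haveI : Group.IsNilpotent Q := Q.2.isNilpotent
    have hne : P0.subgroupOf Q < ⊤ := lt_top_iff_ne_top.2 fun h => hlt (Subgroup.subgroupOf_eq_top.1 h)
    obtain ⟨x, hx, hxn⟩ := SetLike.exists_of_lt (Group.normalizerCondition_of_isNilpotent _ hne)
    refine hxn (Subgroup.mem_subgroupOf.2 (hself (Subgroup.mem_normalizer_iff.2 fun h => ?_)))
    have hx' := Subgroup.mem_normalizer_iff.1 hx
    constructor
    · intro hh
      exact (hx' ⟨h, hQ hh⟩).1 hh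
    · intro hh
      have hQh : h ∈ (Q : Subgroup _) := by
        have := mul_mem (mul_mem (inv_mem x.2) (hQ hh)) x.2
        simpa [mul_assoc] using this
      exact (hx' ⟨h, hQh⟩).2 hh
  have hab : Subgroup.normalizer (Q : Set (L ⧸ Subgroup.zpowers e)) ≤
      Subgroup.centralizer (Q : Set (L ⧸ Subgroup.zpowers e)) := fun y hy => by
    have hy' : y ∈ P0 := hself (by rwa [hQeq])
    refine Subgroup.mem_centralizer_iff.2 fun a ha => ?_
    have ha' : a ∈ P0 := by rw [hQeq]; exact ha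
    obtain ⟨a₀, rfl⟩ := QuotientGroup.mk'_surjective _ a
    obtain ⟨y₀, rfl⟩ := QuotientGroup.mk'_surjective _ y
    rw [hmem] at hy' ha'
    obtain ⟨v, hv⟩ := hy'
    obtain ⟨w, hw⟩ := ha'
    rw [← map_mul, ← map_mul]
    refine QuotientGroup.eq.2 ?_
    have h : Peq S.ε ((a₀ * y₀ : L) : G) ((y₀ * a₀ : L) : G) :=
      S.hε.trans (S.hε.mul hw hv) (S.hε.trans (S.mul w v) (add_comm v w ▸ S.hε.symm
        (S.hε.trans (S.hε.mul hv hw) (S.mul v w))))
    rcases h with e' | e'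
    · rw [Subtype.ext e', inv_mul_cancel]; exact one_mem _
    · rw [show a₀ * y₀ = e * (y₀ * a₀) from Subtype.ext (by rw [he]; exact e'), mul_inv_rev, mul_assoc,
        show e⁻¹ * (y₀ * a₀) = (y₀ * a₀) * e⁻¹ from Subtype.ext (by
          rw [he]; simp [S.hε.eps_inv, S.hε.central]), ← mul_assoc, inv_mul_cancel, one_mul]
      exact inv_mem (Subgroup.mem_zpowers e)
  obtain ⟨f, hf⟩ : ∃ f, f = MonoidHom.transferSylow Q hab := ⟨_, rfl⟩
  have hfc : Subgroup.IsComplement' f.ker Q := hf ▸ MonoidHom.ker_transferSylow_isComplement' Q hab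
  have hfodd : Odd (Nat.card f.ker) := by
    rw [Nat.odd_iff, ← Nat.two_dvd_ne_zero]
    exact hf ▸ MonoidHom.not_dvd_card_ker_transferSylow Q hab
  obtain ⟨M, hM⟩ : ∃ M : Subgroup L, M = f.ker.comap (QuotientGroup.mk' (Subgroup.zpowers e)) := ⟨_, rfl⟩
  have hord2 : orderOf e = 2 := orderOf_eq_prime (by rw [pow_two, he]; exact Subtype.ext S.hε.sq)
    (fun h => S.hε.ne (by have := congrArg Subtype.val h; rwa [he] at this))
  have hMcard : Nat.card M = 2 * Nat.card f.ker := by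
    rw [← Subgroup.index_mul_card ((Subgroup.zpowers e).subgroupOf M), mul_comm]
    have h1 : Subgroup.zpowers e ≤ M := by
      rw [hM]; intro z hz
      show f (QuotientGroup.mk' _ z) = 1
      rw [show QuotientGroup.mk' (Subgroup.zpowers e) z = 1 from (QuotientGroup.eq_one_iff z).2 hz, map_one]
    congr 1
    · rw [Nat.card_congr (Subgroup.subgroupOfEquivOfLe h1).toEquiv, Nat.card_zpowers, hord2]
    · show (Subgroup.zpowers e).relIndex M = _
      have h2 := Subgroup.relIndex_comap (G := L ⧸ Subgroup.zpowers e) (G' := L) (H := (⊥ : Subgroup _))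
        (QuotientGroup.mk' (Subgroup.zpowers e)) M
      rw [MonoidHom.comap_bot, QuotientGroup.ker_mk'] at h2
      rw [h2, Subgroup.relIndex_bot_left, hM,
        Subgroup.map_comap_eq_self_of_surjective (QuotientGroup.mk'_surjective _)]
  obtain ⟨eM, heM⟩ : ∃ eM : M, (eM : L) = e := ⟨⟨e, by
    rw [hM]; show f (QuotientGroup.mk' _ e) = 1
    rw [show QuotientGroup.mk' (Subgroup.zpowers e) e = 1 from (QuotientGroup.eq_one_iff e).2 (Subgroup.mem_zpowers e),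
      map_one]⟩, rfl⟩
  have hcent : ∀ y : M, y * eM = eM * y := fun y => Subtype.ext (Subtype.ext (by
    simp only [Subgroup.coe_mul, heM, he]; exact (S.hε.central _).symm))
  have hfac : (Nat.card M).factorization 2 = 1 := by
    rw [hMcard, Nat.factorization_mul (by norm_num) Nat.card_pos.ne', Finsupp.add_apply,
      Nat.Prime.factorization_self Nat.prime_two,
      Nat.factorization_eq_zero_of_not_dvd hfodd.not_two_dvd_nat]
  have hordM : orderOf eM = 2 := by rw [← Subgroup.orderOf_coe eM, heM, hord2]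
  obtain ⟨Q', hQ'⟩ : ∃ Q' : Sylow 2 M, (Q' : Subgroup M) = Subgroup.zpowers eM :=
    ⟨Sylow.ofCard (Subgroup.zpowers eM) (by rw [Nat.card_zpowers, hordM, hfac, pow_one]), rfl⟩
  have hab' : Subgroup.normalizer (Q' : Set M) ≤ Subgroup.centralizer (Q' : Set M) := fun y _ =>
    Subgroup.mem_centralizer_iff.2 fun a ha => by
      have ha' : a ∈ (Q' : Subgroup M) := ha
      rw [hQ'] at ha'
      obtain ⟨k, rfl⟩ := Subgroup.mem_zpowers_iff.1 ha'
      exact ((show Commute y eM from hcent y).zpow_right k).eq.symm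
  obtain ⟨g, hg⟩ : ∃ g, g = MonoidHom.transferSylow Q' hab' := ⟨_, rfl⟩
  have hgc : Subgroup.IsComplement' g.ker Q' := hg ▸ MonoidHom.ker_transferSylow_isComplement' Q' hab'
  obtain ⟨O, hO⟩ : ∃ O : Subgroup G, O = (g.ker.map M.subtype).map L.subtype := ⟨_, rfl⟩
  have hOc : Nat.card O = Nat.card g.ker := by
    rw [hO, Subgroup.card_map_of_injective L.subtype_injective, Subgroup.card_map_of_injective M.subtype_injective]
  have hOodd : Odd (Nat.card O) := by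
    rw [hOc, Nat.odd_iff, ← Nat.two_dvd_ne_zero]
    exact hg ▸ MonoidHom.not_dvd_card_ker_transferSylow Q' hab'
  have key : ∀ {A : Type _} [Group A] [Finite A], IsPGroup 2 A → ∀ a : A, Odd (orderOf a) → a = 1 :=
    fun {A} _ _ hA a ha => by
      obtain ⟨k, hk⟩ := IsPGroup.iff_orderOf.1 hA a
      rw [hk] at ha
      rcases Nat.eq_zero_or_pos k with rfl | hk0
      · exact orderOf_eq_one_iff.1 (by simpa using hk)
      · rw [Nat.odd_pow_iff hk0.ne'] at ha; exact absurd ha (by decide)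
  refine ⟨O, hO ▸ Subgroup.map_subtype_le _, hOodd, fun x => ⟨fun hx => ⟨(hO ▸ Subgroup.map_subtype_le _) hx, ?_⟩,
    fun ⟨hxL, hx⟩ => ?_⟩, fun hbot x hx => ?_⟩
  · exact hOodd.of_dvd_nat (Subgroup.orderOf_dvd_natCard O hx)
  · obtain ⟨x', rfl⟩ : ∃ x' : L, (x' : G) = x := ⟨⟨x, hxL⟩, rfl⟩
    rw [Subgroup.orderOf_coe] at hx
    have h1 : f (QuotientGroup.mk' _ x') = 1 := key Q.2 _ (hx.of_dvd_nat
      ((orderOf_map_dvd f _).trans (orderOf_map_dvd (QuotientGroup.mk' (Subgroup.zpowers e)) x')))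
    have hxM : x' ∈ M := by rw [hM]; exact h1
    have h2 : g ⟨x', hxM⟩ = 1 := key Q'.2 _ (hx.of_dvd_nat ((orderOf_map_dvd g _).trans (by
      rw [← Subgroup.orderOf_coe])))
    rw [hO]
    exact ⟨x', ⟨⟨x', hxM⟩, h2, rfl⟩, rfl⟩
  · have h1 : Nat.card M = 2 := by
      have := hgc.card_mul_card
      rw [← hOc, hbot, Subgroup.card_bot, one_mul] at this
      rw [← this]
      show Nat.card (Q' : Subgroup M) = 2
      rw [hQ', Nat.card_zpowers, hordM]
    have h2 : f.ker = ⊥ := Subgroup.eq_bot_of_card_eq _ (by omega)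
    obtain ⟨x', rfl⟩ : ∃ x' : L, (x' : G) = x := ⟨⟨x, hx⟩, rfl⟩
    refine (hmem x').1 ?_
    rw [h2, Subgroup.isComplement'_bot_left] at hfc
    rw [hQeq, hfc]; trivial

/-- An odd invariant subgroup without fixed points contains an abelian one. -/
theorem exists_abelian {Γ O : Subgroup G} (hΓ : Γ ≤ S.N) (hodd : Odd (Nat.card O)) (hO : O ≠ ⊥)
    (hR : ∀ r ∈ S.R, ∀ x ∈ O, r * x * r⁻¹ ∈ O) (hΓO : ∀ γ ∈ Γ, ∀ x ∈ O, γ * x * γ⁻¹ ∈ O)
    (hC : ∀ x ∈ O, (∀ v, S.r v * x * (S.r v)⁻¹ = x) → x = 1) :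
    ∃ A : Subgroup G, A ≠ ⊥ ∧ A ≤ O ∧ (∀ a ∈ A, ∀ b ∈ A, a * b = b * a) ∧
      (∀ r ∈ S.R, ∀ x ∈ A, r * x * r⁻¹ ∈ A) ∧ ∀ γ ∈ Γ, ∀ x ∈ A, γ * x * γ⁻¹ ∈ A := by
  classical
  haveI : Fact (Nat.Prime 2) := ⟨Nat.prime_two⟩
  obtain ⟨ℓ, hℓ, hℓd⟩ := Nat.exists_prime_and_dvd (n := Nat.card O) fun h => hO (Subgroup.eq_bot_of_card_eq O h)
  haveI : Fact ℓ.Prime := ⟨hℓ⟩
  have hRn : S.R ≤ Subgroup.normalizer (O : Set G) := fun r hr => Subgroup.mem_normalizer_iff.2 fun x =>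
    ⟨fun hx => hR r hr x hx, fun hx => by simpa [mul_assoc] using hR r⁻¹ (inv_mem hr) _ hx⟩
  obtain ⟨θ, hθ⟩ : ∃ θ : S.R →* MulAut O, ∀ (r : S.R) (x : O), ((θ r x : O) : G) = (r : G) * x * (r : G)⁻¹ :=
    ⟨O.normalizerMonoidHom.comp (Subgroup.inclusion hRn), fun _ _ => rfl⟩
  letI : MulDistribMulAction S.R O := MulDistribMulAction.compHom O θ
  have hsmul : ∀ (r : S.R) (x : O), ((r • x : O) : G) = (r : G) * x * (r : G)⁻¹ := hθ
  have hfix : ∀ x : O, (∀ r : S.R, r • x = x) → x = 1 := fun x hx => Subtype.ext (hC x x.2 fun v => by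
    have := congrArg Subtype.val (hx ⟨S.r v, S.r_mem v⟩)
    rwa [hsmul] at this)
  obtain ⟨P, hP⟩ := (S.isPGroup_R).nonempty_fixed_point_of_prime_not_dvd_card (Sylow ℓ O) (fun h2 => by
    have h : Nat.card (Sylow ℓ O) ∣ Nat.card O := by
      obtain ⟨P₀⟩ : Nonempty (Sylow ℓ O) := inferInstance
      exact (Sylow.card_eq_index_normalizer P₀).symm ▸ Subgroup.index_dvd_card _
    exact hodd.not_two_dvd_nat (h2.trans h))
  -- uniqueness of the invariant Sylow subgroup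
  have huniq : ∀ P' : Sylow ℓ O, (∀ r : S.R, r • P' = P') → P' = P := fun P' hP' => by
    obtain ⟨x, hx⟩ := MulAction.exists_smul_eq O P P'
    have hmove : ∀ (r : S.R) (y : O), y • P = P' → (r • y) • P = P' := fun r y hy => by
      have h1 : r • (y • P) = (r • y) • (r • P) := by
        refine Sylow.ext ?_
        rw [Sylow.pointwise_smul_def, Sylow.coe_subgroup_smul, Sylow.coe_subgroup_smul, Sylow.pointwise_smul_def]
        ext z
        simp only [Subgroup.mem_pointwise_smul_iff_inv_smul_mem, MulAut.smul_def]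
        simp [smul_mul', smul_inv']
      rw [hy, hP' r, hP r] at h1
      exact h1.symm
    letI : MulAction S.R {y : O // y • P = P'} :=
      { smul := fun r y => ⟨r • (y : O), hmove r y y.2⟩
        one_smul := fun y => Subtype.ext (one_smul _ _)
        mul_smul := fun r s y => Subtype.ext (mul_smul _ _ _) }
    have e : {y : O // y • P = P'} ≃ MulAction.stabilizer O P :=
      { toFun := fun y => ⟨x⁻¹ * y, by rw [MulAction.mem_stabilizer_iff, mul_smul, y.2, ← hx, inv_smul_smul]⟩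
        invFun := fun s => ⟨x * s, by rw [mul_smul, MulAction.mem_stabilizer_iff.1 s.2, hx]⟩
        left_inv := fun y => Subtype.ext (mul_inv_cancel_left _ _)
        right_inv := fun s => Subtype.ext (inv_mul_cancel_left _ _) }
    obtain ⟨y, hy⟩ := (S.isPGroup_R).nonempty_fixed_point_of_prime_not_dvd_card {y : O // y • P = P'} (fun h2 => by
      rw [Nat.card_congr e] at h2
      exact hodd.not_two_dvd_nat (h2.trans (Subgroup.card_subgroup_dvd_card _)))
    have := hfix y.1 fun r => congrArg Subtype.val (hy r)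
    have h3 := y.2
    rw [this, one_smul] at h3
    exact h3.symm
  obtain ⟨P', hP'⟩ : ∃ P' : Subgroup G, P' = (P : Subgroup O).map O.subtype := ⟨_, rfl⟩
  have hmemP : ∀ x : O, (x : G) ∈ P' ↔ x ∈ (P : Subgroup O) := fun x => by
    rw [hP']; exact ⟨fun ⟨y, hy, h⟩ => Subtype.ext h ▸ hy, fun h => ⟨x, h, rfl⟩⟩
  have hP'O : P' ≤ O := hP' ▸ Subgroup.map_subtype_le _
  have hRP : ∀ r ∈ S.R, ∀ x ∈ P', r * x * r⁻¹ ∈ P' := fun r hr x hx => by
    have h1 : (⟨r, hr⟩ : S.R) • (⟨x, hP'O hx⟩ : O) ∈ (((⟨r, hr⟩ : S.R) • P : Sylow ℓ O) : Subgroup O) := by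
      rw [Sylow.pointwise_smul_def]
      exact Subgroup.smul_mem_pointwise_smul _ _ _ ((hmemP ⟨x, hP'O hx⟩).1 hx)
    rw [hP ⟨r, hr⟩, ← hmemP, hsmul] at h1
    exact h1
  have hΓP : ∀ γ ∈ Γ, ∀ x ∈ P', γ * x * γ⁻¹ ∈ P' := fun γ hγ => by
    have hγn : γ ∈ Subgroup.normalizer (O : Set G) := Subgroup.mem_normalizer_iff.2 fun x =>
      ⟨fun hx => hΓO γ hγ x hx, fun hx => by simpa [mul_assoc] using hΓO γ⁻¹ (inv_mem hγ) _ hx⟩
    obtain ⟨α, hα⟩ : ∃ α : MulAut O, α = O.normalizerMonoidHom ⟨γ, hγn⟩ := ⟨_, rfl⟩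
    have hαx : ∀ x : O, ((α x : O) : G) = γ * x * γ⁻¹ := fun x => by rw [hα]; rfl
    have hinv : ∀ r : S.R, r • (α • P) = α • P := fun r => by
      have hr' : γ⁻¹ * (r : G) * γ ∈ S.R := by
        obtain ⟨v, hv⟩ := r.2
        refine ⟨S.phi γ⁻¹ v, S.hε.trans ?_ (S.phi_spec (inv_mem (hΓ hγ)) v)⟩
        simpa [mul_assoc] using S.hε.conj γ⁻¹ hv
      refine Sylow.ext ?_
      rw [Sylow.pointwise_smul_def, Sylow.pointwise_smul_def]
      conv_rhs => rw [← hP ⟨_, hr'⟩, Sylow.pointwise_smul_def]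
      ext z
      simp only [Subgroup.mem_pointwise_smul_iff_inv_smul_mem, MulAut.smul_def]
      refine iff_of_eq (congrArg (· ∈ (P : Subgroup O)) (Subtype.ext ?_))
      have hi : ∀ y : O, ((α⁻¹ y : O) : G) = γ⁻¹ * y * γ := fun y => by
        rw [hα, ← map_inv]; show γ⁻¹ * (y : G) * γ⁻¹⁻¹ = _; rw [inv_inv]
      rw [hi, hsmul, hsmul, hi]
      simp [mul_assoc]
    have heq := huniq _ hinv
    intro x hx
    have h1 : α • (⟨x, hP'O hx⟩ : O) ∈ ((α • P : Sylow ℓ O) : Subgroup O) := by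
      rw [Sylow.pointwise_smul_def]
      exact Subgroup.smul_mem_pointwise_smul _ _ _ ((hmemP ⟨x, hP'O hx⟩).1 hx)
    rw [heq, ← hmemP, MulAut.smul_def, hαx] at h1
    exact h1
  refine ⟨P' ⊓ Subgroup.centralizer (P' : Set G), ?_, inf_le_left.trans hP'O,
    fun a ha b hb => (Subgroup.mem_centralizer_iff.1 ha.2 b hb.1).symm, fun r hr => ?_, fun γ hγ => ?_⟩
  · haveI : Nontrivial (P : Subgroup O) := by
      rw [← Finite.one_lt_card_iff_nontrivial]
      have hd : ℓ ∣ Nat.card (P : Subgroup O) := P.dvd_card_of_dvd_card hℓd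
      exact lt_of_lt_of_le hℓ.one_lt (Nat.le_of_dvd Nat.card_pos hd)
    haveI := (P.2).center_nontrivial
    obtain ⟨⟨z, hz⟩, hz1⟩ := exists_ne (1 : Subgroup.center (P : Subgroup O))
    intro hbot
    refine hz1 (Subtype.ext (Subtype.ext (Subtype.ext ?_)))
    have : ((z : O) : G) ∈ P' ⊓ Subgroup.centralizer (P' : Set G) := ⟨(hmemP _).2 z.2,
      Subgroup.mem_centralizer_iff.2 fun y hy => by
        have h := congrArg (fun u : (P : Subgroup O) => ((u : O) : G))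
          (Subgroup.mem_center_iff.1 hz ⟨⟨y, hP'O hy⟩, (hmemP ⟨y, hP'O hy⟩).1 hy⟩)
        simpa using h⟩
    rw [hbot, Subgroup.mem_bot] at this
    exact this
  all_goals
    intro x hx
    refine ⟨?_, Subgroup.mem_centralizer_iff.2 fun y hy => ?_⟩
  · exact hRP r hr x hx.1
  · have h1 := Subgroup.mem_centralizer_iff.1 hx.2 _ (hRP r⁻¹ (inv_mem hr) y hy)
    calc y * (r * x * r⁻¹) = r * (r⁻¹ * y * r⁻¹⁻¹ * x) * r⁻¹ := by simp [mul_assoc]
      _ = _ := by rw [h1]; simp [mul_assoc]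
  · exact hΓP γ hγ x hx.1
  · have h1 := Subgroup.mem_centralizer_iff.1 hx.2 _ (hΓP γ⁻¹ (inv_mem hγ) y hy)
    calc y * (γ * x * γ⁻¹) = γ * (γ⁻¹ * y * γ⁻¹⁻¹ * x) * γ⁻¹ := by simp [mul_assoc]
      _ = _ := by rw [h1]; simp [mul_assoc]

/-- In an odd abelian invariant group some non-trivial element is fixed or inverted by all labelled elements. -/
theorem exists_eigen {A : Subgroup G} (hodd : Odd (Nat.card A)) (hA : A ≠ ⊥)
    (hab : ∀ a ∈ A, ∀ b ∈ A, a * b = b * a) (hR : ∀ r ∈ S.R, ∀ x ∈ A, r * x * r⁻¹ ∈ A) :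
    ∃ b ∈ A, b ≠ 1 ∧ ∀ v, S.r v * b * (S.r v)⁻¹ = b ∨ S.r v * b * (S.r v)⁻¹ = b⁻¹ := by
  classical
  have hinv2 : ∀ v, ∀ b : G, S.r v * (S.r v * b * (S.r v)⁻¹) * (S.r v)⁻¹ = b := fun v b => by
    rw [show S.r v * (S.r v * b * (S.r v)⁻¹) * (S.r v)⁻¹ = S.r v * S.r v * b * (S.r v * S.r v)⁻¹ by simp [mul_assoc],
      S.sq, S.hε.pw_comm, mul_inv_cancel_right]
  suffices hT : ∀ T : Finset V, ∃ b ∈ A, b ≠ 1 ∧
      ∀ v ∈ T, S.r v * b * (S.r v)⁻¹ = b ∨ S.r v * b * (S.r v)⁻¹ = b⁻¹ by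
    haveI := Fintype.ofFinite V
    obtain ⟨b, hb, hb1, h⟩ := hT Finset.univ
    exact ⟨b, hb, hb1, fun v => h v (Finset.mem_univ v)⟩
  intro T
  induction T using Finset.induction with
  | empty =>
    obtain ⟨b, hb, hb1⟩ := Subgroup.ne_bot_iff_exists_ne_one.1 hA |> fun ⟨⟨x, hx⟩, hx1⟩ =>
      (⟨x, hx, fun e => hx1 (Subtype.ext e)⟩ : ∃ b ∈ A, b ≠ 1)
    exact ⟨b, hb, hb1, by simp⟩
  | insert v T _ ih =>
    obtain ⟨b, hb, hb1, hbT⟩ := ih
    obtain ⟨c, hc⟩ : ∃ c, c = S.r v * b * (S.r v)⁻¹ := ⟨_, rfl⟩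
    have hcA : c ∈ A := hc ▸ hR _ (S.r_mem v) b hb
    have hcv : S.r v * c * (S.r v)⁻¹ = b := hc ▸ hinv2 v b
    -- conjugation by another labelled element commutes with this one
    have hcT : ∀ w ∈ T, (S.r w * b * (S.r w)⁻¹ = b ∧ S.r w * c * (S.r w)⁻¹ = c) ∨
        (S.r w * b * (S.r w)⁻¹ = b⁻¹ ∧ S.r w * c * (S.r w)⁻¹ = c⁻¹) := fun w hw => by
      have e : S.r w * c * (S.r w)⁻¹ = S.r v * (S.r w * b * (S.r w)⁻¹) * (S.r v)⁻¹ := by
        rw [hc, show S.r w * (S.r v * b * (S.r v)⁻¹) * (S.r w)⁻¹ = (S.r w * S.r v) * b * (S.r w * S.r v)⁻¹ by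
          simp [mul_assoc], S.comm w v, mul_inv_rev, ← mul_assoc _ (S.r v * S.r w)⁻¹,
          mul_assoc (pw S.ε _) _ b, mul_assoc (pw S.ε _) (S.r v * S.r w * b), S.hε.pw_comm, mul_inv_cancel_right]
        simp [mul_assoc]
      rcases hbT w hw with h | h
      · exact Or.inl ⟨h, by rw [e, h, hc]⟩
      · exact Or.inr ⟨h, by rw [e, h, hc]; simp [mul_assoc]⟩
    by_cases hbc : b * c = 1
    · refine ⟨b, hb, hb1, fun w hw => ?_⟩
      rcases Finset.mem_insert.1 hw with rfl | hw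
      · right; rw [← hc, eq_inv_iff_mul_eq_one, hab c hcA b hb, hbc]
      · exact hbT w hw
    · refine ⟨b * c, mul_mem hb hcA, hbc, fun w hw => ?_⟩
      rcases Finset.mem_insert.1 hw with rfl | hw
      · left
        rw [show S.r w * (b * c) * (S.r w)⁻¹ = S.r w * b * (S.r w)⁻¹ * (S.r w * c * (S.r w)⁻¹) by simp [mul_assoc],
          ← hc, hcv, hab c hcA b hb]
      · rw [show S.r w * (b * c) * (S.r w)⁻¹ = S.r w * b * (S.r w)⁻¹ * (S.r w * c * (S.r w)⁻¹) by simp [mul_assoc]]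
        rcases hcT w hw with ⟨h1, h2⟩ | ⟨h1, h2⟩
        · left; rw [h1, h2]
        · right; rw [h1, h2, mul_inv_rev, hab _ (inv_mem hb) _ (inv_mem hcA)]

end GSys

end Cfsg.Agent.Classical.CliffordTwo
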