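import Cfsg.Agent.Lib.Classical.CliffordTwo.Sub
import Cfsg.Agent.Lib.Classical.CliffordTwo.Invariant
import Cfsg.Agent.Lib.Classical.CliffordTwo.Odd

/-!
Controlled labelled elements act as Siegel transformations; invariant groups contain them.
-/

set_option autoImplicit false
set_option linter.unusedSectionVars false

namespace Cfsg.Agent.Classical.CliffordTwo

open Module
open scoped commutatorElement

local notation "Z2" => ZMod 2

namespace Sys

variable {F : Type*} [Field F] {A : Type*} [Ring A] [Algebra F A] {V : Type*} [AddCommGroup V] [Module (ZMod 2) V]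
  [Finite V] (S : Sys F A V) (h : HPair S.toQd)

theorem phi_linear_of_gens {g : S.Iso} {f : V →ₗ[ZMod 2] V}
    (hz : Peq S.epsI (g * S.rI h.z * g⁻¹) (S.rI (f h.z))) (hx : Peq S.epsI (g * S.rI h.x * g⁻¹) (S.rI (f h.x)))
    (hw : ∀ w : h.W, Peq S.epsI (g * S.rI (w : V) * g⁻¹) (S.rI (f (w : V)))) :
    g ∈ S.gsys.N ∧ ∀ v, S.gsys.phi g v = f v := by
  obtain ⟨U, hU⟩ : ∃ U : Submodule Z2 V, ∀ v, v ∈ U ↔ Peq S.epsI (g * S.rI v * g⁻¹) (S.rI (f v)) :=
    ⟨{ carrier := {v | Peq S.epsI (g * S.rI v * g⁻¹) (S.rI (f v))}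
       zero_mem' := by
         show Peq S.epsI _ _
         rw [map_zero]
         have h0 : Peq S.epsI (S.rI 0) 1 := S.gsys.r_zero
         exact S.cinv_epsI.trans (S.cinv_epsI.conj g h0) (by simpa using S.cinv_epsI.symm h0)
       add_mem' := fun {a b} ha hb => by
         show Peq S.epsI _ _
         rw [map_add]
         refine S.cinv_epsI.trans (S.cinv_epsI.conj g (S.cinv_epsI.symm (S.gsys.mul a b))) ?_
         have h1 := S.cinv_epsI.trans (S.cinv_epsI.mul ha hb) (S.gsys.mul (f a) (f b))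
         simpa [mul_assoc, S.gsys_r] using h1
       smul_mem' := fun c x hx => by
         rcases z2_smul c x with e | e <;> rw [e]
         · show Peq S.epsI _ _
           rw [map_zero]
           have h0 : Peq S.epsI (S.rI 0) 1 := S.gsys.r_zero
           exact S.cinv_epsI.trans (S.cinv_epsI.conj g h0) (by simpa using S.cinv_epsI.symm h0)
         · exact hx }, fun _ => Iff.rfl⟩
  have hall : ∀ v, v ∈ U := fun v => by
    have e : v = (v + S.B h.x v • h.z + S.B h.z v • h.x) + (S.B h.x v • h.z + S.B h.z v • h.x) := by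
      rw [add_assoc v, add_assoc v, vadd_self, add_zero]
    rw [e]
    exact add_mem ((hU _).2 (hw ⟨_, h.decomp v⟩))
      (add_mem (Submodule.smul_mem _ _ ((hU _).2 hz)) (Submodule.smul_mem _ _ ((hU _).2 hx)))
  exact ⟨fun v => ⟨f v, (hU v).1 (hall v)⟩, fun v => S.gsys.phi_eq ((hU v).1 (hall v))⟩

theorem dia_mem_N {g : (S.sub h).Iso} (hg : g ∈ (S.sub h).gsys.N) : S.dia h g ∈ S.gsys.N := by
  intro v
  obtain ⟨U, hU⟩ : ∃ U : Submodule Z2 V, ∀ v, v ∈ U ↔ S.dia h g * S.rI v * (S.dia h g)⁻¹ ∈ S.gsys.R :=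
    ⟨{ carrier := {v | S.dia h g * S.rI v * (S.dia h g)⁻¹ ∈ S.gsys.R}
       zero_mem' := S.cinv_epsI.eps_mem S.gsys.eps_mem_R (S.cinv_epsI.conj _ S.gsys.r_zero) (by simp)
       add_mem' := fun {a b} ha hb => S.cinv_epsI.eps_mem S.gsys.eps_mem_R
         (S.cinv_epsI.conj _ (S.cinv_epsI.symm (S.gsys.mul a b))) (by
           have h1 := S.gsys.R.mul_mem ha hb
           simpa [mul_assoc, S.gsys_r] using h1)
       smul_mem' := fun c x hx => by
         rcases z2_smul c x with e | e <;> rw [e]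
         · exact S.cinv_epsI.eps_mem S.gsys.eps_mem_R (S.cinv_epsI.conj _ S.gsys.r_zero) (by simp)
         · exact hx }, fun _ => Iff.rfl⟩
  have hfix : ∀ u : V, (∀ a ∈ S.subAlg h, Commute (S.r u : A) a) → u ∈ U := fun u hu => by
    refine (hU u).2 ?_
    have e : S.dia h g * S.rI u * (S.dia h g)⁻¹ = S.rI u := by
      rw [mul_inv_eq_iff_eq_mul]
      refine S.ext_val ?_
      simp only [Subgroup.coe_mul, Units.val_mul, S.dia_val, rI_val]
      exact (hu _ (SetLike.coe_mem _)).eq.symm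
    rw [e]
    exact S.gsys.r_mem u
  have hw : ∀ w : h.W, (w : V) ∈ U := fun w => by
    obtain ⟨w', hw'⟩ := hg w
    refine (hU _).2 ⟨w', ?_⟩
    rw [← S.dia_rI h w, ← map_inv, ← map_mul, ← map_mul, show S.gsys.r (w' : V) = S.rI (w' : V) from rfl,
      ← S.dia_rI h w']
    rcases hw' with e | e
    · exact Or.inl (congrArg _ e)
    · refine Or.inr ((congrArg _ e).trans ?_)
      rw [map_mul]
      congr 1
      exact S.ext_val (by rw [S.dia_val]; simp [gsys, epsI])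
  have e : v = (v + S.B h.x v • h.z + S.B h.z v • h.x) + (S.B h.x v • h.z + S.B h.z v • h.x) := by
    rw [add_assoc v, add_assoc v, vadd_self, add_zero]
  have : v ∈ U := by
    rw [e]
    exact add_mem (hw ⟨_, h.decomp v⟩) (add_mem (Submodule.smul_mem _ _ (hfix _ fun a ha => S.rz_comm h ha))
      (Submodule.smul_mem _ _ (hfix _ fun a ha => S.rx_comm h ha)))
  exact (hU v).1 this

theorem dia_mem_NO {g : (S.sub h).Iso} (hg : g ∈ (S.sub h).NO) : S.dia h g ∈ S.NO :=
  ⟨S.dia_mem_N h hg.1, S.dia_commutator h hg.2⟩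

theorem ctl_eps : S.ctl h (S.sub h).epsI = S.rI h.z := by
  refine S.ext_val ?_
  simp only [ctl_apply, Psi_val, rI_val]
  simp only [epsI, OneMemClass.coe_one, Units.val_one, Units.val_neg, NegMemClass.coe_neg]
  rw [pr, mul_one, mul_neg_one, ← sub_eq_add_neg, Pp, Pm, ← smul_sub,
    show (1 : A) + S.r h.z - (1 - S.r h.z) = S.r h.z + S.r h.z by abel, S.half_add]

/-- The controlled labelled element acts as a Siegel transformation. -/
theorem ctl_rI (w : h.W) :
    S.ctl h ((S.sub h).rI w) ∈ S.gsys.N ∧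
      ∀ v, S.gsys.phi (S.ctl h ((S.sub h).rI w)) v = S.toQd.rho h.z (w : V) v := by
  obtain ⟨g, hg⟩ : ∃ g, g = (S.sub h).rI w := ⟨_, rfl⟩
  obtain ⟨hzw, hxw⟩ := h.mem_W.1 w.2
  rw [← hg]
  have hd : S.dia h g = S.rI (w : V) := hg ▸ S.dia_rI h w
  have hginv : Peq (S.sub h).epsI g⁻¹ g := hg ▸ (S.sub h).gsys.r_inv w
  refine S.phi_linear_of_gens h (f := S.toQd.rho h.z (w : V)) ?_ ?_ fun u => ?_
  · rw [S.toQd.rho_self hzw]
    refine Or.inl ?_
    rw [mul_inv_eq_iff_eq_mul]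
    refine S.ext_val ?_
    simp only [ctl_apply, Subgroup.coe_mul, Units.val_mul, Psi_val, rI_val]
    rw [pr, mul_add, add_mul, ← mul_assoc, ← mul_assoc, S.rz_Pp, S.rz_Pm, mul_assoc (S.Pp h),
      mul_assoc (S.Pm h), ← (S.rz_comm h (SetLike.coe_mem _)).eq, ← (S.rz_comm h (SetLike.coe_mem _)).eq,
      ← mul_assoc, ← mul_assoc]
    have h1 : S.Pp h * (S.r h.z : A) = S.Pp h := by
      rw [Pp, Algebra.smul_mul_assoc, add_mul, one_mul, S.rz_sq, add_comm]
    have h2 : S.Pm h * (S.r h.z : A) = -S.Pm h := by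
      rw [Pm, Algebra.smul_mul_assoc, sub_mul, one_mul, S.rz_sq, ← neg_sub, smul_neg]
    rw [h1, h2]
  · have e : S.toQd.rho h.z (w : V) h.x = h.x + (w : V) + S.q (w : V) • h.z := by
      rw [Qd.rho_apply, h.bxz, one_smul, hxw, zero_add, mul_one]
    rw [e]
    -- conjugating swaps the blocks
    have e1 : S.ctl h g * S.rI h.x * (S.ctl h g)⁻¹ = S.rI h.x * S.Psi h (g, g⁻¹) := by
      rw [mul_inv_eq_iff_eq_mul, mul_assoc, ctl_apply, ← map_mul, Prod.mk_mul_mk, mul_one, inv_mul_cancel,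
        ← mul_inv_eq_iff_eq_mul.1 (S.swap_Psi h g 1)]
    rw [e1]
    rcases hginv with e2 | e2
    · have hq : S.q (w : V) = 0 := by
        have h1 : g * g = 1 := by nth_rewrite 2 [← e2]; exact mul_inv_cancel g
        have h2 := (S.sub h).gsys.sq w
        rw [gsys_r, ← hg, h1] at h2
        exact (S.sub h).cinv_epsI.pw_inj (h2.symm.trans (S.sub h).cinv_epsI.pw_zero.symm)
      rw [e2, ← dia_apply, hd, hq, zero_smul, add_zero]
      exact S.gsys.mul h.x (w : V)
    · have hq : S.q (w : V) = 1 := by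
        have h1 : g * g = (S.sub h).epsI := by
          have := congrArg (fun y => g * y) e2
          simp only [mul_inv_cancel] at this
          rw [← mul_assoc, ← (S.sub h).cinv_epsI.central, mul_assoc] at this
          calc g * g = (S.sub h).epsI * ((S.sub h).epsI * (g * g)) := by
                rw [← mul_assoc, (S.sub h).cinv_epsI.sq, one_mul]
            _ = _ := by rw [← this, mul_one]
        have h2 := (S.sub h).gsys.sq w
        rw [gsys_r, ← hg, h1] at h2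
        exact (S.sub h).cinv_epsI.pw_inj (h2.symm.trans (S.sub h).cinv_epsI.pw_one.symm)
      rw [e2, show (g, (S.sub h).epsI * g) = ((1 : (S.sub h).Iso), (S.sub h).epsI) * (g, g) by simp,
        map_mul, ← ctl_apply, ctl_eps, ← dia_apply, hd, hq, one_smul, ← mul_assoc]
      refine S.cinv_epsI.trans (S.cinv_epsI.mul_right _ (S.gsys.mul h.x h.z)) ?_
      rw [add_assoc h.x, add_comm (w : V), ← add_assoc]
      exact S.gsys.mul (h.x + h.z) (w : V)
  · obtain ⟨hzu, hxu⟩ := h.mem_W.1 u.2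
    rw [S.toQd.rho_perp (by rw [S.toQd.symm]; exact hzu)]
    have hcomm := (S.sub h).gsys.comm w u
    rw [gsys_r, gsys_r, ← hg] at hcomm
    have e1 : S.ctl h g * S.rI (u : V) * (S.ctl h g)⁻¹ =
        S.Psi h ((S.sub h).rI u, pw (S.sub h).epsI (S.B (w : V) (u : V)) * (S.sub h).rI u) := by
      rw [← S.dia_rI h u, mul_inv_eq_iff_eq_mul, dia_apply, ctl_apply, ← map_mul, ← map_mul, Prod.mk_mul_mk,
        Prod.mk_mul_mk, one_mul, mul_one, hcomm, mul_assoc]
      rfl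
    rw [e1, show ((S.sub h).rI u, pw (S.sub h).epsI (S.B (w : V) (u : V)) * (S.sub h).rI u) =
      ((1 : (S.sub h).Iso), pw (S.sub h).epsI (S.B (w : V) (u : V))) * ((S.sub h).rI u, (S.sub h).rI u) by simp,
      map_mul, ← ctl_apply, ← dia_apply, S.dia_rI, S.toQd.symm (w : V) (u : V)]
    rcases z2_cases (S.B (u : V) (w : V)) with e | e <;> rw [e]
    · rw [zero_smul, add_zero, (S.sub h).cinv_epsI.pw_zero, map_one, one_mul]
      exact S.cinv_epsI.refl _
    · rw [one_smul, (S.sub h).cinv_epsI.pw_one, S.ctl_eps, add_comm]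
      exact S.gsys.mul h.z (u : V)

theorem ctl_rI_mem_N (w : h.W) : S.ctl h ((S.sub h).rI w) ∈ S.gsys.N := (S.ctl_rI h w).1

theorem ctl_rI_mem_NO (hd : 6 ≤ finrank (ZMod 2) V) (w : h.W) : S.ctl h ((S.sub h).rI w) ∈ S.NO :=
  ⟨(S.ctl_rI h w).1, S.ctl_commutator h ((S.sub h).r_mem_commutator (by have := h.finrank_W; omega) w)⟩

theorem exists_hpair (hd : 3 ≤ finrank (ZMod 2) V) {z : V} (hz : z ≠ 0) (hq : S.q z = 0) :
    ∃ h : HPair S.toQd, h.z = z := by
  obtain ⟨x, hqx, hx⟩ := S.toQd.exists_singular_pair hd hz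
  exact ⟨⟨z, x, hq, hqx, hx⟩, rfl⟩

/-- Siegel transformations are realised in any group containing the controlled elements. -/
theorem lifts_of_ctl (hd : 3 ≤ finrank (ZMod 2) V) {H : Subgroup S.Iso}
    (hH : ∀ (h : HPair S.toQd) (w : h.W), S.ctl h ((S.sub h).rI w) ∈ H) : S.gsys.Lifts H := by
  intro v w hqv hvw
  rcases eq_or_ne v 0 with rfl | hv
  · refine ⟨1, one_mem _, one_mem _, fun y => ?_⟩
    rw [S.gsys.phi_one, Qd.rho_apply]
    simp
  obtain ⟨h, rfl⟩ := S.exists_hpair hd hv hqv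
  have hmem : w + S.B h.x w • h.z ∈ h.W := by
    have := h.decomp w
    rwa [show S.B h.z w = 0 from hvw, zero_smul, add_zero] at this
  refine ⟨_, hH h ⟨_, hmem⟩, S.ctl_rI_mem_N h _, fun y => ?_⟩
  rw [(S.ctl_rI h ⟨_, hmem⟩).2]
  show S.toQd.rho h.z (w + S.B h.x w • h.z) y = S.toQd.rho h.z w y
  rcases z2_smul (S.B h.x w) h.z with e | e <;> rw [e]
  · rw [add_zero]
  · rw [← S.toQd.rho_add hqv hvw (S.toQd.self_perp h.z), S.toQd.rho_self_eq hqv]

theorem lifts_NO (hd : 6 ≤ finrank (ZMod 2) V) : S.gsys.Lifts S.NO :=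
  S.lifts_of_ctl (by omega) fun h w => S.ctl_rI_mem_NO h hd w

/-- Realised Siegel transformations give the controlled elements. -/
theorem ctl_mem_of_lifts {L : Subgroup S.Iso} (hR : S.gsys.R ≤ L) (hl : S.gsys.Lifts L) (w : h.W) :
    S.ctl h ((S.sub h).rI w) ∈ L := by
  obtain ⟨γ, hγ, hγN, hγx⟩ := hl h.z (w : V) h.qz (h.mem_W.1 w.2).1
  have h1 : γ⁻¹ * S.ctl h ((S.sub h).rI w) ∈ S.gsys.R := by
    refine S.gsys.mem_R_of_phi (mul_mem (inv_mem hγN) (S.ctl_rI_mem_N h w)) fun v => ?_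
    rw [S.gsys.phi_mul (inv_mem hγN) (S.ctl_rI_mem_N h w), (S.ctl_rI h w).2,
      show S.toQd.rho h.z (w : V) v = S.gsys.phi γ v from (hγx v).symm, S.gsys.phi_inv_phi hγN]
  have := mul_mem hγ (hR h1)
  rwa [mul_inv_cancel_left] at this

theorem eq_one_of_odd {g : S.Iso} (hodd : Odd (orderOf g)) (hg : g ∈ S.gsys.R) : g = 1 := by
  obtain ⟨v, hv⟩ := hg
  have h2 : Peq S.epsI (g * g) 1 := S.cinv_epsI.trans (S.cinv_epsI.mul hv hv) (S.gsys.inv_mul_r v)
  have h4 : g ^ 4 = 1 := by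
    rw [show (4 : ℕ) = 2 * 2 from rfl, pow_mul, pow_two g, pow_two]
    rcases h2 with e | e <;> rw [e] <;> simp [S.cinv_epsI.sq]
  have hd := orderOf_dvd_of_pow_eq_one h4
  have hle := Nat.le_of_dvd (by norm_num) hd
  rw [← orderOf_eq_one_iff]
  obtain ⟨k, hk⟩ := hodd
  interval_cases horderOf : orderOf g <;> omega

/-- A scalar odd isometry is trivial. -/
theorem eq_one_of_smul {g : S.Iso} (hodd : Odd (orderOf g)) {v : V} {c : F}
    (hg : ((g : Aˣ) : A) = c • (S.r v : A)) : g = 1 := by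
  refine S.eq_one_of_odd hodd ⟨v, S.peq_iff.2 ?_⟩
  have h1 := S.mem_Iso.1 g.2
  rw [hg, map_smul, Algebra.smul_mul_assoc, Algebra.mul_smul_comm, smul_smul, S.τ_r_mul] at h1
  have hc : c * c = 1 := by
    haveI := S.nontrivial
    by_contra hne
    have : (c * c - 1) • (1 : A) = 0 := by rw [sub_smul, h1, one_smul, sub_self]
    exact (smul_ne_zero (sub_ne_zero.2 hne) one_ne_zero) this
  rw [hg]
  exact scalar_mem_iso hc _

variable [Finite S.Iso]

/-- No odd invariant abelian group. -/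
theorem abelian_eq_bot (hd : 3 ≤ finrank (ZMod 2) V) {Γ A' : Subgroup S.Iso} (hl : S.gsys.Lifts Γ)
    (hodd : Odd (Nat.card A')) (hab : ∀ a ∈ A', ∀ b ∈ A', a * b = b * a)
    (hR : ∀ r ∈ S.gsys.R, ∀ x ∈ A', r * x * r⁻¹ ∈ A')
    (hΓ : ∀ γ ∈ Γ, γ ∈ S.gsys.N → ∀ x ∈ A', γ * x * γ⁻¹ ∈ A') : A' = ⊥ := by
  classical
  haveI := Fintype.ofFinite V
  by_contra hA
  obtain ⟨b, hb, hb1, hbv⟩ := S.gsys.exists_eigen hodd hA hab hR
  have hbo : Odd (orderOf b) := hodd.of_dvd_nat (A'.orderOf_dvd_natCard hb)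
  have hbne : b⁻¹ ≠ b := fun e => by
    refine hb1 (orderOf_eq_one_iff.1 ?_)
    have h2 : orderOf b ∣ 2 := orderOf_dvd_of_pow_eq_one (by rw [pow_two]; nth_rewrite 1 [← e]; rw [inv_mul_cancel])
    rcases (Nat.dvd_prime Nat.prime_two).1 h2 with e' | e'
    · exact e'
    · rw [e'] at hbo; exact absurd hbo (by decide)
  obtain ⟨s, hs⟩ : ∃ s : V → Z2, ∀ v, s v = if S.gsys.r v * b * (S.gsys.r v)⁻¹ = b then 0 else 1 := ⟨_, fun _ => rfl⟩
  have hpe : ∀ (x y : S.Iso), Peq S.epsI x y → x * b * x⁻¹ = y * b * y⁻¹ := fun x y e => by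
    rcases e with e | e <;> rw [e]
    rw [show S.epsI * y * b * (S.epsI * y)⁻¹ = S.epsI * (y * b * y⁻¹) * S.epsI⁻¹ by simp [mul_assoc],
      S.cinv_epsI.central, mul_inv_cancel_right]
  have hact : ∀ v, S.gsys.r v * b * (S.gsys.r v)⁻¹ = if s v = 0 then b else b⁻¹ := fun v => by
    rw [hs]
    by_cases e : S.gsys.r v * b * (S.gsys.r v)⁻¹ = b
    · rw [if_pos e, if_pos rfl, e]
    · rw [if_neg e, if_neg one_ne_zero]; exact (hbv v).resolve_left e
  have hadd : ∀ u v, s (u + v) = s u + s v := fun u v => by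
    have e : S.gsys.r (u + v) * b * (S.gsys.r (u + v))⁻¹ =
        S.gsys.r u * (S.gsys.r v * b * (S.gsys.r v)⁻¹) * (S.gsys.r u)⁻¹ := by
      rw [hpe _ _ (S.cinv_epsI.symm (S.gsys.mul u v)), mul_inv_rev]
      simp only [mul_assoc]
    have hinv : ∀ u, S.gsys.r u * b⁻¹ * (S.gsys.r u)⁻¹ = (S.gsys.r u * b * (S.gsys.r u)⁻¹)⁻¹ := fun u => by
      simp [mul_assoc]
    rcases z2_cases (s u) with a | a <;> rcases z2_cases (s v) with c | c <;>
      (rw [hact v, c] at e; simp only [if_true, if_neg one_ne_zero, hinv, hact u, a, inv_inv] at e; rw [hs, e, a, c]) <;>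
      simp [hbne] <;> rfl
  obtain ⟨f, hf⟩ : ∃ f : V →ₗ[Z2] Z2, ∀ v, f v = s v :=
    ⟨{ toFun := s
       map_add' := hadd
       map_smul' := fun c x => by
         rcases z2_cases c with rfl | rfl
         · have h0 := hadd 0 0
           rw [add_zero, z2_add_self] at h0
           rw [zero_smul, h0, RingHom.id_apply, zero_smul]
         · rw [one_smul, RingHom.id_apply, one_smul] }, fun _ => rfl⟩
  obtain ⟨c, hc⟩ : ∃ c, ∀ v, S.B c v = s v :=
    ⟨(LinearMap.BilinForm.toDual S.B S.toQd.nondeg).symm f, fun v => by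
      rw [LinearMap.BilinForm.apply_toDual_symm_apply, hf]⟩
  obtain ⟨M, hM⟩ : ∃ M, M = ((b : Aˣ) : A) := ⟨_, rfl⟩
  have hsupp : ∀ v, S.basis.repr M v ≠ 0 → v = 0 ∨ v = c := fun v hv => by
    refine mem_span_one ((S.toQd.perp_perp (Submodule.span Z2 {c})) ▸ ?_)
    refine S.toQd.mem_perp.2 fun u hu => ?_
    rw [S.toQd.mem_perp_one, hc] at hu
    rw [S.toQd.symm]
    refine S.support_of_comm (s := 0) ?_ hv
    have h1 := hact u
    rw [hu, if_pos rfl, mul_inv_eq_iff_eq_mul] at h1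
    have := congrArg (fun y : S.Iso => ((y : Aˣ) : A)) h1
    simp only [Subgroup.coe_mul, Units.val_mul, gsys_r, rI_val, ← hM] at this
    rw [sg_zero, one_smul, ← this]
  obtain ⟨α, β, hαβ⟩ : ∃ α β : F, M = α • (1 : A) + β • (S.r c : A) := by
    rcases eq_or_ne c 0 with rfl | hc0
    · refine ⟨0, S.basis.repr M 0, ?_⟩
      rw [zero_smul, zero_add]
      conv_lhs => rw [← S.sum_repr M]
      refine Finset.sum_eq_single 0 (fun u _ hu => ?_) (by simp)
      by_cases e : S.basis.repr M u = 0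
      · rw [e, zero_smul]
      · rcases hsupp u e with e' | e' <;> exact absurd e' hu
    obtain ⟨d, hd'⟩ : ∃ d : F, (S.r 0 : A) = d • 1 := by
      rcases S.r_zero with e | e
      · exact ⟨1, by rw [one_smul, e]⟩
      · exact ⟨-1, by rw [neg_one_smul, e]⟩
    refine ⟨S.basis.repr M 0 * d, S.basis.repr M c, ?_⟩
    conv_lhs => rw [← S.sum_repr M]
    rw [← smul_smul, ← hd', Finset.sum_eq_add 0 c hc0.symm (fun u _ hu => ?_) (by simp) (by simp)]
    by_cases e : S.basis.repr M u = 0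
    · rw [e, zero_smul]
    · rcases hsupp u e with e' | e'
      · exact absurd e' hu.1
      · exact absurd e' hu.2
  have hβ : β ≠ 0 := fun e => by
    obtain ⟨d, hd'⟩ : ∃ d : F, (1 : A) = d • (S.r 0 : A) := by
      rcases S.r_zero with e | e
      · exact ⟨1, by rw [one_smul, e]⟩
      · exact ⟨-1, by rw [neg_one_smul, e, neg_neg]⟩
    exact hb1 (S.eq_one_of_smul hbo (v := 0) (c := α * d) (by
      rw [← hM, hαβ, e, zero_smul, add_zero, ← smul_smul, ← hd']))
  have hc0 : c ≠ 0 := fun e => by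
    obtain ⟨d, hd'⟩ : ∃ d : F, (S.r 0 : A) = d • 1 := by
      rcases S.r_zero with e | e
      · exact ⟨1, by rw [one_smul, e]⟩
      · exact ⟨-1, by rw [neg_one_smul, e]⟩
    have hall : ∀ v, S.gsys.r v * b * (S.gsys.r v)⁻¹ = b := fun v => by
      rw [hact, show s v = 0 by rw [← hc, e, map_zero, LinearMap.zero_apply], if_pos rfl]
    refine hb1 (S.eq_one_of_odd hbo (S.gsys.mem_R_of_phi (fun v => ⟨v, ?_⟩) fun v => S.gsys.phi_eq ?_)) <;>
    · have h1 := mul_inv_eq_iff_eq_mul.1 (hall v)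
      rw [← h1, mul_inv_cancel_right]
      exact S.cinv_epsI.refl _
  by_cases hqc : S.q c = 0
  · refine hbne (S.ext_val ?_)
    rw [Subgroup.coe_inv, ← S.τ_eq_inv b.2, ← hM, hαβ, map_add, map_smul, map_smul, S.τ_one, S.adj, hqc, sg_zero,
      one_smul]
  obtain ⟨v, hqv, hcv⟩ := S.toQd.exists_singular_pair hd hc0
  obtain ⟨w, hw, hqw, -⟩ := S.toQd.exists_nonsingular_perp hd v
  obtain ⟨γ, hγ, hγN, hγx⟩ := hl v w hqv hw
  obtain ⟨c', hc'⟩ : ∃ c', c' = S.gsys.phi γ c := ⟨_, rfl⟩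
  have hcc : S.B c c' = 1 := by
    rw [hc', hγx, Qd.rho_apply, show S.gsys.B = S.B from rfl, show S.gsys.q = S.q from rfl, hcv, hqw, one_smul, mul_one, map_add, map_add,
      map_smul, S.toQd.self_perp, hcv, smul_eq_mul, mul_one, zero_add, ← add_assoc, z2_add_self, zero_add]
  obtain ⟨σ, hσ⟩ := S.cinv_epsI.exists_pw (S.gsys.phi_spec hγN c)
  have hb' : (((γ * b * γ⁻¹ : S.Iso) : Aˣ) : A) = α • (1 : A) + (β * sg F σ) • (S.r c' : A) := by
    have h1 := congrArg (fun y : S.Iso => ((y : Aˣ) : A)) hσ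
    simp only [Subgroup.coe_mul, Units.val_mul, gsys_r, rI_val, S.pw_val, smul_one_mul, ← hc'] at h1
    simp only [Subgroup.coe_mul, Units.val_mul, ← hM, hαβ, mul_add, add_mul, Algebra.mul_smul_comm,
      Algebra.smul_mul_assoc, mul_one]
    rw [h1, smul_smul, ← Units.val_mul, ← Subgroup.coe_mul, mul_inv_cancel, OneMemClass.coe_one, Units.val_one]
  have hcomG := hab b hb _ (hΓ γ hγ hγN b hb)
  obtain ⟨b', hbd⟩ : ∃ b', b' = γ * b * γ⁻¹ := ⟨_, rfl⟩
  rw [← hbd] at hb' hcomG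
  have hcom := congrArg (fun y : S.Iso => ((y : Aˣ) : A)) hcomG
  simp only [Subgroup.coe_mul, Units.val_mul, hb', ← hM, hαβ] at hcom
  simp only [add_mul, mul_add, Algebra.smul_mul_assoc, Algebra.mul_smul_comm, one_mul, mul_one, smul_smul,
    S.comm c c', hcc, sg_one] at hcom
  have hz : ((2 : F) * (β * (β * sg F σ))) • ((S.r c' : A) * S.r c) = 0 := by
    rw [← sub_eq_zero] at hcom
    linear_combination (norm := module) -hcom
  rw [smul_eq_zero] at hz
  rcases hz with hz | hz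
  · rcases mul_eq_zero.1 hz with e | e
    · exact S.two e
    · rcases mul_eq_zero.1 e with e | e
      · exact hβ e
      · rcases mul_eq_zero.1 e with e | e
        · exact hβ e
        · have := sg_sq F σ
          rw [e, zero_mul] at this; exact zero_ne_one this
  · haveI := S.nontrivial
    exact (S.r c' * S.r c).ne_zero (by rw [Units.val_mul]; exact hz)

/-- An invariant group outside the two-group contains the controlled elements. -/
theorem ctl_mem_of_invariant (hd : 6 ≤ finrank (ZMod 2) V) {L : Subgroup S.Iso} (hR : S.gsys.R ≤ L)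
    (hinv : ∀ γ ∈ S.NO, ∀ x ∈ L, γ * x * γ⁻¹ ∈ L) (hL : ¬ L ≤ S.gsys.R) (w : h.W) :
    S.ctl h ((S.sub h).rI w) ∈ L := by
  have hl := S.lifts_NO hd
  by_cases hN : L ⊓ S.gsys.N ≤ S.gsys.R
  · exfalso
    obtain ⟨O, hOL, hodd, hmem, hbot⟩ := S.gsys.exists_odd_part hR hN
    refine hL (hbot ?_)
    by_contra hO
    have hconj : ∀ g : S.Iso, (∀ x ∈ L, g * x * g⁻¹ ∈ L) → ∀ x ∈ O, g * x * g⁻¹ ∈ O := fun g hg x hx => by
      obtain ⟨h1, h2⟩ := (hmem x).1 hx
      refine (hmem _).2 ⟨hg x h1, ?_⟩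
      rwa [← (MulAut.conj g).orderOf_eq x, MulAut.conj_apply] at h2
    obtain ⟨A', hA', hA'O, hab, hAR, hAΓ⟩ := S.gsys.exists_abelian S.NO_le hodd hO
      (fun r hr => hconj r fun x hx => mul_mem (mul_mem (hR hr) hx) (inv_mem (hR hr)))
      (fun γ hγ => hconj γ (hinv γ hγ)) fun x hx hfix => by
        refine S.eq_one_of_odd ((hmem x).1 hx).2 (S.gsys.mem_R_of_phi (fun v => ⟨v, ?_⟩) fun v => S.gsys.phi_eq ?_) <;>
        · have h1 := mul_inv_eq_iff_eq_mul.1 (hfix v)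
          rw [← h1, mul_inv_cancel_right]
          exact S.cinv_epsI.refl _
    exact hA' (S.abelian_eq_bot (by omega) hl (hodd.of_dvd_nat (Subgroup.card_dvd_of_le hA'O)) hab hAR
      (fun γ hγ _ => hAΓ γ hγ))
  · obtain ⟨x, hx, hxR⟩ := SetLike.not_le_iff_exists.1 hN
    have P : S.gsys.Inv S.NO (L ⊓ S.gsys.N) := ⟨hd, hl, inf_le_right, fun γ hγ hγN y hy =>
      ⟨hinv γ hγ y hy.1, S.gsys.N.mul_mem (S.gsys.N.mul_mem hγN hy.2) (S.gsys.N.inv_mem hγN)⟩⟩
    have hne : ∃ x ∈ L ⊓ S.gsys.N, ∃ y, S.gsys.phi x y ≠ y := by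
      refine ⟨x, hx, ?_⟩
      by_contra hcon
      push Not at hcon
      exact hxR (S.gsys.mem_R_of_phi hx.2 hcon)
    exact (S.ctl_mem_of_lifts h (le_inf hR S.gsys.R_le_N) (P.lifts_all hne) w).1

end Sys

end Cfsg.Agent.Classical.CliffordTwo
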