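import Cfsg.Agent.Lib.Classical.CliffordTwo.SympEnd
import Mathlib.GroupTheory.SpecificGroups.Alternating

/-!
Minus type in dimension six: overgroups of the normaliser. The five singular points of the four-dimensional
perpendicular space carry the action.
-/

set_option autoImplicit false
set_option linter.unusedSectionVars false

namespace Cfsg.Agent.Classical.CliffordTwo

open Module Matrix

local notation "Z2" => ZMod 2

theorem perm_five_commute (σ : Equiv.Perm (Fin 5))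
    (h1 : σ * (Equiv.swap 0 1 * Equiv.swap 0 2) = Equiv.swap 0 1 * Equiv.swap 0 2 * σ)
    (h2 : σ * (Equiv.swap 2 3 * Equiv.swap 2 4) = Equiv.swap 2 3 * Equiv.swap 2 4 * σ) : σ = 1 := by
  obtain ⟨c, hc⟩ : ∃ c : Equiv.Perm (Fin 5), c = Equiv.swap 0 1 * Equiv.swap 0 2 := ⟨_, rfl⟩
  obtain ⟨d, hd⟩ : ∃ d : Equiv.Perm (Fin 5), d = Equiv.swap 2 3 * Equiv.swap 2 4 := ⟨_, rfl⟩
  rw [← hc] at h1
  rw [← hd] at h2
  have e1 : ∀ x, σ (c x) = c (σ x) := fun x => by
    rw [← Equiv.Perm.mul_apply, h1, Equiv.Perm.mul_apply]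
  have e2 : ∀ x, σ (d x) = d (σ x) := fun x => by
    rw [← Equiv.Perm.mul_apply, h2, Equiv.Perm.mul_apply]
  have k1 : ∀ x, c x = x → x = 3 ∨ x = 4 := by rw [hc]; decide
  have k2 : ∀ x, d x = x → x = 0 ∨ x = 1 := by rw [hd]; decide
  have k3 : ∀ x : Fin 5, c x ≠ x → d x ≠ x → x = 2 := by rw [hc, hd]; decide
  have hc2 : c 2 = 1 ∧ c 1 = 0 := by rw [hc]; decide
  have hd2 : d 2 = 4 ∧ d 4 = 3 := by rw [hd]; decide
  have h : σ 2 = 2 := k3 _ (fun e => by
      have := (e1 2).trans e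
      rw [σ.injective.eq_iff, hc2.1] at this
      exact absurd this (by decide)) fun e => by
      have := (e2 2).trans e
      rw [σ.injective.eq_iff, hd2.1] at this
      exact absurd this (by decide)
  have h1' : σ 1 = 1 := by rw [← hc2.1, e1, h]
  have h0 : σ 0 = 0 := by rw [← hc2.2, e1, h1']
  have h4 : σ 4 = 4 := by rw [← hd2.1, e2, h]
  have h3 : σ 3 = 3 := by rw [← hd2.2, e2, h4]
  ext x
  fin_cases x <;> simp [h0, h1', h, h3, h4]

/-- A non-trivial group of permutations of five points invariant under all three-cycles contains all three-cycles. -/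
theorem three_mem_five (K : Subgroup (Equiv.Perm (Fin 5))) (hK : K ≠ ⊥)
    (hinv : ∀ τ : Equiv.Perm (Fin 5), τ.IsThreeCycle → ∀ σ ∈ K, τ * σ * τ⁻¹ ∈ K) :
    alternatingGroup (Fin 5) ≤ K := by
  classical
  have halt : alternatingGroup (Fin 5) ≤ Subgroup.normalizer (K : Set (Equiv.Perm (Fin 5))) := by
    rw [← Equiv.Perm.closure_three_cycles_eq_alternating, Subgroup.closure_le]
    intro τ hτ
    rw [SetLike.mem_coe, Subgroup.mem_normalizer_iff]
    intro σ
    refine ⟨hinv τ hτ σ, fun h => ?_⟩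
    have h2 := hinv τ⁻¹ hτ.inv _ h
    simpa [mul_assoc] using h2
  obtain ⟨J, hJ⟩ : ∃ J, J = K.subgroupOf (alternatingGroup (Fin 5)) := ⟨_, rfl⟩
  haveI : J.Normal := ⟨fun j hj a => by
    rw [hJ, Subgroup.mem_subgroupOf] at hj ⊢
    exact (Subgroup.mem_normalizer_iff.1 (halt a.2) _).1 hj⟩
  haveI : IsSimpleGroup (alternatingGroup (Fin 5)) := alternatingGroup.isSimpleGroup (by simp)
  rcases (inferInstance : J.Normal).eq_bot_or_eq_top with e | e
  · exfalso
    obtain ⟨σ, hσ, hσ1⟩ : ∃ σ ∈ K, σ ≠ 1 := by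
      by_contra h
      push Not at h
      exact hK ((Subgroup.eq_bot_iff_forall K).2 h)
    have hcomm : ∀ τ : Equiv.Perm (Fin 5), τ.IsThreeCycle → σ * τ = τ * σ := fun τ hτ => by
      have h1 : σ * τ * σ⁻¹ * τ⁻¹ ∈ alternatingGroup (Fin 5) :=
        Equiv.Perm.mem_alternatingGroup.2 (by simp [Equiv.Perm.sign_mul, hτ.sign])
      have h2 : σ * τ * σ⁻¹ * τ⁻¹ ∈ K := by
        have := mul_mem hσ (hinv τ hτ σ⁻¹ (inv_mem hσ))
        simpa [mul_assoc] using this
      have h3 : (⟨_, h1⟩ : alternatingGroup (Fin 5)) ∈ J := by rw [hJ, Subgroup.mem_subgroupOf]; exact h2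
      rw [e, Subgroup.mem_bot] at h3
      have h4 : σ * τ * σ⁻¹ * τ⁻¹ = 1 := congrArg Subtype.val h3
      rw [mul_inv_eq_one, mul_inv_eq_iff_eq_mul] at h4
      exact h4
    exact hσ1 (perm_five_commute σ
      (hcomm _ (Equiv.Perm.isThreeCycle_swap_mul_swap_same (by decide) (by decide) (by decide)))
      (hcomm _ (Equiv.Perm.isThreeCycle_swap_mul_swap_same (by decide) (by decide) (by decide))))
  · rw [hJ, Subgroup.subgroupOf_eq_top] at e
    exact e

namespace Sys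

variable {F : Type*} [Field F] [Fintype F] {A : Type*} [Ring A] [Algebra F A] [Finite A] {V : Type*} [AddCommGroup V]
  [Module (ZMod 2) V] [Finite V] (S : Sys F A V)

/-- An element of the normaliser fixing a pair and cycling the perpendicular plane. -/
theorem exists_cycle (hl : S.gsys.Lifts S.gsys.N) (h : HPair S.toQd) (s t : h.W) (hs : S.q (s : V) = 1)
    (ht : S.q (t : V) = 1) (hst : S.B (s : V) (t : V) = 1) :
    ∃ g ∈ S.gsys.N, S.gsys.phi g h.z = h.z ∧ S.gsys.phi g h.x = h.x ∧ S.gsys.phi g (t : V) = (s : V) + (t : V) ∧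
      S.gsys.phi g (s : V) = (t : V) := by
  have hn : ∀ w : h.W, S.q (w : V) = 1 → ∃ g ∈ S.gsys.N, S.gsys.phi g h.z = h.x ∧ S.gsys.phi g h.x = h.z ∧
      ∀ u : h.W, S.gsys.phi g (u : V) = (u : V) + S.B (u : V) (w : V) • (w : V) := by
    intro w hqw
    obtain ⟨e1, e2⟩ := h.mem_W.1 w.2
    obtain ⟨γ, -, hγN, hγx⟩ := hl h.z (w : V) h.qz e1
    obtain ⟨δ, -, hδN, hδx⟩ := hl h.x (w : V) h.qx e2
    refine ⟨γ * δ * γ, mul_mem (mul_mem hγN hδN) hγN, ?_, ?_, fun u => ?_⟩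
    all_goals
      rw [S.gsys.phi_mul (mul_mem hγN hδN) hγN, S.gsys.phi_mul hγN hδN, hγx, hδx, hγx]
      show S.toQd.rho _ _ (S.toQd.rho _ _ (S.toQd.rho _ _ _)) = _
    · simp only [Qd.rho_apply, map_add, map_smul, LinearMap.add_apply, LinearMap.smul_apply, S.toQd.self_perp,
        e1, e2, h.bzx, h.bxz, hqw, S.toQd.symm (w : V) h.z, S.toQd.symm (w : V) h.x]
      simp
      abel_nf
      simp [two_smul, vadd_self, nsmul_three, nsmul_four, zsmul_three, zsmul_four]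
    · simp only [Qd.rho_apply, map_add, map_smul, LinearMap.add_apply, LinearMap.smul_apply, S.toQd.self_perp,
        e1, e2, h.bzx, h.bxz, hqw, S.toQd.symm (w : V) h.z, S.toQd.symm (w : V) h.x]
      simp
      abel_nf
      simp [two_smul, vadd_self, nsmul_three, nsmul_four, zsmul_three, zsmul_four]
    · obtain ⟨f1, f2⟩ := h.mem_W.1 u.2
      simp only [Qd.rho_apply, map_add, map_smul, LinearMap.add_apply, LinearMap.smul_apply, S.toQd.self_perp,
        e1, e2, h.bzx, h.bxz, hqw, S.toQd.symm (w : V) h.z, S.toQd.symm (w : V) h.x,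
        S.toQd.symm (u : V) h.z, S.toQd.symm (u : V) h.x, f1, f2]
      rcases z2_cases (S.B (u : V) (w : V)) with hc | hc <;> rw [hc] <;> simp
      abel_nf
      simp [two_smul, vadd_self, nsmul_three, nsmul_four, zsmul_three, zsmul_four]
  obtain ⟨g1, hg1, hg1z, hg1x, hg1u⟩ := hn s hs
  obtain ⟨g2, hg2, hg2z, hg2x, hg2u⟩ := hn t ht
  have hts : S.B (t : V) (s : V) = 1 := (S.toQd.symm _ _).trans hst
  refine ⟨g1 * g2, mul_mem hg1 hg2, ?_, ?_, ?_, ?_⟩
  · rw [S.gsys.phi_mul hg1 hg2, hg2z, hg1x]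
  · rw [S.gsys.phi_mul hg1 hg2, hg2x, hg1z]
  · rw [S.gsys.phi_mul hg1 hg2, hg2u, S.toQd.self_perp, zero_smul, add_zero, hg1u, hts, one_smul, add_comm]
  · rw [S.gsys.phi_mul hg1 hg2, hg2u, hst, one_smul, S.gsys.phi_add hg1, hg1u, hg1u, S.toQd.self_perp, hts,
      zero_smul, add_zero, one_smul, ← add_assoc, add_comm _ (t : V), add_assoc, vadd_self, add_zero]

/-- The singular points of a four-dimensional space of minus type. -/
theorem exists_five (hd : finrank (ZMod 2) V = 4) (hmin : S.toQd.NoHalf 2) :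
    ∃ v : Fin 5 → V, (∀ i, S.q (v i) = 0) ∧ (∀ i j, i ≠ j → S.B (v i) (v j) = 1) ∧ (∀ i, v i ≠ 0) ∧
      (∀ y, y ≠ 0 → S.q y = 0 → ∃ i, v i = y) ∧ ∑ i, v i = 0 ∧ Submodule.span Z2 (Set.range v) = ⊤ := by
  classical
  obtain ⟨z, -, hz0, hqz⟩ := S.toQd.exists_singular (W := ⊤) (by rw [finrank_top, hd]; norm_num)
  obtain ⟨h, hhz⟩ := S.exists_hpair (by omega) hz0 hqz
  have hW := h.finrank_W
  have hq1 : ∀ w : h.W, w ≠ 0 → S.q (w : V) = 1 := fun w hw => z2_eq_one fun e => by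
    have := h.noHalf (m := 1) hmin (Submodule.span Z2 {w}) fun u hu => by
      rcases mem_span_one hu with rfl | rfl
      · exact h.qd.q_zero
      · exact e
    rw [finrank_span_singleton hw] at this
    exact lt_irrefl 1 this
  obtain ⟨b⟩ : Nonempty (Basis (Fin 2) Z2 h.W) :=
    ⟨(Module.finBasis Z2 h.W).reindex (finCongr (by omega))⟩
  obtain ⟨s₁, s₂, hs₁, hs₂⟩ : ∃ s₁ s₂ : h.W, s₁ = b 0 ∧ s₂ = b 1 := ⟨_, _, rfl, rfl⟩
  have hs10 : s₁ ≠ 0 := hs₁ ▸ b.ne_zero 0
  have hs20 : s₂ ≠ 0 := hs₂ ▸ b.ne_zero 1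
  have hs12 : s₁ + s₂ ≠ 0 := fun e => by
    have := vadd_eq_zero e
    rw [hs₁, hs₂] at this
    exact absurd (b.injective this) (by decide)
  have hB12 : S.B (s₁ : V) (s₂ : V) = 1 := by
    have h1 := hq1 _ hs12
    rw [Submodule.coe_add, S.polar, hq1 _ hs10, hq1 _ hs20] at h1
    exact (zero_add _).symm.trans h1
  obtain ⟨v, hv⟩ : ∃ v : Fin 5 → V, v = ![h.z, h.x, h.z + h.x + s₁, h.z + h.x + s₂, h.z + h.x + (s₁ + s₂)] := ⟨_, rfl⟩
  have m1 := h.mem_W.1 s₁.2
  have m2 := h.mem_W.1 s₂.2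
  have hqv : ∀ i, S.q (v i) = 0 := fun i => by
    fin_cases i <;>
      simp [hv, S.polar, h.qz, h.qx, h.bzx, hq1 _ hs10, hq1 _ hs20, hB12, m1, m2] <;> rfl
  have hBv : ∀ i j, i ≠ j → S.B (v i) (v j) = 1 := fun i j hij => by
    fin_cases i <;> fin_cases j <;> simp at hij <;>
      simp [hv, h.bzx, h.bxz, hB12, m1, m2, S.toQd.self_perp, S.toQd.symm _ h.z, S.toQd.symm _ h.x,
        S.toQd.symm (s₂ : V) (s₁ : V)] <;> rfl
  have hv0 : ∀ i, v i ≠ 0 := fun i e => by
    obtain ⟨j, hj⟩ : ∃ j, j ≠ i := exists_ne i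
    have := hBv j i hj
    rw [e, map_zero] at this
    exact zero_ne_one this
  have hexp : ∀ y : V, ∃ a c : Z2, ∃ s : h.W, y = a • h.z + c • h.x + (s : V) := fun y =>
    ⟨S.B h.x y, S.B h.z y, ⟨_, h.decomp y⟩, by
      show y = _ + (y + S.B h.x y • h.z + S.B h.z y • h.x)
      rw [add_assoc y, add_comm _ (y + _), add_assoc y, vadd_self, add_zero]⟩
  have hW4 : ∀ s : h.W, s = 0 ∨ s = s₁ ∨ s = s₂ ∨ s = s₁ + s₂ := fun s => by
    have := b.sum_repr s
    rw [Fin.sum_univ_two, ← hs₁, ← hs₂] at this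
    rcases z2_cases (b.repr s 0) with e | e <;> rcases z2_cases (b.repr s 1) with e' | e' <;>
      rw [e, e'] at this <;> simp at this <;> simp [← this]
  refine ⟨v, hqv, hBv, hv0, fun y hy hqy => ?_, ?_, ?_⟩
  · obtain ⟨a, c, s, hyac⟩ := hexp y
    have ms := h.mem_W.1 s.2
    rw [hyac] at hqy
    simp only [S.polar, map_add, LinearMap.add_apply, map_smul, LinearMap.smul_apply, ms.1, ms.2, h.bzx] at hqy
    rcases eq_or_ne s 0 with rfl | hs0
    · rcases z2_cases a with rfl | rfl <;> rcases z2_cases c with rfl | rfl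
      · simp at hyac; exact absurd hyac hy
      · exact ⟨1, by simp [hv, hyac]⟩
      · exact ⟨0, by simp [hv, hyac]⟩
      · simp [h.qz, h.qx, S.toQd.q_zero] at hqy
    · rcases z2_cases a with rfl | rfl <;> rcases z2_cases c with rfl | rfl <;>
        simp [h.qz, h.qx, S.toQd.q_zero, hq1 _ hs0] at hqy
      rcases hW4 s with e | e | e | e
      · exact absurd e hs0
      · exact ⟨2, by simp [hv, hyac, e]⟩
      · exact ⟨3, by simp [hv, hyac, e]⟩
      · exact ⟨4, by simp [hv, hyac, e]⟩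
  · simp [hv, Fin.sum_univ_five]
    abel_nf
    simp [two_smul, vadd_self, nsmul_three, nsmul_four, zsmul_three, zsmul_four]
  · refine eq_top_iff.2 fun y _ => ?_
    obtain ⟨K, hK⟩ : ∃ K, K = Submodule.span Z2 (Set.range v) := ⟨_, rfl⟩
    rw [← hK]
    have hm : ∀ i, v i ∈ K := fun i => hK ▸ Submodule.subset_span ⟨i, rfl⟩
    have hz : h.z ∈ K := by simpa [hv] using hm 0
    have hx : h.x ∈ K := by simpa [hv] using hm 1
    have hs : ∀ {s : V}, h.z + h.x + s ∈ K → s ∈ K := fun {s} hs => by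
      have := add_mem hs (add_mem hz hx)
      rwa [add_comm (h.z + h.x) s, add_assoc, vadd_self, add_zero] at this
    obtain ⟨a, c, s, rfl⟩ := hexp y
    refine add_mem (add_mem (K.smul_mem _ hz) (K.smul_mem _ hx)) ?_
    rcases hW4 s with rfl | rfl | rfl | rfl
    · exact zero_mem _
    · exact hs (by simpa [hv] using hm 2)
    · exact hs (by simpa [hv] using hm 3)
    · exact hs (by simpa [hv] using hm 4)

/-- A non-trivial invariant part of the normaliser contains an element fixing a pair. -/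
theorem exists_pair_fixer (hl : S.gsys.Lifts S.gsys.N) (hd : finrank (ZMod 2) V = 4) (hmin : S.toQd.NoHalf 2)
    {L : Subgroup S.Iso} (hLN : L ≤ S.gsys.N) (hinv : ∀ γ ∈ S.gsys.N, ∀ l ∈ L, γ * l * γ⁻¹ ∈ L)
    (hLR : ¬ L ≤ S.gsys.R) :
    ∃ h : HPair S.toQd, ∃ g ∈ L, ∃ y : V, S.gsys.phi g h.z = h.z ∧ S.gsys.phi g h.x = h.x ∧ S.gsys.phi g y ≠ y := by
  classical
  obtain ⟨v, hqv, hBv, hv0, hall, hsum, hspan⟩ := S.exists_five hd hmin
  have hvi : Function.Injective v := fun i j e => by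
    by_contra hij
    have := hBv i j hij
    rw [e, S.toQd.self_perp] at this
    exact zero_ne_one this
  have hex : ∀ g : S.gsys.N, ∀ i, ∃ j, v j = S.gsys.phi (g : S.Iso) (v i) := fun g i =>
    hall _ (S.gsys.phi_ne_zero g.2 (hv0 i)) ((S.gsys.q_phi g.2 _).trans (hqv i))
  choose σ hσ using hex
  have hσi : ∀ g, Function.Injective (σ g) := fun g i j e => hvi (S.gsys.phi_injective g.2 (by
    rw [← hσ, ← hσ, e]))
  obtain ⟨π, hπ⟩ : ∃ π : S.gsys.N →* Equiv.Perm (Fin 5), ∀ g i, π g i = σ g i :=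
    ⟨{ toFun := fun g => Equiv.ofBijective (σ g) (Finite.injective_iff_bijective.1 (hσi g))
       map_one' := Equiv.ext fun i => hvi (by
         show v (σ 1 i) = v i
         rw [hσ, OneMemClass.coe_one, S.gsys.phi_one])
       map_mul' := fun a b => Equiv.ext fun i => hvi (by
         show v (σ (a * b) i) = v (σ a (σ b i))
         rw [hσ, hσ, hσ, Subgroup.coe_mul, S.gsys.phi_mul a.2 b.2]) }, fun _ _ => rfl⟩
  have hcyc : ∀ τ : Equiv.Perm (Fin 5), τ.IsThreeCycle → ∃ g, π g = τ := by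
    intro τ hτ
    obtain ⟨k, hk⟩ : ∃ k, k ∈ τ.support := Finset.card_pos.1 (by rw [hτ.card_support]; norm_num)
    obtain ⟨l, o, hl', ho'⟩ : ∃ l o, l = τ k ∧ o = τ l := ⟨_, _, rfl, rfl⟩
    have hkl : k ≠ l := fun e => Equiv.Perm.mem_support.1 hk (hl' ▸ e.symm)
    have hsupp := hτ.support_eq_iff_mem_support.2 hk
    rw [← hl', ← ho'] at hsupp
    have hc3 := hτ.card_support
    rw [hsupp] at hc3
    have hko : k ≠ o := fun e => by
      rw [← e] at hc3
      rw [Finset.insert_eq_of_mem (Finset.mem_insert_of_mem (Finset.mem_singleton_self k))] at hc3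
      have := Finset.card_le_two (a := l) (b := k)
      omega
    have hlo : l ≠ o := fun e => by
      rw [← e] at hc3
      simp at hc3
      have := Finset.card_le_two (a := k) (b := l)
      omega
    obtain ⟨i, j, hij, hc⟩ := Finset.card_eq_two.1 (show (({k, l, o} : Finset (Fin 5))ᶜ).card = 2 by
      rw [Finset.card_compl, hc3]; rfl)
    have hi : i ∈ ({k, l, o} : Finset (Fin 5))ᶜ := by rw [hc]; simp
    have hj : j ∈ ({k, l, o} : Finset (Fin 5))ᶜ := by rw [hc]; simp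
    simp only [Finset.mem_compl, Finset.mem_insert, Finset.mem_singleton, not_or] at hi hj
    obtain ⟨h, hhz, hhx⟩ : ∃ h : HPair S.toQd, h.z = v i ∧ h.x = v j :=
      ⟨⟨v i, v j, hqv i, hqv j, hBv i j hij⟩, rfl, rfl⟩
    have hmemW : ∀ m, i ≠ m → j ≠ m → v i + v j + v m ∈ h.W := fun m h1 h2 => h.mem_W.2 ⟨by
      rw [hhz, map_add, map_add, S.toQd.self_perp, hBv i j hij, hBv i m h1]; rfl, by
      rw [hhx, map_add, map_add, S.toQd.self_perp, hBv j i hij.symm, hBv j m h2]; rfl⟩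
    have hq : ∀ m, i ≠ m → j ≠ m → S.q (v i + v j + v m) = 1 := fun m h1 h2 => by
      rw [S.polar, S.polar, hqv, hqv, hqv, hBv i j hij, map_add, LinearMap.add_apply, hBv i m h1, hBv j m h2]; rfl
    have hB : S.B (v i + v j + v k) (v i + v j + v l) = 1 := by
      simp only [map_add, LinearMap.add_apply, S.toQd.self_perp, hBv i j hij, hBv j i hij.symm, hBv i l hi.2.1,
        hBv j l hj.2.1, hBv k i (Ne.symm hi.1), hBv k j (Ne.symm hj.1), hBv k l hkl]
      rfl
    obtain ⟨g, hg, hgz, hgx, hgt, hgs⟩ := S.exists_cycle hl h ⟨_, hmemW k hi.1 hj.1⟩ ⟨_, hmemW l hi.2.1 hj.2.1⟩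
      (hq k hi.1 hj.1) (hq l hi.2.1 hj.2.1) hB
    rw [hhz] at hgz
    rw [hhx] at hgx
    have huniv : (Finset.univ : Finset (Fin 5)) = {i, j, k, l, o} := by
      refine (Finset.eq_univ_of_forall fun m => ?_).symm
      by_cases hm : m ∈ ({k, l, o} : Finset (Fin 5))
      · simp only [Finset.mem_insert, Finset.mem_singleton] at hm ⊢; tauto
      · have hm' : m ∈ ({k, l, o} : Finset (Fin 5))ᶜ := Finset.mem_compl.2 hm
        rw [hc] at hm'
        simp only [Finset.mem_insert, Finset.mem_singleton] at hm' ⊢; tauto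
    have hvo : v i + v j + v k + v l = v o := by
      refine vadd_eq_zero ?_
      have := hsum
      rw [huniv, Finset.sum_insert (by simp [hij, hi.1, hi.2.1, hi.2.2]),
        Finset.sum_insert (by simp [hj.1, hj.2.1, hj.2.2]), Finset.sum_insert (by simp [hkl, hko]),
        Finset.sum_insert (by simp [hlo]), Finset.sum_singleton] at this
      rw [← this]; abel
    have hgk : S.gsys.phi g (v k) = v l := by
      have := hgs
      rw [S.gsys.phi_add hg, S.gsys.phi_add hg, hgz, hgx] at this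
      exact add_left_cancel this
    have hgl : S.gsys.phi g (v l) = v o := by
      have := hgt
      rw [S.gsys.phi_add hg, S.gsys.phi_add hg, hgz, hgx] at this
      rw [← hvo]
      refine add_left_cancel (a := v i + v j) ?_
      rw [this]
      show v i + v j + v k + (v i + v j + v l) = v i + v j + (v i + v j + v k + v l)
      rw [add_assoc (v i) (v j) (v k), add_assoc (v i) (v j) (v l), add_add_add_comm (v i), vadd_self,
        zero_add, add_add_add_comm (v j), vadd_self, zero_add, ← add_assoc (v i) (v j) (v k), add_assoc (v i + v j) (v k) (v l), ← add_assoc (v i + v j),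
        vadd_self, zero_add]
    have hgo : S.gsys.phi g (v o) = v k := by
      rw [← hvo, S.gsys.phi_add hg, S.gsys.phi_add hg, S.gsys.phi_add hg, hgz, hgx, hgk, hgl, ← hvo]
      abel_nf
      simp [two_smul, vadd_self, nsmul_three, nsmul_four, zsmul_three, zsmul_four]
    refine ⟨⟨g, hg⟩, Equiv.ext fun m => hvi ?_⟩
    rw [hπ, hσ]
    have hτk : τ o = k := by
      have h3 := hτ.orderOf
      have : (τ ^ 3) k = k := by rw [← h3, pow_orderOf_eq_one, Equiv.Perm.one_apply]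
      rw [pow_succ, pow_succ, pow_one] at this
      simpa [← hl', ← ho'] using this
    have hm : m ∈ ({i, j, k, l, o} : Finset (Fin 5)) := huniv ▸ Finset.mem_univ m
    simp only [Finset.mem_insert, Finset.mem_singleton] at hm
    have hfix : ∀ n, n ≠ k → n ≠ l → n ≠ o → τ n = n := fun n h1 h2 h3 =>
      Equiv.Perm.notMem_support.1 (by rw [hsupp]; simp [h1, h2, h3])
    rcases hm with e | e | e | e | e <;> subst m
    · show S.gsys.phi g (v i) = _
      rw [hgz, hfix i hi.1 hi.2.1 hi.2.2]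
    · show S.gsys.phi g (v j) = _
      rw [hgx, hfix j hj.1 hj.2.1 hj.2.2]
    · show S.gsys.phi g (v k) = _
      rw [hgk, hl']
    · show S.gsys.phi g (v l) = _
      rw [hgl, ho']
    · show S.gsys.phi g (v o) = _
      rw [hgo, hτk]
  obtain ⟨K, hK⟩ : ∃ K, K = (L.subgroupOf S.gsys.N).map π := ⟨_, rfl⟩
  have hKne : K ≠ ⊥ := fun e => hLR fun l hl' => S.gsys.mem_R_of_phi (hLN hl') fun y => by
    have h1 : π ⟨l, hLN hl'⟩ = 1 := by
      have : π ⟨l, hLN hl'⟩ ∈ K := hK ▸ Subgroup.mem_map_of_mem π hl'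
      rwa [e, Subgroup.mem_bot] at this
    refine LinearMap.congr_fun (LinearMap.ext_on (f := S.gsys.phiL (hLN hl')) (g := LinearMap.id) hspan ?_) y
    rintro _ ⟨i, rfl⟩
    have := congrArg (fun p : Equiv.Perm (Fin 5) => v (p i)) h1
    rw [hπ, hσ] at this
    exact this
  have hKinv : ∀ τ : Equiv.Perm (Fin 5), τ.IsThreeCycle → ∀ s ∈ K, τ * s * τ⁻¹ ∈ K := fun τ hτ s hs => by
    obtain ⟨g, rfl⟩ := hcyc τ hτ
    obtain ⟨l, hl', rfl⟩ := hK ▸ hs
    rw [← map_inv, ← map_mul, ← map_mul, hK]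
    exact Subgroup.mem_map_of_mem π (show ((g * l * g⁻¹ : S.gsys.N) : S.Iso) ∈ L from hinv _ g.2 _ hl')
  have hA := three_mem_five K hKne hKinv
  have h3 : (Equiv.swap (2 : Fin 5) 3 * Equiv.swap 2 4).IsThreeCycle :=
    Equiv.Perm.isThreeCycle_swap_mul_swap_same (by decide) (by decide) (by decide)
  obtain ⟨l, hl', hle⟩ := hK ▸ hA h3.mem_alternatingGroup
  have hval : ∀ m, S.gsys.phi (l : S.Iso) (v m) = v ((Equiv.swap (2 : Fin 5) 3 * Equiv.swap 2 4 : Equiv.Perm (Fin 5)) m) := fun m => by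
    rw [← hle, hπ, hσ]
  refine ⟨⟨v 0, v 1, hqv 0, hqv 1, hBv 0 1 (by decide)⟩, (l : S.Iso), hl', v 2, ?_, ?_, ?_⟩
  · rw [hval]; rfl
  · rw [hval]; rfl
  · rw [hval]
    intro e
    exact absurd (hvi e) (by decide)

/-- Minus type in dimension six. -/
theorem symp_six (P : S.SRep 4) (hd : finrank (ZMod 2) V = 6) (hmin : S.toQd.NoHalf 3)
    (hp : (Fintype.card F).Prime) {H : Subgroup S.Iso} (hNO : S.NO ≤ H) (hH : ¬ H ≤ S.gsys.N) : H = ⊤ := by
  classical
  have hNH : S.gsys.N ≤ H := fun x hx => hNO ⟨hx, by rw [P.perfect (by norm_num)]; trivial⟩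
  have hRH : S.gsys.R ≤ H := S.gsys.R_le_N.trans hNH
  have hl : S.gsys.Lifts H := fun v w hq hvw => by
    obtain ⟨γ, hγ, h1⟩ := S.lifts_NO (by omega) v w hq hvw
    exact ⟨γ, hNO hγ, h1⟩
  obtain ⟨g, hgH, hgN, v, hv, hqv, hgv⟩ : ∃ g ∈ H, g ∉ S.gsys.N ∧ ∃ v, v ≠ 0 ∧ S.q v = 0 ∧
      Peq S.epsI (g * S.rI v * g⁻¹) (S.rI v) := by
    by_contra hcon
    push Not at hcon
    exact hH (GSys.Fus.le_N (S := S.gsys) (m := 3) ⟨hd, le_rfl, hRH, hl, fun x hx v hv hq hc =>
      by_contra fun hxN => hcon x hx hxN v hv hq hc⟩)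
  obtain ⟨h, hhz⟩ := S.exists_hpair (by omega) hv hqv
  subst hhz
  have hW := h.finrank_W
  obtain ⟨g₂, hg₂H, hg₂N, hg₂z⟩ : ∃ g₂ ∈ H, g₂ ∉ S.gsys.N ∧ g₂ * S.rI h.z = S.rI h.z * g₂ := by
    rcases hgv with e | e
    · exact ⟨g, hgH, hgN, mul_inv_eq_iff_eq_mul.1 e⟩
    · refine ⟨S.rI h.x * g, mul_mem (hRH (S.gsys.r_mem h.x)) hgH, fun hc => hgN (by
        have := S.gsys.N.mul_mem (S.gsys.N.inv_mem (S.gsys.r_mem_N h.x)) hc
        simpa [gsys_r] using this), ?_⟩
      have hxz : S.rI h.x * S.rI h.z = S.epsI * (S.rI h.z * S.rI h.x) := by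
        have := S.gsys.comm h.x h.z
        rwa [show S.gsys.B h.x h.z = 1 from h.bxz, S.gsys.hε.pw_one] at this
      rw [mul_assoc, mul_inv_eq_iff_eq_mul.1 e, ← mul_assoc, ← mul_assoc, ← S.cinv_epsI.central (S.rI h.x),
        mul_assoc S.epsI, hxz, ← mul_assoc, S.cinv_epsI.sq, one_mul, mul_assoc]
  obtain ⟨a, b, hab⟩ := S.exists_Psi h hg₂z
  obtain ⟨P'⟩ := P.exists_sub h (j := 2) (by norm_num) (by
    rw [Module.natCard_eq_pow_finrank (K := ZMod 2) (V := V), Module.natCard_eq_pow_finrank (K := ZMod 2) (V := h.W),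
      Nat.card_zmod, hd, show finrank (ZMod 2) h.W = 4 by omega]
    norm_num)
  have hmin' := h.noHalf (m := 2) hmin
  obtain ⟨L, hL⟩ : ∃ L : Subgroup (S.sub h).Iso, L = H.comap (S.ctl h) := ⟨_, rfl⟩
  have hmemL : ∀ l, l ∈ L ↔ S.ctl h l ∈ H := fun l => by rw [hL]; rfl
  have hRL : (S.sub h).gsys.R ≤ L := by
    rintro l ⟨u, hu⟩
    refine (S.sub h).cinv_epsI.eps_mem ((hmemL _).2 ?_) hu ((hmemL _).2 (hNH (S.ctl_rI_mem_N h u)))
    rw [S.ctl_eps]
    exact hRH (S.gsys.r_mem h.z)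
  have hconj : ∀ {c d : (S.sub h).Iso}, S.Psi h (c, d) ∈ H → ∀ l ∈ L, d * l * d⁻¹ ∈ L := fun {c d} hcd l hl' => by
    refine (hmemL _).2 ?_
    have e : S.ctl h (d * l * d⁻¹) = S.Psi h (c, d) * S.ctl h l * (S.Psi h (c, d))⁻¹ := by
      simp only [ctl_apply, ← map_inv, ← map_mul]
      simp
    rw [e]
    exact mul_mem (mul_mem hcd ((hmemL l).1 hl')) (inv_mem hcd)
  have hinv : ∀ γ ∈ (S.sub h).gsys.N, ∀ l ∈ L, γ * l * γ⁻¹ ∈ L := fun γ hγ l hl' =>
    hconj (c := γ) (d := γ) (by rw [← dia_apply]; exact hNH (S.dia_mem_N h hγ)) l hl'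
  obtain ⟨Nz, hNz⟩ : ∃ Nz, Nz = Subgroup.normalizer (L : Set (S.sub h).Iso) := ⟨_, rfl⟩
  have hNzmem : ∀ x, (∀ l ∈ L, x * l * x⁻¹ ∈ L) → x ∈ Nz := fun x hx => by
    rw [hNz, Subgroup.mem_normalizer_iff]
    intro l
    refine ⟨hx l, fun h2 => ?_⟩
    obtain ⟨l', hl'⟩ := (Finite.injective_iff_surjective (f := fun y : L => (⟨_, hx y y.2⟩ : L))).1
      (fun y y' e => by simpa using congrArg Subtype.val e) ⟨_, h2⟩
    have : (l' : (S.sub h).Iso) = l := by simpa using congrArg Subtype.val hl'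
    exact this ▸ l'.2
  obtain ⟨γ, hγ, hγN, hγz⟩ := S.gsys.exists_move_singular (by omega) hl h.z_ne h.qz h.x_ne h.qx
  by_cases hout : ∃ x ∉ (S.sub h).gsys.N, ∀ l ∈ L, x * l * x⁻¹ ∈ L
  · obtain ⟨x, hxN, hx⟩ := hout
    have hNtop : Nz = ⊤ := (S.sub h).symp_base P' (by omega) hmin' hp (fun y hy => hNzmem y (hinv y hy.1))
      fun hle => hxN (hle (hNzmem x hx))
    haveI : L.Normal := Subgroup.normalizer_eq_top_iff.1 (hNz ▸ hNtop)
    obtain ⟨w, hw⟩ : ∃ w : h.W, w ≠ 0 := by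
      haveI : Nontrivial h.W := Module.nontrivial_of_finrank_pos (R := Z2) (by omega)
      exact exists_ne 0
    have hLtop : L = ⊤ := P'.normal_eq_top le_rfl (x := (S.sub h).rI w) (hRL ((S.sub h).gsys.r_mem w))
      fun hc => hw ((S.sub h).sep w fun u => by
        refine (S.sub h).cinv_epsI.comm_sign_unique ((S.sub h).gsys.comm w u) ?_
        rw [(S.sub h).cinv_epsI.pw_zero, one_mul]
        exact (Subgroup.mem_center_iff.1 hc ((S.sub h).rI u)).symm)
    refine P.eq_top_of_blocks h (fun c d => ?_) hγ hγN hγz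
    have h1 : ∀ e, S.ctl h e ∈ H := fun e => (hmemL e).1 (hLtop ▸ Subgroup.mem_top e)
    have e : S.Psi h (c, d) = (S.rI h.x * S.ctl h c * (S.rI h.x)⁻¹) * S.ctl h d := by
      rw [ctl_apply, ctl_apply, S.swap_Psi, ← map_mul]
      simp
    rw [e]
    exact mul_mem (mul_mem (mul_mem (hRH (S.gsys.r_mem h.x)) (h1 c)) (inv_mem (hRH (S.gsys.r_mem h.x)))) (h1 d)
  push Not at hout
  have hnorm : ∀ x, (∀ l ∈ L, x * l * x⁻¹ ∈ L) → x ∈ (S.sub h).gsys.N := fun x hx => by
    by_contra hxN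
    obtain ⟨l, hl', hne⟩ := hout x hxN
    exact hne (hx l hl')
  have hLN : L ≤ (S.sub h).gsys.N := fun x hx => hnorm x fun l hl' => mul_mem (mul_mem hx hl') (inv_mem hx)
  have hswap : S.Psi h (b, a) ∈ H := by
    rw [← S.swap_Psi h a b, ← hab]
    exact mul_mem (mul_mem (hRH (S.gsys.r_mem h.x)) hg₂H) (inv_mem (hRH (S.gsys.r_mem h.x)))
  have haN : a ∈ (S.sub h).gsys.N := hnorm a (hconj hswap)
  have hLR : ¬ L ≤ (S.sub h).gsys.R := fun hle => hg₂N (by
    have e : g₂ = S.dia h a * S.ctl h (a⁻¹ * b) := by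
      simp only [hab, ctl_apply, dia_apply, ← map_mul]
      simp
    have hmem : a⁻¹ * b ∈ L := (hmemL _).2 (by
      rw [show S.ctl h (a⁻¹ * b) = (S.dia h a)⁻¹ * g₂ by rw [e, inv_mul_cancel_left]]
      exact mul_mem (inv_mem (hNH (S.dia_mem_N h haN))) hg₂H)
    obtain ⟨u, hu⟩ := hle hmem
    rw [e]
    refine mul_mem (S.dia_mem_N h haN) ?_
    rcases hu with e' | e' <;> rw [e']
    · exact S.ctl_rI_mem_N h u
    · rw [map_mul, show (S.sub h).gsys.ε = (S.sub h).epsI from rfl, S.ctl_eps]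
      exact mul_mem (S.gsys.r_mem_N h.z) (S.ctl_rI_mem_N h u))
  have hlN : (S.sub h).gsys.Lifts (S.sub h).gsys.N :=
    (S.sub h).lifts_of_ctl (by omega) fun h' w => (S.sub h).ctl_rI_mem_N h' w
  obtain ⟨h3', g, hg, y, hgz, hgx, hgs⟩ := (S.sub h).exists_pair_fixer hlN (by omega) hmin' hLN hinv hLR
  have hgN := hLN hg
  obtain ⟨h3, hh3z, hh3x⟩ : ∃ h3 : HPair S.toQd, h3.z = (h3'.z : V) ∧ h3.x = (h3'.x : V) :=
    ⟨⟨(h3'.z : V), (h3'.x : V), h3'.qz, h3'.qx, h3'.bzx⟩, rfl, rfl⟩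
  -- make it commute exactly with the pair
  obtain ⟨g', hg', hg'z, hg'x, hg'R⟩ : ∃ g' ∈ L, g' * (S.sub h).rI h3'.z = (S.sub h).rI h3'.z * g' ∧
      g' * (S.sub h).rI h3'.x = (S.sub h).rI h3'.x * g' ∧ g' ∉ (S.sub h).gsys.R := by
    have hc := (S.sub h).cinv_epsI
    have c1 := hgz ▸ (S.sub h).gsys.phi_spec hgN h3'.z
    have c2 := hgx ▸ (S.sub h).gsys.phi_spec hgN h3'.x
    obtain ⟨a, ha⟩ := hc.comm_sign_of_conj c1
    obtain ⟨b, hb⟩ := hc.comm_sign_of_conj c2
    obtain ⟨u, hu⟩ : ∃ u : h.W, u = a • h3'.x + b • h3'.z := ⟨_, rfl⟩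
    have h1 := (S.sub h).gsys.comm u h3'.z
    have h2 := (S.sub h).gsys.comm u h3'.x
    have e1 : (S.sub h).gsys.B u h3'.z = a := by
      show (S.sub h).B u h3'.z = a
      rw [hu, map_add, map_smul, map_smul, LinearMap.add_apply, LinearMap.smul_apply, LinearMap.smul_apply,
        h3'.bxz, (S.sub h).toQd.self_perp, smul_zero, add_zero, smul_eq_mul, mul_one]
    have e2 : (S.sub h).gsys.B u h3'.x = b := by
      show (S.sub h).B u h3'.x = b
      rw [hu, map_add, map_smul, map_smul, LinearMap.add_apply, LinearMap.smul_apply, LinearMap.smul_apply,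
        h3'.bzx, (S.sub h).toQd.self_perp, smul_zero, zero_add, smul_eq_mul, mul_one]
    rw [e1] at h1
    rw [e2] at h2
    refine ⟨(S.sub h).rI u * g, mul_mem (hRL ((S.sub h).gsys.r_mem u)) hg, ?_, ?_, fun hR => ?_⟩
    · have := hc.comm_sign_mul h1 ha
      rwa [z2_add_self, hc.pw_zero, one_mul] at this
    · have := hc.comm_sign_mul h2 hb
      rwa [z2_add_self, hc.pw_zero, one_mul] at this
    · refine hgs ?_
      have h5 := (S.sub h).gsys.phi_of_mem_R ((S.sub h).gsys.R.mul_mem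
        ((S.sub h).gsys.R.inv_mem ((S.sub h).gsys.r_mem u)) hR) y
      rwa [show (S.sub h).gsys.r u = (S.sub h).rI u from rfl, inv_mul_cancel_left] at h5
  obtain ⟨C, hC⟩ : ∃ C, C = S.ctl h g' := ⟨_, rfl⟩
  have hcomm : ∀ u : h.W, g' * (S.sub h).rI u = (S.sub h).rI u * g' →
      C * S.rI (u : V) = S.rI (u : V) * C := fun u hu => by
    rw [← S.dia_rI h u, hC, ctl_apply, dia_apply, ← map_mul, ← map_mul, Prod.mk_mul_mk, Prod.mk_mul_mk, hu]
    simp
  obtain ⟨c, d, hcd⟩ := S.exists_Psi h3 (g := C) (by rw [hh3z]; exact hcomm _ hg'z)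
  have hdc : d = c := by
    have h1 := S.swap_Psi h3 c d
    rw [← hcd, hh3x, ← hcomm _ hg'x, mul_inv_cancel_right, hcd] at h1
    exact (congrArg Prod.fst (S.Psi_injective h3 h1)).symm
  rw [hdc, ← dia_apply] at hcd
  have hcK : c ∈ H.comap (S.dia h3) := by
    rw [Subgroup.mem_comap, ← hcd, hC]
    exact (hmemL g').1 hg'
  have hcN : c ∉ (S.sub h3).gsys.N := fun hN => hg'R (Sys.Psi_fst_mem_R h (b := g'⁻¹) (by
    obtain ⟨y, hy⟩ := S.dia_mem_N h3 hN h.x
    rw [← hcd, hC] at hy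
    have e1 : S.ctl h g' * S.rI h.x * (S.ctl h g')⁻¹ = S.rI h.x * S.Psi h (g', g'⁻¹) := by
      rw [mul_inv_eq_iff_eq_mul, mul_assoc, ctl_apply, ← map_mul, Prod.mk_mul_mk, mul_one, inv_mul_cancel,
        ← mul_inv_eq_iff_eq_mul.1 (S.swap_Psi h g' 1)]
    rw [gsys_r, e1] at hy
    have h1 := S.gsys.R.mul_mem (S.gsys.R.inv_mem (S.gsys.r_mem h.x)) ⟨y, hy⟩
    rwa [gsys_r, inv_mul_cancel_left] at h1))
  have hW3 := h3.finrank_W
  obtain ⟨P3⟩ := P.exists_sub h3 (j := 2) (by norm_num) (by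
    rw [Module.natCard_eq_pow_finrank (K := ZMod 2) (V := V), Module.natCard_eq_pow_finrank (K := ZMod 2) (V := h3.W),
      Nat.card_zmod, hd, show finrank (ZMod 2) h3.W = 4 by omega]
    norm_num)
  have hK : H.comap (S.dia h3) = ⊤ := (S.sub h3).symp_base P3 (by omega) (h3.noHalf (m := 2) hmin) hp
    (fun x hx => hNH (S.dia_mem_N h3 hx.1)) fun hle => hcN (hle hcK)
  exact Sys.top_of_dia P (by omega) h3 P3 le_rfl hNO hK

/-- With a symplectic representation not every isometry normalises. -/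
theorem exists_not_mem_N_of_rep {i : ℕ} (P : S.SRep i) (hi : 2 ≤ i) (hd : 0 < finrank (ZMod 2) V) :
    ∃ g, g ∉ S.gsys.N := by
  by_contra hN
  push Not at hN
  have hc := S.cinv_epsI
  haveI : S.gsys.R.Normal := ⟨by
    rintro x ⟨v, hv⟩ g
    obtain ⟨w, hw⟩ := hN g v
    exact ⟨w, hc.trans (hc.conj g hv) hw⟩⟩
  haveI : Nontrivial V := Module.nontrivial_of_finrank_pos (R := Z2) hd
  obtain ⟨w, hw⟩ := exists_ne (0 : V)
  have hnc : S.rI w ∉ Subgroup.center S.Iso := fun h => hw (S.sep w fun u => by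
    refine hc.comm_sign_unique (S.gsys.comm w u) ?_
    rw [hc.pw_zero, one_mul]
    exact (Subgroup.mem_center_iff.1 h (S.rI u)).symm)
  have htop : S.gsys.R = ⊤ := P.normal_eq_top hi (S.gsys.r_mem w) hnc
  have hle : _root_.commutator S.Iso ≤ Subgroup.center S.Iso := by
    rw [commutator_def, Subgroup.commutator_le]
    intro a _ b _
    obtain ⟨v, hv⟩ : a ∈ S.gsys.R := htop ▸ Subgroup.mem_top a
    obtain ⟨u, hu⟩ : b ∈ S.gsys.R := htop ▸ Subgroup.mem_top b
    have h1 : Peq S.epsI (a * b * a⁻¹) b :=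
      hc.trans (hc.mul (hc.mul hv hu) (hc.inv hv)) (hc.trans (S.gsys.conj_r v u) (hc.symm hu))
    rw [commutatorElement_def, Subgroup.mem_center_iff]
    intro g
    rcases h1 with e | e <;> rw [e]
    · simp
    · rw [mul_assoc S.epsI, mul_inv_cancel, mul_one]
      exact (hc.central g).symm
  exact hnc (hle (by rw [P.perfect hi]; trivial))

end Sys

end Cfsg.Agent.Classical.CliffordTwo
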