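import Cfsg.Agent.Lib.Classical.CliffordTwo.Fusion

/-!
The end of the fusion argument: products of two conjugate involutions.
-/

set_option autoImplicit false
set_option linter.unusedSectionVars false

namespace Cfsg.Agent.Classical.CliffordTwo

open Module

local notation "Z2" => ZMod 2

namespace GSys

variable {G : Type*} [Group G] [Finite G] {V : Type*} [AddCommGroup V] [Module (ZMod 2) V] [Finite V] {S : GSys G V}

theorem sq_eq_of_peq {x y : G} (h : Peq S.ε x y) : x * x = y * y := by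
  obtain ⟨s, rfl⟩ := S.hε.exists_pw h
  rw [mul_assoc, ← mul_assoc y, ← S.hε.pw_comm, mul_assoc (pw S.ε s) y, ← mul_assoc, ← S.hε.pw_add, z2_add_self,
    S.hε.pw_zero, one_mul]

namespace Fus

variable {H : Subgroup G} {m : ℕ} (P : S.Fus H m)
include P

theorem conj_mem {h : G} (hh : h ∈ H) (v : V) : h * S.r v * h⁻¹ ∈ H :=
  mul_mem (mul_mem hh (P.r_mem v)) (inv_mem hh)

/-- A conjugate of a singular element that normalises is labelled. -/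
theorem conj_eq_r {g : G} (hg : g ∈ H) {u : V} (hu : u ≠ 0) (hq : S.q u = 0) (hn : u ∈ S.nb g) :
    ∃ u', u' ≠ 0 ∧ S.q u' = 0 ∧ Peq S.ε (g * S.r u * g⁻¹) (S.r u') :=
  have hgN := P.mem_N_of_nb hg hu hq hn
  ⟨S.phi g u, S.phi_ne_zero hgN hu, (S.q_phi hgN u).trans hq, S.phi_spec hgN u⟩

theorem mem_nb_of_comm {h : G} (hh : h ∈ H) {v : V} (hv : v ≠ 0) (hq : S.q v = 0) {x : V}
    (hc : Peq S.ε (S.r x * (h * S.r v * h⁻¹) * (S.r x)⁻¹) (h * S.r v * h⁻¹)) : x ∈ S.nb h⁻¹ := by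
  rw [S.mem_nb, inv_inv]
  exact P.cent_at hh (P.r_mem x) hv hq hc

/-- The three outcomes for a pair of singular involutions with respect to a common nonsingular element. -/
theorem pair {h : G} (hh : h ∈ H) (hN : h ∉ S.N) {a a₀ : V} (ha : a ≠ 0) (hqa : S.q a = 1)
    (haa : Peq S.ε (h * S.r a * h⁻¹) (S.r a₀)) {u w : V} (hu : u ≠ 0) (hqu : S.q u = 0) (hw : w ≠ 0)
    (hqw : S.q w = 0) :
    (∀ y : G, ∀ σ σ' : ZMod 2, S.r u * y = pw S.ε σ * (y * S.r u) →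
      h * S.r w * h⁻¹ * y = pw S.ε σ' * (y * (h * S.r w * h⁻¹)) → σ = σ') ∨
    S.B u a₀ = 1 ∨
    (S.B u a₀ + S.B w a = 1 ∧ ∃ ζ, S.q ζ = 1 ∧ S.B ζ a = 1 ∧
      Peq S.ε (S.r u * (h * S.r ζ * h⁻¹) * (S.r u)⁻¹) (h * S.r ζ * h⁻¹)) := by
  obtain ⟨W, hW⟩ : ∃ W, W = h * S.r w * h⁻¹ := ⟨_, rfl⟩
  obtain ⟨U, hU⟩ : ∃ U, U = S.r u := ⟨_, rfl⟩
  rw [← hW, ← hU]
  have hUW : U * W ∈ H := mul_mem (hU ▸ P.r_mem u) (hW ▸ P.conj_mem hh w)
  have hU2 : Peq S.ε (U * U) 1 := hU ▸ S.inv_mul_r u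
  have hW2 : Peq S.ε (W * W) 1 := by rw [hW, S.conj_sq]; exact S.hε.pw_peq _
  have hsW : W * S.r a₀ = pw S.ε (S.B w a) * (S.r a₀ * W) :=
    S.hε.comm_sign_peq (S.hε.refl _) haa (hW ▸ S.hε.comm_sign_conj (S.comm w a))
  have hsU : U * S.r a₀ = pw S.ε (S.B u a₀) * (S.r a₀ * U) := hU ▸ S.comm u a₀
  have hsc := S.hε.comm_sign_mul hsU hsW
  rcases S.hε.dihedral hU2 hW2 with ⟨l, hl⟩ | ⟨k, hz1, hzU, hzW, hcase⟩
  · refine Or.inl fun y σ σ' hy hy' => ?_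
    obtain ⟨g, hg⟩ : ∃ g, g = ((U * W) ^ l)⁻¹ := ⟨_, rfl⟩
    rw [← hg, show (U * W) ^ l = g⁻¹ by rw [hg, inv_inv]] at hl
    have hc := S.hε.conj_of_comm_sign (S.hε.comm_sign_pow (S.hε.comm_sign_mul hy hy') l)
    have hgy : Peq S.ε (g * y * g⁻¹) y := by
      have := S.hε.conj g (S.hε.symm hc)
      rw [hg] at this ⊢
      simpa [mul_assoc] using this
    exact S.hε.comm_sign_unique (S.hε.comm_sign_peq (S.hε.symm hl) hgy (S.hε.comm_sign_conj hy)) hy'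
  refine Or.inr ?_
  obtain ⟨z, hz⟩ : ∃ z, z = (U * W) ^ k := ⟨_, rfl⟩
  rw [← hz] at hz1 hzU hzW hcase
  have hzH : z ∈ H := hz ▸ pow_mem hUW k
  have hzN : z ∈ S.N := P.cent z hzH u hu hqu (hU ▸ S.hε.conj_symm hzU)
  have hzN' : h⁻¹ * z * h ∈ S.N := P.cent_at hh hzH hw hqw (hW ▸ S.hε.conj_symm hzW)
  have hsz : z * S.r a₀ = pw S.ε ((k : ZMod 2) * (S.B u a₀ + S.B w a)) * (S.r a₀ * z) :=
    hz ▸ S.hε.comm_sign_pow hsc k
  have hab : ∀ {x y : V}, S.q x = 1 → S.q y = 1 → S.B x y = 0 → S.q (x + y) = 0 := fun {x y} h1 h2 h3 => by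
    rw [S.polar, h1, h2, h3]; rfl
  rcases hcase with ⟨hk, l, hl⟩ | ⟨hk, l, hl⟩
  · left
    obtain ⟨g, hg⟩ : ∃ g, g = ((U * W) ^ l)⁻¹ := ⟨_, rfl⟩
    rw [← hg, show (U * W) ^ l = g⁻¹ by rw [hg, inv_inv]] at hl
    have hgn : u ∈ S.nb g := by
      rw [S.mem_nb, ← hU]
      exact S.hε.eps_mem S.eps_mem_N (S.hε.symm hl) (mul_mem (hU ▸ S.r_mem_N u) hzN)
    obtain ⟨u', hu', hqu', hu'g⟩ := P.conj_eq_r (hg ▸ inv_mem (pow_mem hUW l)) hu hqu hgn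
    rw [← hU] at hu'g
    obtain ⟨ζ, hζ⟩ : ∃ ζ, ζ = u + u' := ⟨_, rfl⟩
    have hzζ : Peq S.ε z (S.r ζ) := by
      have h1 := S.hε.mul_left U⁻¹ (S.hε.trans hl hu'g)
      rw [inv_mul_cancel_left] at h1
      refine S.hε.trans h1 ?_
      rw [hU, hζ]
      exact S.hε.trans (S.hε.mul_right _ (S.r_inv u)) (S.mul u u')
    have hζ0 : ζ ≠ 0 := fun e => hz1 (S.hε.trans hzζ (e ▸ S.r_zero))
    -- W cannot commute with a singular element
    have hno : ∀ y, y ≠ 0 → S.q y = 0 → Peq S.ε (W * S.r y * W⁻¹) (S.r y) → False := fun y hy hqy hc =>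
      hN (P.mem_N_of_nb hh hw hqw (S.mem_nb.2 (hW ▸ P.cent W (hW ▸ P.conj_mem hh w) y hy hqy hc)))
    have hWζ : Peq S.ε (W * S.r ζ * W⁻¹) (S.r ζ) :=
      S.hε.trans (S.hε.conj W (S.hε.symm hzζ)) (S.hε.trans hzW hzζ)
    have hqζ : S.q ζ = 1 := z2_eq_one fun e => hno ζ hζ0 e hWζ
    have hk0 : (k : ZMod 2) = 0 := ZMod.natCast_eq_zero_iff_even.2 hk
    have hBζ : S.B ζ a₀ = 0 := S.hε.comm_sign_unique (S.comm ζ a₀)
      (S.hε.comm_sign_peq hzζ (S.hε.refl _) (by rw [hsz, hk0, zero_mul]))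
    have hqa₀ : S.q a₀ = 1 := (S.q_of_peq haa).symm.trans hqa
    by_cases hζa : ζ = a₀
    · have hqu2 : S.q (u + a₀) = 0 := by
        rw [← hζa, hζ, ← add_assoc, vadd_self, zero_add]; exact hqu'
      rw [S.polar, hqu, hqa₀, zero_add] at hqu2
      exact (z2_add_eq_zero.1 hqu2).symm
    · refine (hno (ζ + a₀) (fun e => hζa (vadd_eq_zero e)) (hab hqζ hqa₀ hBζ) ?_).elim
      refine S.hε.trans (S.hε.conj W (S.hε.symm (S.mul ζ a₀))) (S.hε.trans ?_ (S.mul ζ a₀))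
      have := S.hε.mul hWζ (S.hε.conj_of_comm_sign hsW)
      simpa [mul_assoc] using this
  · obtain ⟨g, hg⟩ : ∃ g, g = ((U * W) ^ l)⁻¹ := ⟨_, rfl⟩
    rw [← hg, show (U * W) ^ l = g⁻¹ by rw [hg, inv_inv]] at hl
    have hl' : Peq S.ε (S.r w * (h⁻¹ * z * h)) ((h⁻¹ * g) * S.r u * (h⁻¹ * g)⁻¹) := by
      have := S.hε.conj h⁻¹ hl
      rw [hW, hU] at this
      simpa [mul_assoc] using this
    have hgn : u ∈ S.nb (h⁻¹ * g) := by
      rw [S.mem_nb]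
      exact S.hε.eps_mem S.eps_mem_N (S.hε.symm hl') (mul_mem (S.r_mem_N w) hzN')
    obtain ⟨u', hu', hqu', hu'g⟩ := P.conj_eq_r (mul_mem (inv_mem hh) (hg ▸ inv_mem (pow_mem hUW l))) hu hqu hgn
    obtain ⟨ζ, hζ⟩ : ∃ ζ, ζ = w + u' := ⟨_, rfl⟩
    have hzζ : Peq S.ε z (h * S.r ζ * h⁻¹) := by
      have h1 := S.hε.mul_left (S.r w)⁻¹ (S.hε.trans hl' hu'g)
      rw [inv_mul_cancel_left] at h1
      have h2 := S.hε.conj h (S.hε.trans h1 (hζ ▸ S.hε.trans (S.hε.mul_right _ (S.r_inv w)) (S.mul w u')))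
      simpa [mul_assoc] using h2
    have hUζ : Peq S.ε (U * (h * S.r ζ * h⁻¹) * U⁻¹) (h * S.r ζ * h⁻¹) :=
      S.hε.trans (S.hε.conj U (S.hε.symm hzζ)) (S.hε.trans hzU hzζ)
    have hno : ∀ y, y ≠ 0 → S.q y = 0 → Peq S.ε (U * (h * S.r y * h⁻¹) * U⁻¹) (h * S.r y * h⁻¹) → False :=
      fun y hy hqy hc => hN (by
        simpa using inv_mem (P.mem_N_of_nb (inv_mem hh) hu hqu (P.mem_nb_of_comm hh hy hqy (hU ▸ hc))))
    have hζ0 : ζ ≠ 0 := fun e => hz1 (by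
      refine S.hε.trans hzζ ?_
      rw [e]; simpa using S.hε.conj h S.r_zero)
    have hqζ : S.q ζ = 1 := z2_eq_one fun e => hno ζ hζ0 e hUζ
    have hk1 : (k : ZMod 2) = 1 := ZMod.natCast_eq_one_iff_odd.2 hk
    have hBζ : S.B ζ a = S.B u a₀ + S.B w a := S.hε.comm_sign_unique (S.hε.comm_sign_conj (g := h) (S.comm ζ a))
      (S.hε.comm_sign_peq hzζ (S.hε.symm haa) (by rw [hsz, hk1, one_mul]))
    rcases z2_cases (S.B ζ a) with h0 | h1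
    · left
      by_cases hζa : ζ = a
      · have hqw2 : S.q (w + a) = 0 := by
          rw [← hζa, hζ, ← add_assoc, vadd_self, zero_add]; exact hqu'
        rw [S.polar, hqw, hqa, zero_add] at hqw2
        rw [hζa, S.toQd.self_perp, ← z2_add_eq_zero.1 hqw2] at hBζ
        exact z2_add_eq_zero.1 hBζ.symm
      · refine (hno (ζ + a) (fun e => hζa (vadd_eq_zero e)) (hab hqζ hqa h0) ?_).elim
        have hm : Peq S.ε (h * S.r ζ * h⁻¹ * (h * S.r a * h⁻¹)) (h * S.r (ζ + a) * h⁻¹) := by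
          rw [show h * S.r ζ * h⁻¹ * (h * S.r a * h⁻¹) = h * (S.r ζ * S.r a) * h⁻¹ by simp [mul_assoc]]
          exact S.hε.conj h (S.mul ζ a)
        refine S.hε.trans (S.hε.conj U (S.hε.symm hm)) (S.hε.trans ?_ hm)
        have hUa : Peq S.ε (U * (h * S.r a * h⁻¹) * U⁻¹) (h * S.r a * h⁻¹) :=
          S.hε.trans (S.hε.conj U haa) (S.hε.trans (S.hε.conj_of_comm_sign hsU) (S.hε.symm haa))
        have := S.hε.mul hUζ hUa
        simpa [mul_assoc] using this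
    · exact Or.inr ⟨hBζ ▸ h1, ζ, hqζ, h1, hUζ⟩

/-- Outside the normaliser no conjugate of a labelled element is labelled. -/
theorem jb_eq_bot {h : G} (hh : h ∈ H) (hN : h ∉ S.N) : S.jb h = ⊥ := by
  by_contra hJ
  obtain ⟨a, ha, ha0⟩ := Submodule.exists_mem_ne_zero_of_ne_bot hJ
  have hqa : S.q a = 1 := z2_eq_one fun e => hN (P.mem_N_of_jb hh ha0 e ha)
  obtain ⟨a₀, haa⟩ := ha
  have hd := P.dim
  have hm := P.three
  obtain ⟨u, hu, hu0, hqu⟩ := S.toQd.exists_singular (W := S.toQd.perp (Submodule.span Z2 {a₀})) (by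
    rw [S.toQd.finrank_perp]; have := Qd.finrank_span_one_le a₀; omega)
  rw [S.toQd.mem_perp_one, S.toQd.symm] at hu
  obtain ⟨w, hqw, hwa⟩ := S.toQd.exists_singular_pair (by omega) ha0
  have hw0 : w ≠ 0 := fun e => by rw [e, map_zero] at hwa; exact zero_ne_one hwa
  rw [S.toQd.symm] at hwa
  have hsW : h * S.r w * h⁻¹ * S.r a₀ = pw S.ε (S.B w a) * (S.r a₀ * (h * S.r w * h⁻¹)) :=
    S.hε.comm_sign_peq (S.hε.refl _) haa (S.hε.comm_sign_conj (S.comm w a))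
  rcases P.pair hh hN ha0 hqa haa hu0 hqu hw0 hqw with h1 | h1 | ⟨-, ζ, hqζ, hζa, hUζ⟩
  · have := h1 (S.r a₀) _ _ (S.comm u a₀) hsW
    rw [hu, hwa] at this; exact zero_ne_one this
  · rw [hu] at h1; exact zero_ne_one h1
  obtain ⟨σ, hσ⟩ := S.hε.comm_sign_of_conj hUζ
  obtain ⟨Pl, hPl⟩ : ∃ Pl, Pl = Submodule.span Z2 ({a, ζ} : Set V) := ⟨_, rfl⟩
  have hPd := Qd.finrank_span_pair_le a ζ
  obtain ⟨y, hy, hyP, hqy⟩ := S.toQd.exists_singular_outside (W := S.toQd.perp Pl) (E := ⊥) (by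
    rw [S.toQd.finrank_perp, finrank_bot, hPl]; omega)
  rw [hPl, S.toQd.mem_perp_two] at hy
  have hy0 : y ≠ 0 := fun e => hyP (e ▸ zero_mem _)
  obtain ⟨w', hw'0, hqw', hw'a, hw'ζ⟩ : ∃ w', w' ≠ 0 ∧ S.q w' = 0 ∧ S.B w' a = 0 ∧ S.B w' ζ = σ + 1 := by
    rcases z2_cases σ with e | e
    · obtain ⟨y', hy', hyy⟩ := S.toQd.exists_perp_one (S := Pl) (v := y) fun hmem => by
        obtain ⟨c, d, hcd⟩ := Submodule.mem_span_pair.1 (hPl ▸ hmem)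
        have e1 := hy.1
        have e2 := hy.2
        rw [← hcd, map_add, map_smul, map_smul, S.toQd.self_perp, S.toQd.symm a ζ, hζa, smul_zero, zero_add,
          smul_eq_mul, mul_one] at e1
        rw [← hcd, map_add, map_smul, map_smul, S.toQd.self_perp, hζa, smul_zero, add_zero, smul_eq_mul,
          mul_one] at e2
        rw [e1, e2, zero_smul, zero_smul, add_zero] at hcd
        exact hy0 hcd.symm
      rw [hPl, S.toQd.mem_perp_two] at hy'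
      obtain ⟨z, hza, hzζ, hqz⟩ : ∃ z, S.B a z = 0 ∧ S.B ζ z = 0 ∧ S.q z = 1 := by
        by_cases hq' : S.q y' = 1
        · exact ⟨y', hy'.1, hy'.2, hq'⟩
        · exact ⟨y + y', by rw [map_add, hy.1, hy'.1, add_zero], by rw [map_add, hy.2, hy'.2, add_zero],
            by rw [S.polar, hyy, hqy, (z2_cases _).resolve_right hq']; rfl⟩
      refine ⟨a + z, fun e' => ?_, by rw [S.polar, hqa, hqz, hza]; rfl, ?_, ?_⟩
      · rw [← vadd_eq_zero e', hζa] at hzζ; exact one_ne_zero hzζ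
      · rw [S.toQd.symm, map_add, S.toQd.self_perp, hza, add_zero]
      · rw [S.toQd.symm, map_add, hζa, hzζ, e]; rfl
    · exact ⟨y, hy0, hqy, by rw [S.toQd.symm, hy.1], by rw [S.toQd.symm, hy.2, e]; rfl⟩
  rcases P.pair hh hN ha0 hqa haa hu0 hqu hw'0 hqw' with h2 | h2 | ⟨h2, -⟩
  · have := h2 (h * S.r ζ * h⁻¹) σ (σ + 1) hσ (hw'ζ ▸ S.hε.comm_sign_conj (S.comm w' ζ))
    exact one_ne_zero (left_eq_add.1 this)
  · rw [hu] at h2; exact zero_ne_one h2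
  · rw [hu, hw'a, add_zero] at h2; exact zero_ne_one h2

/-- Centralisers of all labelled elements normalise. -/
theorem cent_any {h : G} (hh : h ∈ H) {v : V} (hv : v ≠ 0) (hc : Peq S.ε (h * S.r v * h⁻¹) (S.r v)) :
    h ∈ S.N := by
  by_contra hN
  have hj : v ∈ S.jb h := ⟨v, hc⟩
  rw [P.jb_eq_bot hh hN, Submodule.mem_bot] at hj
  exact hv hj

/-- Fusion. -/
theorem le_N : H ≤ S.N := by
  intro h hh
  by_contra hN
  have hd := P.dim
  have hm := P.three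
  obtain ⟨u, -, hu0, hqu⟩ := S.toQd.exists_singular (W := ⊤) (by rw [finrank_top]; omega)
  obtain ⟨w, hqw, hwn⟩ : ∃ w, S.q w = 1 ∧ w ∉ S.nb h := by
    by_contra hcon
    push Not at hcon
    obtain ⟨x, hx, hqx, hxv⟩ := S.toQd.exists_nonsingular_perp (by omega) u
    have h1 : u + x ∈ S.nb h := hcon _ (by rw [S.polar, hqu, hqx, hx]; rfl)
    have h2 := add_mem h1 (hcon x hqx)
    rw [add_assoc, vadd_self, add_zero] at h2
    exact hN (P.mem_N_of_nb hh hu0 hqu h2)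
  have hw0 : w ≠ 0 := fun e => by rw [e, S.toQd.q_zero] at hqw; exact zero_ne_one hqw
  obtain ⟨W, hW⟩ : ∃ W, W = h * S.r w * h⁻¹ := ⟨_, rfl⟩
  have hWH : W ∈ H := hW ▸ P.conj_mem hh w
  have hUW : S.r u * W ∈ H := mul_mem (P.r_mem u) hWH
  have hW2 : Peq S.ε (W * W) 1 := by rw [hW, S.conj_sq]; exact S.hε.pw_peq _
  rcases S.hε.dihedral (S.inv_mul_r u) hW2 with ⟨l, hl⟩ | ⟨k, hz1, hzU, hzW, hcase⟩
  · have h1 := sq_eq_of_peq hl
    obtain ⟨g, hg⟩ : ∃ g, g = ((S.r u * W) ^ l)⁻¹ := ⟨_, rfl⟩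
    rw [← hg, show (S.r u * W) ^ l = g⁻¹ by rw [hg, inv_inv], hW, S.conj_sq, S.conj_sq, hqw, hqu] at h1
    exact one_ne_zero (S.hε.pw_inj h1)
  obtain ⟨z, hz⟩ : ∃ z, z = (S.r u * W) ^ k := ⟨_, rfl⟩
  rw [← hz] at hz1 hzU hzW hcase
  have hzH : z ∈ H := hz ▸ pow_mem hUW k
  have hzN : z ∈ S.N := P.cent z hzH u hu0 hqu (S.hε.conj_symm hzU)
  have hzN' : h⁻¹ * z * h ∈ S.N := P.cent_any (mul_mem (mul_mem (inv_mem hh) hzH) hh) hw0 (by
    have := S.hε.conj h⁻¹ (hW ▸ S.hε.conj_symm hzW)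
    simpa [mul_assoc] using this)
  rcases hcase with ⟨-, l, hl⟩ | ⟨-, l, hl⟩
  · obtain ⟨g, hg⟩ : ∃ g, g = ((S.r u * W) ^ l)⁻¹ := ⟨_, rfl⟩
    rw [← hg, show (S.r u * W) ^ l = g⁻¹ by rw [hg, inv_inv]] at hl
    obtain ⟨u', -, -, hu'⟩ := P.conj_eq_r (hg ▸ inv_mem (pow_mem hUW l)) hu0 hqu (by
      rw [S.mem_nb]; exact S.hε.eps_mem S.eps_mem_N (S.hε.symm hl) (mul_mem (S.r_mem_N u) hzN))
    have hzζ : Peq S.ε z (S.r (u + u')) := by
      have h1 := S.hε.mul_left (S.r u)⁻¹ (S.hε.trans hl hu')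
      rw [inv_mul_cancel_left] at h1
      exact S.hε.trans h1 (S.hε.trans (S.hε.mul_right _ (S.r_inv u)) (S.mul u u'))
    have hζ0 : u + u' ≠ 0 := fun e => hz1 (S.hε.trans hzζ (e ▸ S.r_zero))
    exact hwn (S.mem_nb.2 (hW ▸ P.cent_any hWH hζ0
      (S.hε.trans (S.hε.conj W (S.hε.symm hzζ)) (S.hε.trans hzW hzζ))))
  · obtain ⟨g, hg⟩ : ∃ g, g = ((S.r u * W) ^ l)⁻¹ := ⟨_, rfl⟩
    rw [← hg, show (S.r u * W) ^ l = g⁻¹ by rw [hg, inv_inv]] at hl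
    have hl' : Peq S.ε (S.r w * (h⁻¹ * z * h)) ((h⁻¹ * g) * S.r u * (h⁻¹ * g)⁻¹) := by
      have := S.hε.conj h⁻¹ hl
      rw [hW] at this
      simpa [mul_assoc] using this
    obtain ⟨u', -, -, hu'⟩ := P.conj_eq_r (mul_mem (inv_mem hh) (hg ▸ inv_mem (pow_mem hUW l))) hu0 hqu (by
      rw [S.mem_nb]; exact S.hε.eps_mem S.eps_mem_N (S.hε.symm hl') (mul_mem (S.r_mem_N w) hzN'))
    obtain ⟨ζ, hζ⟩ : ∃ ζ, ζ = w + u' := ⟨_, rfl⟩
    have hzζ : Peq S.ε z (h * S.r ζ * h⁻¹) := by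
      have h1 := S.hε.mul_left (S.r w)⁻¹ (S.hε.trans hl' hu')
      rw [inv_mul_cancel_left] at h1
      have h2 := S.hε.conj h (S.hε.trans h1 (hζ ▸ S.hε.trans (S.hε.mul_right _ (S.r_inv w)) (S.mul w u')))
      simpa [mul_assoc] using h2
    have hζ0 : ζ ≠ 0 := fun e => hz1 (by
      refine S.hε.trans hzζ ?_
      rw [e]; simpa using S.hε.conj h S.r_zero)
    refine hN ?_
    have hc : Peq S.ε (h⁻¹ * S.r u * h * S.r ζ * (h⁻¹ * S.r u * h)⁻¹) (S.r ζ) := by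
      have := S.hε.conj h⁻¹ (S.hε.trans (S.hε.conj (S.r u) (S.hε.symm hzζ)) (S.hε.trans hzU hzζ))
      simpa [mul_assoc] using this
    have := P.mem_N_of_nb (inv_mem hh) hu0 hqu (by
      rw [S.mem_nb, inv_inv]
      exact P.cent_any (mul_mem (mul_mem (inv_mem hh) (P.r_mem u)) hh) hζ0 hc)
    simpa using inv_mem this

end Fus

end GSys

end Cfsg.Agent.Classical.CliffordTwo
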