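import Cfsg.Agent.Lib.Classical.CliffordTwo.Ctl
import Cfsg.Agent.Lib.Classical.CliffordTwo.FusionTwo

/-!
A group containing the derived normaliser and not inside the normaliser contains the doubly controlled elements.
-/

set_option autoImplicit false
set_option linter.unusedSectionVars false

namespace Cfsg.Agent.Classical.CliffordTwo

open Module

local notation "Z2" => ZMod 2

namespace Sys

variable {F : Type*} [Field F] {A : Type*} [Ring A] [Algebra F A] {V : Type*} [AddCommGroup V] [Module (ZMod 2) V]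
  [Finite V] [Finite A] (S : Sys F A V)

/-- Doubly controlled labelled elements lie in an overgroup of the derived normaliser not inside the normaliser. -/
theorem ctl_ctl_mem (hd : 8 ≤ finrank (ZMod 2) V) {m : ℕ} (hm : finrank (ZMod 2) V = 2 * m) {H : Subgroup S.Iso}
    (hNO : S.NO ≤ H) (hH : ¬ H ≤ S.gsys.N) (h : HPair S.toQd) (h' : HPair (S.sub h).toQd) (w : h'.W) :
    S.ctl h ((S.sub h).ctl h' (((S.sub h).sub h').rI w)) ∈ H := by
  have hWd := h.finrank_W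
  have hRH : S.gsys.R ≤ H := (S.R_le_NO (by omega)).trans hNO
  have hl : S.gsys.Lifts H := fun v w hq hvw => by
    obtain ⟨γ, hγ, h1⟩ := S.lifts_NO (by omega) v w hq hvw
    exact ⟨γ, hNO hγ, h1⟩
  obtain ⟨g, hgH, hgN, v, hv, hqv, hgv⟩ : ∃ g ∈ H, g ∉ S.gsys.N ∧ ∃ v, v ≠ 0 ∧ S.q v = 0 ∧
      Peq S.epsI (g * S.rI v * g⁻¹) (S.rI v) := by
    by_contra hcon
    push Not at hcon
    exact hH (GSys.Fus.le_N (S := S.gsys) (m := m) ⟨hm, by omega, hRH, hl, fun x hx v hv hq hc =>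
      by_contra fun hxN => hcon x hx hxN v hv hq hc⟩)
  -- move the fixed vector to the first vector of the pair
  obtain ⟨γ, hγH, hγN, hγv⟩ := S.gsys.exists_move_singular (by omega) hl hv hqv h.z_ne h.qz
  obtain ⟨g₁, hg₁⟩ : ∃ g₁, g₁ = γ * g * γ⁻¹ := ⟨_, rfl⟩
  have hg₁H : g₁ ∈ H := hg₁ ▸ mul_mem (mul_mem hγH hgH) (inv_mem hγH)
  have hg₁N : g₁ ∉ S.gsys.N := fun hc => hgN (by
    have := S.gsys.N.mul_mem (S.gsys.N.mul_mem (S.gsys.N.inv_mem hγN) hc) hγN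
    simpa [hg₁, mul_assoc] using this)
  have hg₁z : Peq S.epsI (g₁ * S.rI h.z * g₁⁻¹) (S.rI h.z) := by
    have h1 : Peq S.epsI (γ * S.rI v * γ⁻¹) (S.rI h.z) := hγv ▸ S.gsys.phi_spec hγN v
    refine S.cinv_epsI.trans (S.cinv_epsI.conj g₁ (S.cinv_epsI.symm h1)) (S.cinv_epsI.trans ?_ h1)
    have := S.cinv_epsI.conj γ hgv
    rw [hg₁]
    simpa [mul_assoc] using this
  obtain ⟨g₂, hg₂H, hg₂N, hg₂z⟩ : ∃ g₂ ∈ H, g₂ ∉ S.gsys.N ∧ g₂ * S.rI h.z = S.rI h.z * g₂ := by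
    rcases hg₁z with e | e
    · exact ⟨g₁, hg₁H, hg₁N, mul_inv_eq_iff_eq_mul.1 e⟩
    · refine ⟨S.rI h.x * g₁, mul_mem (hRH (S.gsys.r_mem h.x)) hg₁H, fun hc => hg₁N (by
        have := S.gsys.N.mul_mem (S.gsys.N.inv_mem (S.gsys.r_mem_N h.x)) hc
        simpa [gsys_r] using this), ?_⟩
      have hxz : S.rI h.x * S.rI h.z = S.epsI * (S.rI h.z * S.rI h.x) := by
        have := S.gsys.comm h.x h.z
        rwa [show S.gsys.B h.x h.z = 1 from h.bxz, S.gsys.hε.pw_one] at this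
      rw [mul_assoc, mul_inv_eq_iff_eq_mul.1 e, ← mul_assoc, ← mul_assoc, ← S.cinv_epsI.central (S.rI h.x),
        mul_assoc S.epsI, hxz, ← mul_assoc, S.cinv_epsI.sq, one_mul, mul_assoc]
  obtain ⟨a, b, hab⟩ := S.exists_Psi h hg₂z
  obtain ⟨L, hL⟩ : ∃ L : Subgroup (S.sub h).Iso, L = H.comap (S.ctl h) := ⟨_, rfl⟩
  have hmemL : ∀ l, l ∈ L ↔ S.ctl h l ∈ H := fun l => by rw [hL]; rfl
  have hRL : (S.sub h).gsys.R ≤ L := by
    rintro l ⟨u, hu⟩
    refine (S.sub h).cinv_epsI.eps_mem ((hmemL _).2 ?_) hu ((hmemL _).2 (hNO (S.ctl_rI_mem_NO h (by omega) u)))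
    rw [S.ctl_eps]
    exact hRH (S.gsys.r_mem h.z)
  have hinv : ∀ γ ∈ (S.sub h).NO, ∀ l ∈ L, γ * l * γ⁻¹ ∈ L := fun γ hγ l hl' => by
    refine (hmemL _).2 ?_
    have e : S.ctl h (γ * l * γ⁻¹) = S.dia h γ * S.ctl h l * (S.dia h γ)⁻¹ := by
      simp only [ctl_apply, dia_apply, ← map_inv, ← map_mul]
      simp
    rw [e]
    exact mul_mem (mul_mem (hNO (S.dia_mem_NO h hγ)) ((hmemL l).1 hl')) (inv_mem (hNO (S.dia_mem_NO h hγ)))
  have hswap : S.Psi h (b, a) ∈ H := by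
    rw [← S.swap_Psi h a b, ← hab]
    exact mul_mem (mul_mem (hRH (S.gsys.r_mem h.x)) hg₂H) (inv_mem (hRH (S.gsys.r_mem h.x)))
  have hconj : ∀ {c d : (S.sub h).Iso}, S.Psi h (c, d) ∈ H → ∀ l ∈ L, d * l * d⁻¹ ∈ L := fun {c d} hcd l hl' => by
    refine (hmemL _).2 ?_
    have e : S.ctl h (d * l * d⁻¹) = S.Psi h (c, d) * S.ctl h l * (S.Psi h (c, d))⁻¹ := by
      simp only [ctl_apply, ← map_inv, ← map_mul]
      simp
    rw [e]
    exact mul_mem (mul_mem hcd ((hmemL l).1 hl')) (inv_mem hcd)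
  have hLR : ¬ L ≤ (S.sub h).gsys.R := fun hle => by
    have hN : ∀ {c d : (S.sub h).Iso}, S.Psi h (c, d) ∈ H → d ∈ (S.sub h).gsys.N := fun hcd v =>
      hle (hconj hcd _ (hRL ((S.sub h).gsys.r_mem v)))
    have haN : a ∈ (S.sub h).gsys.N := hN hswap
    have hbN : b ∈ (S.sub h).gsys.N := hN (hab ▸ hg₂H)
    obtain ⟨c, hc⟩ : ∃ c, c = a⁻¹ * b := ⟨_, rfl⟩
    have hcN : c ∈ (S.sub h).gsys.N := hc ▸ mul_mem (inv_mem haN) hbN
    have key : ∀ γ ∈ (S.sub h).NO, ∀ y, (S.sub h).gsys.phi c ((S.sub h).gsys.phi γ y) =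
        (S.sub h).gsys.phi γ ((S.sub h).gsys.phi c y) := fun γ hγ y => by
      obtain ⟨δ, hδ⟩ : ∃ δ, δ = a * γ * a⁻¹ := ⟨_, rfl⟩
      have hδNO : δ ∈ (S.sub h).NO := hδ ▸ (S.sub h).NO_normal haN hγ
      have h1 : δ⁻¹ * (b * γ * b⁻¹) ∈ L := by
        refine (hmemL _).2 ?_
        have e : S.ctl h (δ⁻¹ * (b * γ * b⁻¹)) =
            (S.dia h δ)⁻¹ * (g₂ * S.dia h γ * g₂⁻¹) := by
          simp only [hab, ctl_apply, dia_apply, ← map_inv, ← map_mul]
          simp [hδ, mul_assoc]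
        rw [e]
        exact mul_mem (inv_mem (hNO (S.dia_mem_NO h hδNO)))
          (mul_mem (mul_mem hg₂H (hNO (S.dia_mem_NO h hγ))) (inv_mem hg₂H))
      have h2 := (S.sub h).gsys.phi_of_mem_R (hle h1)
      have hγN := hγ.1
      have h3 : (S.sub h).gsys.phi (b * γ * b⁻¹) ((S.sub h).gsys.phi b y) =
          (S.sub h).gsys.phi δ ((S.sub h).gsys.phi b y) := by
        refine (S.sub h).gsys.phi_injective (inv_mem hδNO.1) ?_
        rw [(S.sub h).gsys.phi_inv_phi hδNO.1, ← (S.sub h).gsys.phi_mul (inv_mem hδNO.1)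
          (mul_mem (mul_mem hbN hγN) (inv_mem hbN)), h2]
      rw [← (S.sub h).gsys.phi_mul (mul_mem (mul_mem hbN hγN) (inv_mem hbN)) hbN, inv_mul_cancel_right,
        (S.sub h).gsys.phi_mul hbN hγN, hδ, (S.sub h).gsys.phi_mul (mul_mem haN hγN) (inv_mem haN),
        (S.sub h).gsys.phi_mul haN hγN] at h3
      rw [hc, (S.sub h).gsys.phi_mul (inv_mem haN) hbN, (S.sub h).gsys.phi_mul (inv_mem haN) hbN, h3,
        (S.sub h).gsys.phi_inv_phi haN]
    have hl' := (S.sub h).lifts_NO (by omega)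
    have hcR : c ∈ (S.sub h).gsys.R := by
      refine (S.sub h).gsys.mem_R_of_phi hcN fun y => ?_
      refine LinearMap.congr_fun (LinearMap.ext_on (f := (S.sub h).gsys.phiL hcN) (g := LinearMap.id)
        ((S.sub h).toQd.span_singular (by omega)) fun u ⟨hu, hqu⟩ => ?_) y
      refine ((S.sub h).toQd.fixed_rho (by omega) hu fun x hx => ?_).resolve_left
        ((S.sub h).gsys.phi_ne_zero hcN hu)
      obtain ⟨γ, hγ, -, hγx⟩ := hl' u x hqu hx
      show _ = (S.sub h).gsys.phi c u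
      refine (hγx _).symm.trans ?_
      show (S.sub h).gsys.phi γ ((S.sub h).gsys.phi c u) = _
      rw [← key γ hγ, hγx]
      congr 1
      exact (S.sub h).toQd.rho_self hx
    refine hg₂N ?_
    have e : g₂ = S.dia h a * S.ctl h c := by
      simp only [hab, ctl_apply, dia_apply, ← map_mul]
      simp [hc]
    rw [e]
    refine mul_mem (S.dia_mem_N h haN) ?_
    obtain ⟨u, hu⟩ := hcR
    rcases hu with e' | e' <;> rw [e']
    · exact S.ctl_rI_mem_N h u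
    · rw [map_mul, show (S.sub h).gsys.ε = (S.sub h).epsI from rfl, S.ctl_eps]
      exact mul_mem (S.gsys.r_mem_N h.z) (S.ctl_rI_mem_N h u)
  exact (hmemL _).1 ((S.sub h).ctl_mem_of_invariant h' (by omega) hRL hinv hLR w)

end Sys

end Cfsg.Agent.Classical.CliffordTwo
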