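import Cfsg.Agent.Lib.Classical.CliffordTwo.HyperPerm
import Cfsg.Agent.Lib.Classical.MaxFrameMain

/-!
Signed permutation matrices on the cube: a few of them give all squares of monomial isometries.
-/

set_option autoImplicit false
set_option linter.unusedSectionVars false

namespace Cfsg.Agent.Classical.CliffordTwo

open Matrix Equiv OrthFrame

variable {F : Type*} [Field F] {n k : ℕ}

/-- A permutation of the cube as one of the indices. -/
def pc (ξ : Fin n ≃ (Fin k → ZMod 2)) (π : Perm (Fin k → ZMod 2)) : Perm (Fin n) := ξ.symm.permCongr π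

theorem pc_mul (ξ : Fin n ≃ (Fin k → ZMod 2)) (π π' : Perm (Fin k → ZMod 2)) :
    pc ξ (π * π') = pc ξ π * pc ξ π' := Equiv.permCongr_mul _ _ _

theorem pc_apply (ξ : Fin n ≃ (Fin k → ZMod 2)) (π : Perm (Fin k → ZMod 2)) (i : Fin n) :
    pc ξ π i = ξ.symm (π (ξ i)) := rfl

theorem sp_dg (π : Perm (Fin n)) (ε : Fin n → Fˣ) (S : Finset (Fin n)) :
    sp π ε * dg S = (dg (S.map π.toEmbedding) * sp π ε : GL (Fin n) F) := by
  refine ext_single fun i => ?_
  rw [Units.val_mul, Units.val_mul, ← mulVec_mulVec, ← mulVec_mulVec, dg_single, mulVec_smul, sp_single,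
    show (Pi.single (π i) (ε i : F) : Fin n → F) = (ε i : F) • Pi.single (π i) 1 by
      rw [← Pi.single_smul, smul_eq_mul, mul_one], mulVec_smul, dg_single, smul_comm]
  congr 2
  by_cases h : i ∈ S <;> simp [sgn, h]

theorem frame_mon {H : Subgroup (GL (Fin n) F)} (h2 : (2 : F) ≠ 0) (ξ : Fin n ≃ (Fin k → ZMod 2)) (hk : 4 ≤ k)
    (hiso : ∀ g ∈ H, ∀ x, qs F n ((g : Matrix (Fin n) (Fin n) F) *ᵥ x) = qs F n x)
    (hdet : ∀ g ∈ H, (g : Matrix (Fin n) (Fin n) F).det = 1)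
    (htr : ∀ b, ∃ ε, (sp (pc ξ (Cube.tr b)) ε : GL (Fin n) F) ∈ H)
    (hfl : ∀ A t, A.card = 2 → t ∉ A → ∃ ε, (sp (pc ξ (Cube.flip A t)) ε : GL (Fin n) F) ∈ H)
    (hcc : ∀ i j t : Fin k, i ≠ j → i ≠ t → j ≠ t →
      (dg (Finset.univ.filter fun m => ξ m i = 1 ∧ ξ m j = 1 ∧ ξ m t = 1) : GL (Fin n) F) ∈ H) : Fr H := by
  classical
  obtain ⟨G, hG⟩ : ∃ G : Subgroup (Perm (Fin k → ZMod 2)), ∀ π, π ∈ G ↔ ∃ ε, (sp (pc ξ π) ε : GL (Fin n) F) ∈ H := by
    refine ⟨{ carrier := {π | ∃ ε, (sp (pc ξ π) ε : GL (Fin n) F) ∈ H}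
              one_mem' := ⟨fun _ => 1, by rw [show pc ξ 1 = 1 from Equiv.ext fun i => by simp [pc_apply], sp_one]; exact one_mem _⟩
              mul_mem' := ?_
              inv_mem' := ?_ }, fun _ => Iff.rfl⟩
    · rintro a b ⟨ε, hε⟩ ⟨ε', hε'⟩
      exact ⟨_, by rw [pc_mul, ← sp_mul]; exact mul_mem hε hε'⟩
    · rintro a ⟨ε, hε⟩
      refine ⟨fun i => (ε ((pc ξ a)⁻¹ i))⁻¹, ?_⟩
      rw [show pc ξ a⁻¹ = (pc ξ a)⁻¹ from eq_inv_of_mul_eq_one_left (by
        rw [← pc_mul, inv_mul_cancel]; exact Equiv.ext fun i => by simp [pc_apply]), show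
        (sp (pc ξ a)⁻¹ (fun i => (ε ((pc ξ a)⁻¹ i))⁻¹) : GL (Fin n) F) = (sp (pc ξ a) ε)⁻¹ from Units.ext rfl]
      exact inv_mem hε
  have halt := Cube.even_mem hk (fun b => (hG _).2 (htr b)) fun A t hA ht => (hG _).2 (hfl A t hA ht)
  have hperm : ∀ σ : Perm (Fin n), Perm.sign σ = 1 → ∃ ε, (sp σ ε : GL (Fin n) F) ∈ H := fun σ hσ => by
    obtain ⟨ε, hε⟩ := (hG _).1 (halt (Perm.mem_alternatingGroup.2 (by rw [Equiv.Perm.sign_permCongr, hσ]) :
      ξ.permCongr σ ∈ alternatingGroup _))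
    exact ⟨ε, by rwa [show pc ξ (ξ.permCongr σ) = σ from Equiv.ext fun i => by simp [pc_apply]] at hε⟩
  have hn : 16 ≤ n := by
    have h := Fintype.card_congr ξ
    rw [Fintype.card_fin, Fintype.card_fun, ZMod.card, Fintype.card_fin] at h
    rw [h]
    exact le_trans (by norm_num) (Nat.pow_le_pow_right (by norm_num) hk)
  have hconj : ∀ (σ : Perm (Fin n)) S, Perm.sign σ = 1 → (dg S : GL (Fin n) F) ∈ H →
      (dg (S.map σ.toEmbedding) : GL (Fin n) F) ∈ H := fun σ S hσ hS => by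
    obtain ⟨ε, hε⟩ := hperm σ hσ
    have h := mul_mem (mul_mem hε hS) (inv_mem hε)
    rwa [sp_dg, mul_inv_cancel_right] at h
  -- one pair
  obtain ⟨i, j, t, hij, hit, hjt⟩ : ∃ i j t : Fin k, i ≠ j ∧ i ≠ t ∧ j ≠ t :=
    ⟨⟨0, by omega⟩, ⟨1, by omega⟩, ⟨2, by omega⟩, by simp, by simp, by simp⟩
  obtain ⟨C, hC⟩ : ∃ C, C = Finset.univ.filter fun m => ξ m i = 1 ∧ ξ m j = 1 ∧ ξ m t = 1 := ⟨_, rfl⟩
  obtain ⟨a, ha⟩ : ∃ a, a = Cube.dlt i + Cube.dlt j + Cube.dlt t := ⟨_, rfl⟩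
  have a1 : a i = 1 ∧ a j = 1 ∧ a t = 1 := by
    simp [ha, Cube.dlt_same, Cube.dlt_ne hij, Cube.dlt_ne hit, Cube.dlt_ne hjt, Cube.dlt_ne hij.symm,
      Cube.dlt_ne hit.symm, Cube.dlt_ne hjt.symm]
  obtain ⟨h3, hth⟩ := Cube.three_mem hk (fun b => (hG _).2 (htr b)) (fun A t hA ht => (hG _).2 (hfl A t hA ht)) a hij
  obtain ⟨c, hc⟩ : ∃ c, c = swap a (a + Cube.dlt i) * swap a (a + Cube.dlt j) := ⟨_, rfl⟩
  rw [← hc] at h3 hth
  obtain ⟨ε, hε⟩ := (hG _).1 h3
  have hCH : (dg C : GL (Fin n) F) ∈ H := hC ▸ hcc i j t hij hit hjt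
  have h1 := mul_mem hCH (mul_mem (mul_mem hε hCH) (inv_mem hε))
  rw [sp_dg, mul_inv_cancel_right, dg_mul] at h1
  have hne : a ≠ a + Cube.dlt j := fun e => by simpa [Cube.dlt_same] using congrFun e j
  have hne' : a + Cube.dlt j ≠ a + Cube.dlt i := fun e => by
    simpa [Cube.dlt_same, Cube.dlt_ne hij] using congrFun e i
  have hca : c a = a + Cube.dlt j := by
    rw [hc, Perm.mul_apply, swap_apply_left, swap_apply_of_ne_of_ne hne.symm hne']
  have hsd : symmDiff C (C.map (pc ξ c).toEmbedding) = {ξ.symm a, ξ.symm (a + Cube.dlt j)} := by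
    have hsupp : ∀ x, x ≠ a → x ≠ a + Cube.dlt i → x ≠ a + Cube.dlt j → c x = x := fun x x1 x2 x3 => by
      rw [hc, Perm.mul_apply, swap_apply_of_ne_of_ne x1 x3, swap_apply_of_ne_of_ne x1 x2]
    have hia : ¬ (a + Cube.dlt i) i = 1 := by simp [Cube.dlt_same, a1.1, show (1 : ZMod 2) + 1 = 0 from rfl]
    have hja : ¬ (a + Cube.dlt j) j = 1 := by simp [Cube.dlt_same, a1.2.1, show (1 : ZMod 2) + 1 = 0 from rfl]
    ext m
    obtain ⟨x, rfl⟩ := ξ.symm.surjective m
    simp only [Finset.mem_symmDiff, Finset.mem_map_equiv, hC, Finset.mem_filter, Finset.mem_univ, true_and,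
      Equiv.apply_symm_apply, Finset.mem_insert, Finset.mem_singleton, EmbeddingLike.apply_eq_iff_eq]
    rw [show ξ ((pc ξ c).symm (ξ.symm x)) = c.symm x from by
      rw [show (pc ξ c).symm (ξ.symm x) = ξ.symm (c.symm x) from (Equiv.symm_apply_eq _).2 (by simp [pc_apply]),
        Equiv.apply_symm_apply]]
    have hone : (1 : ZMod 2) + 1 = 0 := rfl
    rcases eq_or_ne x a with rfl | x1
    · have : c.symm x = x + Cube.dlt i := (Equiv.symm_apply_eq _).2 (by
        rw [hc, Perm.mul_apply, swap_apply_of_ne_of_ne (fun e => by simpa [Cube.dlt_same] using congrFun e i)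
          hne'.symm, swap_apply_right])
      rw [this]
      simp [a1, Cube.dlt_same, Cube.dlt_ne hij, Cube.dlt_ne hij.symm, Cube.dlt_ne hit.symm, Cube.dlt_ne hjt.symm, hone]
    rcases eq_or_ne x (a + Cube.dlt j) with rfl | x2
    · rw [show c.symm (a + Cube.dlt j) = a from (Equiv.symm_apply_eq _).2 hca.symm]
      simp [a1, Cube.dlt_same, Cube.dlt_ne hij, Cube.dlt_ne hij.symm, Cube.dlt_ne hit.symm, Cube.dlt_ne hjt.symm, hone]
    rcases eq_or_ne x (a + Cube.dlt i) with rfl | x3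
    · rw [show c.symm (a + Cube.dlt i) = a + Cube.dlt j from (Equiv.symm_apply_eq _).2 (by
        rw [hc, Perm.mul_apply, swap_apply_right, swap_apply_left])]
      simp [a1, x1, x2, Cube.dlt_same, Cube.dlt_ne hij, Cube.dlt_ne hij.symm, Cube.dlt_ne hit.symm, Cube.dlt_ne hjt.symm, hone]
    · rw [show c.symm x = x from (Equiv.symm_apply_eq _).2 (hsupp x x1 x3 x2).symm]
      simp [x1, x2]
  rw [hsd] at h1
  -- all pairs
  have hpair : ∀ p q : Fin n, p ≠ q → (dg {p, q} : GL (Fin n) F) ∈ H := fun p q hpq => by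
    obtain ⟨u, v, huv, hm⟩ : ∃ u v : Fin n, u ≠ v ∧ (dg {u, v} : GL (Fin n) F) ∈ H :=
      ⟨_, _, fun e => hne (ξ.symm.injective e), h1⟩
    obtain ⟨σ, hσu, hσv⟩ : ∃ σ : Perm (Fin n), σ u = p ∧ σ v = q := by
      refine ⟨swap (swap u p v) q * swap u p, ?_, ?_⟩
      · rw [Perm.mul_apply, swap_apply_left, swap_apply_of_ne_of_ne _ hpq]
        intro e
        exact huv ((swap u p).injective (by rw [swap_apply_left]; exact e))
      · rw [Perm.mul_apply, swap_apply_left]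
    obtain ⟨r, s, hrs, hr, hs⟩ : ∃ r s : Fin n, r ≠ s ∧ (r ≠ p ∧ r ≠ q) ∧ s ≠ p ∧ s ≠ q := by
      obtain ⟨r, hr, s, hs, hrs⟩ := Finset.one_lt_card.1 (show 1 < (({p, q} : Finset (Fin n))ᶜ).card by
        rw [Finset.card_compl, Fintype.card_fin, Finset.card_pair hpq]; omega)
      simp only [Finset.mem_compl, Finset.mem_insert, Finset.mem_singleton, not_or] at hr hs
      exact ⟨r, s, hrs, hr, hs⟩
    obtain ⟨τ, hτ, hτu, hτv⟩ : ∃ τ : Perm (Fin n), Perm.sign τ = 1 ∧ τ u = p ∧ τ v = q := by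
      rcases Int.units_eq_one_or (Perm.sign σ) with e | e
      · exact ⟨σ, e, hσu, hσv⟩
      · refine ⟨swap r s * σ, by rw [map_mul, e, Perm.sign_swap hrs]; rfl, ?_, ?_⟩
        · rw [Perm.mul_apply, hσu, swap_apply_of_ne_of_ne hr.1.symm hs.1.symm]
        · rw [Perm.mul_apply, hσv, swap_apply_of_ne_of_ne hr.2.symm hs.2.symm]
    have := hconj τ _ hτ hm
    rwa [Finset.map_insert, Finset.map_singleton, Equiv.coe_toEmbedding, hτu, hτv] at this
  have heven : ∀ S : Finset (Fin n), Even S.card → (dg S : GL (Fin n) F) ∈ H := by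
    intro S
    induction S using Finset.strongInduction with
    | _ S ih =>
      intro hS
      rcases Finset.eq_empty_or_nonempty S with rfl | ⟨p, hp⟩
      · rw [dg_empty]; exact one_mem _
      obtain ⟨q, hq⟩ : (S.erase p).Nonempty := by
        rw [← Finset.card_pos, Finset.card_erase_of_mem hp]
        have := Finset.card_pos.2 ⟨p, hp⟩
        obtain ⟨r, hr⟩ := hS
        omega
      have hqp := Finset.ne_of_mem_erase hq
      have e : S = symmDiff {p, q} ((S.erase p).erase q) := by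
        ext x
        simp only [Finset.mem_symmDiff, Finset.mem_insert, Finset.mem_singleton, Finset.mem_erase]
        by_cases x = p <;> by_cases x = q <;> simp_all [Finset.mem_of_mem_erase hq]
      rw [e, ← dg_mul]
      refine mul_mem (hpair p q hqp.symm) (ih _ ?_ ?_)
      · exact (Finset.erase_subset _ _).trans_ssubset (Finset.erase_ssubset hp)
      · rw [Finset.card_erase_of_mem hq, Finset.card_erase_of_mem hp]
        obtain ⟨r, hr⟩ := hS
        exact ⟨r - 1, by omega⟩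
  refine ⟨h2, hiso, hdet, fun π ε hε => ?_⟩
  obtain ⟨δ, hδ⟩ := hperm (π * π) (by rw [map_mul, Int.units_mul_self])
  have hδ2 : ∀ i, (δ i : F) * δ i = 1 := fun i => by
    have h := hiso _ hδ (Pi.single i 1)
    rw [sp_single, qs_apply, qs_apply] at h
    simpa [Pi.single_apply] using h
  obtain ⟨η, hη⟩ : ∃ η : Fin n → Fˣ, η = fun i => ε (π i) * ε i * δ i := ⟨_, rfl⟩
  obtain ⟨S, hS⟩ : ∃ S : Finset (Fin n), S = Finset.univ.filter fun i => η i = -1 := ⟨_, rfl⟩
  have hηS : sgn F S = η := funext fun i => by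
    have h : (η i : F) * η i = 1 := by
      rw [hη, Units.val_mul, Units.val_mul]
      linear_combination (ε i : F) * ε i * ((δ i : F) * δ i) * hε (π i) + (δ i : F) * δ i * hε i + hδ2 i
    by_cases e : η i = -1
    · simp [sgn, hS, e]
    · rcases mul_self_eq_one_iff.1 h with e' | e'
      · rw [Units.val_eq_one.1 e'] at e
        simp [sgn, hS, e, Units.val_eq_one.1 e']
      · exact absurd (Units.ext (by simpa using e')) e
  have heq : (sp π ε * sp π ε : GL (Fin n) F) = sp (π * π) δ * dg S := by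
    rw [dg, hηS, hη, sp_mul, sp_mul, mul_one]
    congr 1
    funext i
    refine Units.ext ?_
    simp only [Units.val_mul, Perm.one_apply]
    linear_combination -((ε (π i) : F) * ε i) * hδ2 i
  rw [heq]
  refine mul_mem hδ (heven S ?_)
  have hd1 := hdet _ hδ
  have hd2 : ((sp π ε * sp π ε : GL (Fin n) F) : Matrix (Fin n) (Fin n) F).det = 1 := by
    rw [Units.val_mul, det_mul, sp_val, det_spMat]
    have : ((Perm.sign π : ℤ) : F) * ((Perm.sign π : ℤ) : F) = 1 := by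
      rw [← Int.cast_mul, ← Units.val_mul, Int.units_mul_self]; simp
    have h2' : (∏ i, (ε i : F)) * ∏ i, (ε i : F) = 1 := by
      rw [← Finset.prod_mul_distrib]; exact Finset.prod_eq_one fun i _ => hε i
    linear_combination ((∏ i, (ε i : F)) * ∏ i, (ε i : F)) * this + h2'
  rw [heq, Units.val_mul, det_mul, hd1, one_mul, dg, sp_val, det_spMat, map_one, Units.val_one, Int.cast_one, one_mul,
    show (∏ i, (sgn F S i : F)) = (-1) ^ S.card by
      simp only [sgn, apply_ite Units.val, Units.val_neg, Units.val_one, Finset.prod_ite_mem, Finset.univ_inter,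
        Finset.prod_const]] at hd2
  by_contra hodd
  rw [(Nat.not_even_iff_odd.1 hodd).neg_one_pow] at hd2
  exact h2 (by linear_combination -hd2)

end Cfsg.Agent.Classical.CliffordTwo
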