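import Cfsg.Agent.Lib.Classical.CliffordTwo.GSys

/-!
If the elements of a group fixing a singular labelled element normalise the two-group, so does the whole group.
-/

set_option autoImplicit false
set_option linter.unusedSectionVars false

namespace Cfsg.Agent.Classical.CliffordTwo

open Module

local notation "Z2" => ZMod 2

namespace GSys

variable {G : Type*} [Group G] [Finite G] {V : Type*} [AddCommGroup V] [Module (ZMod 2) V] [Finite V] (S : GSys G V)

/-- The hypotheses of the fusion argument. -/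
structure Fus (H : Subgroup G) (m : ℕ) : Prop where
  dim : finrank (ZMod 2) V = 2 * m
  three : 3 ≤ m
  R_le : S.R ≤ H
  lifts : S.Lifts H
  cent : ∀ h ∈ H, ∀ v, v ≠ 0 → S.q v = 0 → Peq S.ε (h * S.r v * h⁻¹) (S.r v) → h ∈ S.N

/-- The vectors whose conjugates normalise. -/
def nb (h : G) : Submodule (ZMod 2) V where
  carrier := {w | h * S.r w * h⁻¹ ∈ S.N}
  zero_mem' := S.hε.eps_mem S.eps_mem_N (S.hε.conj h S.r_zero) (by simp)
  add_mem' := fun {a b} ha hb => S.hε.eps_mem S.eps_mem_N (S.hε.conj h (S.hε.symm (S.mul a b)))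
    (by rw [show h * (S.r a * S.r b) * h⁻¹ = h * S.r a * h⁻¹ * (h * S.r b * h⁻¹) by simp [mul_assoc]]
        exact mul_mem ha hb)
  smul_mem' := fun c x hx => by
    rcases z2_smul c x with e | e <;> rw [e]
    · exact S.hε.eps_mem S.eps_mem_N (S.hε.conj h S.r_zero) (by simp)
    · exact hx

/-- The vectors whose conjugates are labelled. -/
def jb (h : G) : Submodule (ZMod 2) V where
  carrier := {w | h * S.r w * h⁻¹ ∈ S.R}
  zero_mem' := S.hε.eps_mem S.eps_mem_R (S.hε.conj h S.r_zero) (by simp)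
  add_mem' := fun {a b} ha hb => S.hε.eps_mem S.eps_mem_R (S.hε.conj h (S.hε.symm (S.mul a b)))
    (by rw [show h * (S.r a * S.r b) * h⁻¹ = h * S.r a * h⁻¹ * (h * S.r b * h⁻¹) by simp [mul_assoc]]
        exact mul_mem ha hb)
  smul_mem' := fun c x hx => by
    rcases z2_smul c x with e | e <;> rw [e]
    · exact S.hε.eps_mem S.eps_mem_R (S.hε.conj h S.r_zero) (by simp)
    · exact hx

theorem mem_nb {h : G} {w : V} : w ∈ S.nb h ↔ h * S.r w * h⁻¹ ∈ S.N := Iff.rfl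

theorem mem_jb {h : G} {w : V} : w ∈ S.jb h ↔ h * S.r w * h⁻¹ ∈ S.R := Iff.rfl

theorem jb_le_nb (h : G) : S.jb h ≤ S.nb h := fun _ hw => S.R_le_N hw

theorem conj_sq (h : G) (v : V) : h * S.r v * h⁻¹ * (h * S.r v * h⁻¹) = pw S.ε (S.q v) := by
  rw [show h * S.r v * h⁻¹ * (h * S.r v * h⁻¹) = h * (S.r v * S.r v) * h⁻¹ by simp [mul_assoc], S.sq, S.hε.conj_pw]

/-- The displacement map of a normalising conjugate. -/
noncomputable def disp {h : G} {x : V} (hx : x ∈ S.nb h) : V →ₗ[ZMod 2] V := S.phiL hx + LinearMap.id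

theorem disp_apply {h : G} {x : V} (hx : x ∈ S.nb h) (y : V) :
    S.disp hx y = S.phi (h * S.r x * h⁻¹) y + y := rfl

theorem phi_phi_self {h : G} {x : V} (hx : x ∈ S.nb h) (y : V) :
    S.phi (h * S.r x * h⁻¹) (S.phi (h * S.r x * h⁻¹) y) = y := by
  rw [← S.phi_mul hx hx, S.conj_sq]
  exact S.phi_of_mem_R (S.hε.eps_mem S.eps_mem_R (S.hε.pw_peq _) (one_mem _)) y

theorem mem_ker_disp {h : G} {x : V} (hx : x ∈ S.nb h) {y : V} :
    y ∈ LinearMap.ker (S.disp hx) ↔ S.phi (h * S.r x * h⁻¹) y = y := by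
  rw [LinearMap.mem_ker, S.disp_apply]
  exact ⟨vadd_eq_zero, fun e => by rw [e, vadd_self]⟩

theorem range_disp_le {h : G} {x : V} (hx : x ∈ S.nb h) : LinearMap.range (S.disp hx) ≤ LinearMap.ker (S.disp hx) := by
  rintro _ ⟨y, rfl⟩
  rw [S.mem_ker_disp, S.disp_apply, S.phi_add hx, S.phi_phi_self hx, add_comm]

theorem range_disp {h : G} {x : V} (hx : x ∈ S.nb h) :
    LinearMap.range (S.disp hx) = S.toQd.perp (LinearMap.ker (S.disp hx)) := by
  refine Submodule.eq_of_le_of_finrank_le ?_ ?_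
  · rintro _ ⟨y, rfl⟩
    refine S.toQd.mem_perp.2 fun c hc => ?_
    rw [S.mem_ker_disp] at hc
    rw [S.disp_apply, map_add]
    conv_lhs => arg 1; rw [← hc]
    rw [S.B_phi hx, z2_add_self]
  · rw [S.toQd.finrank_perp]
    have := LinearMap.finrank_range_add_finrank_ker (S.disp hx)
    omega

theorem half_le_ker {h : G} {x : V} (hx : x ∈ S.nb h) :
    finrank Z2 V ≤ 2 * finrank Z2 (LinearMap.ker (S.disp hx)) := by
  have h1 := LinearMap.finrank_range_add_finrank_ker (S.disp hx)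
  have h2 := Submodule.finrank_mono (S.range_disp_le hx)
  omega

/-- The sign of a conjugate on its displacements is their value under the form. -/
theorem sign_disp {h : G} {x : V} (hx : x ∈ S.nb h) {w : V} (hw : w ∈ LinearMap.range (S.disp hx)) :
    h * S.r x * h⁻¹ * S.r w = pw S.ε (S.q w) * (S.r w * (h * S.r x * h⁻¹)) := by
  obtain ⟨y, rfl⟩ := hw
  obtain ⟨t, ht⟩ : ∃ t, t = h * S.r x * h⁻¹ := ⟨_, rfl⟩
  obtain ⟨w, hw⟩ : ∃ w, w = S.disp hx y := ⟨_, rfl⟩
  rw [← ht, ← hw]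
  obtain ⟨c, hc⟩ : ∃ c, c = t * S.r y * t⁻¹ * (S.r y)⁻¹ := ⟨_, rfl⟩
  have hcw : Peq S.ε c (S.r w) := by
    rw [hc, hw, S.disp_apply, ← ht]
    exact S.hε.trans (S.hε.mul (ht ▸ S.phi_spec hx y) (S.r_inv y)) (S.mul _ _)
  have hct : t * c * t⁻¹ = c⁻¹ := by
    have h1 : t * (t * S.r y * t⁻¹) * t⁻¹ = S.r y := by
      rw [show t * (t * S.r y * t⁻¹) * t⁻¹ = (t * t) * S.r y * (t * t)⁻¹ by simp [mul_assoc], ht, S.conj_sq,
        S.hε.pw_comm, mul_inv_cancel_right]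
    calc t * c * t⁻¹ = t * (t * S.r y * t⁻¹) * t⁻¹ * (t * (S.r y)⁻¹ * t⁻¹) := by rw [hc]; simp [mul_assoc]
      _ = c⁻¹ := by rw [h1, hc]; simp [mul_assoc]
  obtain ⟨s, hs⟩ := S.hε.exists_pw hcw
  have hinv : (S.r w)⁻¹ = pw S.ε (S.q w) * S.r w := inv_eq_of_mul_eq_one_right (by
    rw [← mul_assoc, ← S.hε.pw_comm, mul_assoc, S.sq, ← S.hε.pw_add, z2_add_self, S.hε.pw_zero])
  rw [hs, mul_inv_rev, hinv, show t * (pw S.ε s * S.r w) * t⁻¹ = pw S.ε s * (t * S.r w * t⁻¹) by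
    rw [← mul_assoc t, ← S.hε.pw_comm]; simp [mul_assoc]] at hct
  have hps : (pw S.ε s)⁻¹ = pw S.ε s := inv_eq_of_mul_eq_one_right (by
    rw [← S.hε.pw_add, z2_add_self, S.hε.pw_zero])
  rw [hps, ← S.hε.pw_comm] at hct
  have h3 := mul_left_cancel hct
  rw [← mul_assoc, ← h3, inv_mul_cancel_right]

theorem exists_isotropic {m : ℕ} (hd : finrank (ZMod 2) V = 2 * m) {W : Submodule (ZMod 2) V}
    (hW : W ≤ S.toQd.perp W) : ∀ j, finrank (ZMod 2) W + j ≤ m →
      ∃ M, W ≤ M ∧ M ≤ S.toQd.perp M ∧ finrank (ZMod 2) M = finrank (ZMod 2) W + j := by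
  intro j
  induction j with
  | zero => exact fun _ => ⟨W, le_rfl, hW, rfl⟩
  | succ j ih =>
    intro hj
    obtain ⟨M, hWM, hM, hMd⟩ := ih (by omega)
    obtain ⟨v, hv, hvM⟩ : ∃ v ∈ S.toQd.perp M, v ∉ M := by
      by_contra hcon
      push Not at hcon
      have h1 := Submodule.finrank_mono (show S.toQd.perp M ≤ M from hcon)
      rw [S.toQd.finrank_perp] at h1
      omega
    refine ⟨M ⊔ Submodule.span Z2 {v}, hWM.trans le_sup_left, ?_, ?_⟩
    · refine sup_le ?_ ((Submodule.span_singleton_le_iff_mem _ _).2 ?_)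
      · refine fun a ha => S.toQd.mem_perp.2 fun b hb => ?_
        obtain ⟨c, hc, d, hd, rfl⟩ := Submodule.mem_sup.1 hb
        rw [map_add, LinearMap.add_apply, hM ha c hc, zero_add]
        rcases mem_span_one hd with rfl | rfl
        · simp
        · rw [S.toQd.symm]; exact hv a ha
      · refine S.toQd.mem_perp.2 fun b hb => ?_
        obtain ⟨c, hc, d, hd, rfl⟩ := Submodule.mem_sup.1 hb
        rw [map_add, LinearMap.add_apply, hv c hc, zero_add]
        rcases mem_span_one hd with rfl | rfl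
        · simp
        · exact S.toQd.self_perp _
    · have hlt := Submodule.finrank_lt_finrank_of_lt
        (lt_of_le_of_ne (le_sup_left : M ≤ M ⊔ Submodule.span Z2 {v}) fun e =>
          hvM (e.symm ▸ Submodule.mem_sup_right (Submodule.mem_span_singleton_self v)))
      have h2 := Submodule.finrank_add_le_finrank_add_finrank M (Submodule.span Z2 {v})
      have h3 := Qd.finrank_span_one_le v
      omega

namespace Fus

variable {S} {H : Subgroup G} {m : ℕ} (P : S.Fus H m)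
include P

theorem r_mem (v : V) : S.r v ∈ H := P.R_le (S.r_mem v)

theorem mem_N_of_jb {h : G} (hh : h ∈ H) {w : V} (hw : w ≠ 0) (hq : S.q w = 0) (hj : w ∈ S.jb h) : h ∈ S.N := by
  obtain ⟨u, hu⟩ := hj
  have hu0 : u ≠ 0 := fun e => by
    refine hw (S.inj w ?_)
    have h1 := S.hε.conj h⁻¹ (S.hε.trans (e ▸ hu) S.r_zero)
    simpa [mul_assoc] using h1
  obtain ⟨γ, hγ, hγN, hγu⟩ := S.exists_move_singular (by have := P.dim; have := P.three; omega) P.lifts hu0
    ((S.q_of_peq hu) ▸ hq) hw hq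
  have h1 : γ * h ∈ S.N := by
    refine P.cent _ (mul_mem hγ hh) w hw hq ?_
    have h2 := S.hε.trans (S.hε.conj γ hu) (hγu ▸ S.phi_spec hγN u)
    simpa [mul_assoc] using h2
  simpa using mul_mem (inv_mem hγN) h1

theorem cent_at {h x : G} (hh : h ∈ H) (hx : x ∈ H) {v : V} (hv : v ≠ 0) (hq : S.q v = 0)
    (hc : Peq S.ε (x * (h * S.r v * h⁻¹) * x⁻¹) (h * S.r v * h⁻¹)) : h⁻¹ * x * h ∈ S.N := by
  refine P.cent _ (mul_mem (mul_mem (inv_mem hh) hx) hh) v hv hq ?_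
  have h1 := S.hε.conj h⁻¹ hc
  simpa [mul_assoc] using h1

theorem fixed_le {h : G} (hh : h ∈ H) {v : V} (hv : v ≠ 0) (hq : S.q v = 0) (hn : v ∈ S.nb h) :
    LinearMap.ker (S.disp hn) ≤ S.nb h⁻¹ := by
  intro w hw
  rw [S.mem_ker_disp] at hw
  have h1 := S.hε.conj_symm (hw ▸ S.phi_spec hn w)
  have h2 := P.cent_at hh (P.r_mem w) hv hq h1
  rw [S.mem_nb, inv_inv]
  exact h2

theorem le_finrank_nb {h : G} (hh : h ∈ H) {v : V} (hv : v ≠ 0) (hq : S.q v = 0) (hn : v ∈ S.nb h) :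
    m ≤ finrank Z2 (S.nb h⁻¹) := by
  have h1 := S.half_le_ker hn
  have h2 := Submodule.finrank_mono (P.fixed_le hh hv hq hn)
  have := P.dim
  omega

theorem key {h : G} (hh : h ∈ H) (hN : h ∉ S.N) {x e : V} (hx : x ∈ S.nb h)
    (hxj : x ∈ S.toQd.perp (S.jb h)) (he : e ∈ S.nb h⁻¹) : S.phi (h * S.r x * h⁻¹) e = e := by
  obtain ⟨t, ht⟩ : ∃ t, t = h * S.r x * h⁻¹ := ⟨_, rfl⟩
  obtain ⟨g, hg⟩ : ∃ g, g = h⁻¹ * S.r e * h := ⟨_, rfl⟩
  have hgN : g ∈ S.N := by rw [S.mem_nb, inv_inv] at he; exact hg ▸ he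
  by_contra hne
  obtain ⟨x', hx'⟩ : ∃ x', x' = x + S.phi g x := ⟨_, rfl⟩
  have h1 : Peq S.ε (h * S.r x' * h⁻¹) (S.r (S.phi t e + e)) := by
    have a1 : Peq S.ε (t * S.r e * t⁻¹ * (S.r e)⁻¹) (S.r (S.phi t e + e)) :=
      S.hε.trans (S.hε.mul (S.phi_spec (ht ▸ hx) e) (S.r_inv e)) (S.mul _ _)
    refine S.hε.trans ?_ a1
    have a2 : Peq S.ε t⁻¹ t := by
      rw [ht]
      have := S.hε.conj h (S.r_inv x)
      simpa [mul_assoc] using this
    have a3 : Peq S.ε (S.r e * t * (S.r e)⁻¹) (h * S.r (S.phi g x) * h⁻¹) := by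
      have := S.hε.conj h (S.phi_spec hgN x)
      rw [show h * (g * S.r x * g⁻¹) * h⁻¹ = S.r e * t * (S.r e)⁻¹ by rw [hg, ht]; simp [mul_assoc]] at this
      exact this
    rw [show t * S.r e * t⁻¹ * (S.r e)⁻¹ = t * (S.r e * t⁻¹ * (S.r e)⁻¹) by simp [mul_assoc]]
    refine S.hε.symm (S.hε.trans (S.hε.mul_left t (S.hε.trans (S.hε.conj _ a2) a3)) ?_)
    rw [ht, hx', show h * S.r x * h⁻¹ * (h * S.r (S.phi g x) * h⁻¹) = h * (S.r x * S.r (S.phi g x)) * h⁻¹ by
      simp [mul_assoc]]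
    exact S.hε.conj h (S.mul _ _)
  have hj : x' ∈ S.jb h := ⟨_, h1⟩
  have hx0 : x' ≠ 0 := fun e0 => by
    have h3 : Peq S.ε (h * S.r x' * h⁻¹) 1 := by rw [e0]; simpa using S.hε.conj h S.r_zero
    exact hne (ht ▸ vadd_eq_zero (S.inj _ (S.hε.trans (S.hε.symm h1) h3)))
  refine hN (P.mem_N_of_jb hh hx0 ?_ hj)
  have h2 : S.q (x + x') = S.q x := by
    rw [hx', ← add_assoc, vadd_self, zero_add, S.q_phi hgN]
  rw [S.polar, S.toQd.symm, hxj x' hj, add_zero] at h2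
  exact add_eq_left.1 h2

theorem good {h : G} (hh : h ∈ H) (hN : h ∉ S.N) {x : V} (hx : x ∈ S.nb h)
    (hxj : x ∈ S.toQd.perp (S.jb h))
    (ha : ∃ a ∈ S.jb h, x + a ≠ 0 ∧ S.q (x + a) = 0) : LinearMap.ker (S.disp hx) = S.nb h⁻¹ := by
  obtain ⟨a, ha, ha0, haq⟩ := ha
  refine le_antisymm (fun w hw => ?_) fun w hw => (S.mem_ker_disp hx).2 (P.key hh hN hx hxj hw)
  have hxa : x + a ∈ S.nb h := add_mem hx (S.jb_le_nb h ha)
  refine P.fixed_le hh ha0 haq hxa ((S.mem_ker_disp hxa).2 ?_)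
  rw [S.mem_ker_disp] at hw
  refine S.phi_eq (S.hε.trans ?_ (hw ▸ S.phi_spec hx w))
  obtain ⟨a', ha'⟩ := ha
  have h1 : Peq S.ε (h * S.r (x + a) * h⁻¹) (h * S.r x * h⁻¹ * S.r a') := by
    refine S.hε.trans (S.hε.conj h (S.hε.symm (S.mul x a))) ?_
    rw [show h * (S.r x * S.r a) * h⁻¹ = h * S.r x * h⁻¹ * (h * S.r a * h⁻¹) by simp [mul_assoc]]
    exact S.hε.mul_left _ ha'
  refine S.hε.trans (S.hε.mul (S.hε.mul_right _ h1) (S.hε.inv h1)) ?_
  have := S.hε.conj (h * S.r x * h⁻¹) (S.conj_r a' w)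
  simpa [mul_assoc] using this

theorem finrank_jb {h : G} (hh : h ∈ H) (hN : h ∉ S.N) : finrank Z2 (S.jb h) ≤ 2 := by
  by_contra hlt
  obtain ⟨x, hx, hx0, hq⟩ := S.toQd.exists_singular (W := S.jb h) (by omega)
  exact hN (P.mem_N_of_jb hh hx0 hq hx)

theorem jb_two {h : G} (hh : h ∈ H) (hN : h ∉ S.N) {a b : V} (ha : a ∈ S.jb h) (hb : b ∈ S.jb h) (ha0 : a ≠ 0)
    (hb0 : b ≠ 0) (hab : a ≠ b) : S.B a b = 1 := by
  have hq : ∀ c ∈ S.jb h, c ≠ 0 → S.q c = 1 := fun c hc hc0 => z2_eq_one fun e => hN (P.mem_N_of_jb hh hc0 e hc)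
  have h1 := hq _ (add_mem ha hb) (fun e => hab (vadd_eq_zero e))
  rw [S.polar, hq a ha ha0, hq b hb hb0] at h1
  exact (zero_add _).symm.trans h1

theorem coisotropic {h : G} (hh : h ∈ H) (hN : h ∉ S.N) (hs : ∃ v ∈ S.nb h, v ≠ 0 ∧ S.q v = 0) :
    S.toQd.perp (S.nb h⁻¹) ≤ S.nb h⁻¹ := by
  obtain ⟨v, hv, hv0, hvq⟩ := hs
  suffices ∃ x ∈ S.nb h, x ∈ S.toQd.perp (S.jb h) ∧ ∃ a ∈ S.jb h, x + a ≠ 0 ∧ S.q (x + a) = 0 by
    obtain ⟨x, hx, hxj, ha⟩ := this
    have h1 := P.good hh hN hx hxj ha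
    exact h1 ▸ S.range_disp hx ▸ S.range_disp_le hx
  by_cases hJ : S.jb h = ⊥
  · exact ⟨v, hv, fun w hw => by rw [hJ, Submodule.mem_bot] at hw; simp [hw], 0, zero_mem _,
      by rwa [add_zero], by rwa [add_zero]⟩
  obtain ⟨a, ha, ha0⟩ := Submodule.exists_mem_ne_zero_of_ne_bot hJ
  have hUm : m ≤ finrank Z2 (S.nb h) := by
    obtain ⟨w, hw, hw0, hwq⟩ := S.toQd.exists_singular (W := S.nb h⁻¹) (by
      have := P.le_finrank_nb hh hv0 hvq hv; have := P.three; omega)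
    have := P.le_finrank_nb (inv_mem hh) hw0 hwq hw
    rwa [inv_inv] at this
  obtain ⟨x, hx, hxJ⟩ : ∃ x ∈ S.nb h ⊓ S.toQd.perp (S.jb h), x ∉ S.jb h := by
    by_contra hcon
    push Not at hcon
    have hle : S.nb h ⊓ S.toQd.perp (S.jb h) ≤ S.jb h := hcon
    have h1 := Submodule.finrank_sup_add_finrank_inf_eq (S.nb h) (S.toQd.perp (S.jb h))
    have h2 := Submodule.finrank_le (S.nb h ⊔ S.toQd.perp (S.jb h))
    have h3 := S.toQd.finrank_perp (S.jb h)
    have h4 := P.finrank_jb hh hN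
    have h5 := P.three
    have h6 := P.dim
    have h7 := Submodule.finrank_mono hle
    have h8 : finrank Z2 (S.jb h) = 2 → finrank Z2 ↥(S.nb h ⊓ S.toQd.perp (S.jb h)) = 0 := fun e => by
      rw [Submodule.finrank_eq_zero, eq_bot_iff]
      intro y hy
      by_contra hy0
      obtain ⟨b, hb, hb'⟩ : ∃ b ∈ S.jb h, b ∉ Submodule.span Z2 {y} := by
        by_contra hcon'
        push Not at hcon'
        have := Submodule.finrank_mono (show S.jb h ≤ Submodule.span Z2 {y} from hcon')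
        have := Qd.finrank_span_one_le y
        omega
      have h9 := P.jb_two hh hN hb (hle hy) (fun e => hb' (e ▸ zero_mem _)) hy0
        (fun e => hb' (e ▸ Submodule.mem_span_singleton_self b))
      exact zero_ne_one ((hy.2 b hb).symm.trans h9)
    omega
  refine ⟨x, hx.1, hx.2, ?_⟩
  by_cases hqx : S.q x = 0
  · exact ⟨0, zero_mem _, by rw [add_zero]; exact fun e => hxJ (e ▸ zero_mem _), by rwa [add_zero]⟩
  · refine ⟨a, ha, fun e => hxJ (vadd_eq_zero e ▸ ha), ?_⟩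
    rw [S.polar, z2_eq_one hqx, z2_eq_one (fun e => hN (P.mem_N_of_jb hh ha0 e ha)), S.toQd.symm, hx.2 a ha]
    rfl

/-- A space of vectors all of whose displacement kernels are the same. -/
theorem exists_family {h : G} (hh : h ∈ H) (hN : h ∉ S.N) (hU : S.toQd.perp (S.nb h) ≤ S.nb h)
    (hUm : m ≤ finrank Z2 (S.nb h)) :
    ∃ W : Submodule (ZMod 2) V, m ≤ finrank Z2 W + 1 ∧ W ≤ S.nb h ⊓ S.toQd.perp (S.jb h) ∧
      ∀ x ∈ W, x ≠ 0 → ∃ a ∈ S.jb h, x + a ≠ 0 ∧ S.q (x + a) = 0 := by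
  have hd := P.dim
  by_cases hJ : S.jb h = ⊥
  · have hperp : finrank Z2 (S.toQd.perp (S.nb h)) ≤ m := by rw [S.toQd.finrank_perp]; omega
    obtain ⟨M, hWM, hM, hMd⟩ := S.exists_isotropic hd (W := S.toQd.perp (S.nb h))
      (hU.trans (S.toQd.perp_perp _).ge) (m - finrank Z2 (S.toQd.perp (S.nb h))) (by omega)
    have hMU : M ≤ S.nb h := hM.trans ((S.toQd.perp_anti hWM).trans (S.toQd.perp_perp _).le)
    obtain ⟨K, hK⟩ : ∃ K : Submodule Z2 V, ∀ x, x ∈ K ↔ x ∈ M ∧ S.q x = 0 :=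
      ⟨{ carrier := {x | x ∈ M ∧ S.q x = 0}
         zero_mem' := ⟨zero_mem _, S.toQd.q_zero⟩
         add_mem' := fun {a b} ha hb => ⟨add_mem ha.1 hb.1, by
           rw [S.polar, ha.2, hb.2, hM hb.1 a ha.1]; rfl⟩
         smul_mem' := fun c x hx => by
           rcases z2_smul c x with e | e <;> rw [e]
           · exact ⟨zero_mem _, S.toQd.q_zero⟩
           · exact hx }, fun _ => Iff.rfl⟩
    refine ⟨K, ?_, fun x hx => ⟨hMU ((hK x).1 hx).1, fun w hw => ?_⟩, fun x hx hx0 => ⟨0, zero_mem _, ?_, ?_⟩⟩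
    · by_cases hall : ∀ x ∈ M, S.q x = 0
      · have := Submodule.finrank_mono (show M ≤ K from fun x hx => (hK x).2 ⟨hx, hall x hx⟩)
        omega
      push Not at hall
      obtain ⟨a, haM, haq⟩ := hall
      have hle : M ≤ K ⊔ Submodule.span Z2 {a} := fun x hx => by
        rcases z2_cases (S.q x) with e | e
        · exact Submodule.mem_sup_left ((hK x).2 ⟨hx, e⟩)
        · rw [show x = (x + a) + a by rw [add_assoc, vadd_self, add_zero]]
          refine add_mem (Submodule.mem_sup_left ((hK _).2 ⟨add_mem hx haM, ?_⟩))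
            (Submodule.mem_sup_right (Submodule.mem_span_singleton_self a))
          rw [S.polar, e, z2_eq_one haq, hM haM x hx]; rfl
      have h1 := Submodule.finrank_mono hle
      have h2 := Submodule.finrank_add_le_finrank_add_finrank K (Submodule.span Z2 {a})
      have h3 := Qd.finrank_span_one_le a
      omega
    · rw [hJ, Submodule.mem_bot] at hw
      simp [hw]
    · rwa [add_zero]
    · rw [add_zero]; exact ((hK x).1 hx).2
  obtain ⟨a, ha, ha0⟩ := Submodule.exists_mem_ne_zero_of_ne_bot hJ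
  obtain ⟨U1, hU1⟩ : ∃ U1, U1 = S.nb h ⊓ S.toQd.perp (S.jb h) := ⟨_, rfl⟩
  obtain ⟨C, hC⟩ := (Submodule.comap U1.subtype (S.jb h)).exists_isCompl
  have hCc := Submodule.finrank_add_eq_of_isCompl hC
  have hmap : finrank Z2 (Submodule.comap U1.subtype (S.jb h)) = finrank Z2 ↥(U1 ⊓ S.jb h) := by
    rw [← Submodule.map_comap_subtype U1 (S.jb h),
      Submodule.finrank_map_subtype_eq]
  refine ⟨C.map U1.subtype, ?_, ?_, ?_⟩
  · rw [Submodule.finrank_map_subtype_eq]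
    have h1 := Submodule.finrank_sup_add_finrank_inf_eq (S.nb h) (S.toQd.perp (S.jb h))
    have h2 := Submodule.finrank_le (S.nb h ⊔ S.toQd.perp (S.jb h))
    have h3 := S.toQd.finrank_perp (S.jb h)
    have h4 := P.finrank_jb hh hN
    have h5 : finrank Z2 ↥(U1 ⊓ S.jb h) ≤ finrank Z2 (S.jb h) := Submodule.finrank_mono inf_le_right
    have h6 : finrank Z2 (S.jb h) = 2 → finrank Z2 ↥(U1 ⊓ S.jb h) = 0 := fun e => by
      rw [Submodule.finrank_eq_zero, eq_bot_iff]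
      intro y hy
      by_contra hy0
      obtain ⟨b, hb, hb'⟩ : ∃ b ∈ S.jb h, b ∉ Submodule.span Z2 {y} := by
        by_contra hcon'
        push Not at hcon'
        have := Submodule.finrank_mono (show S.jb h ≤ Submodule.span Z2 {y} from hcon')
        have := Qd.finrank_span_one_le y
        omega
      have h9 := P.jb_two hh hN hb hy.2 (fun e => hb' (e ▸ zero_mem _)) hy0
        (fun e => hb' (e ▸ Submodule.mem_span_singleton_self b))
      exact zero_ne_one (((hU1 ▸ hy.1 : y ∈ S.nb h ⊓ S.toQd.perp (S.jb h)).2 b hb).symm.trans h9)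
    have hjpos : 1 ≤ finrank Z2 (S.jb h) := by
      rw [Nat.one_le_iff_ne_zero, ne_eq, Submodule.finrank_eq_zero]; exact hJ
    -- if the space has the smallest dimension it is perpendicular to the labelled part
    have hmin : finrank Z2 (S.nb h) = m → S.nb h ≤ S.toQd.perp (S.jb h) := fun e => by
      have heq : S.toQd.perp (S.nb h) = S.nb h := Submodule.eq_of_le_of_finrank_le hU (by
        rw [S.toQd.finrank_perp]; omega)
      refine S.toQd.le_perp_comm (fun y hy => ?_)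
      rw [heq]; exact S.jb_le_nb h hy
    have hsmall : finrank Z2 (S.nb h) = m → finrank Z2 (S.jb h) ≤ 1 ∧ finrank Z2 U1 = m := fun e => by
      have hle := hmin e
      refine ⟨?_, by rw [hU1, inf_eq_left.2 hle, e]⟩
      by_contra hlt
      have h8 : U1 ⊓ S.jb h = S.jb h := inf_eq_right.2 (hU1 ▸ le_inf (S.jb_le_nb h)
        ((S.jb_le_nb h).trans hle))
      have := h6 (by omega)
      rw [h8] at this
      omega
    rw [hmap] at hCc
    have e3 : finrank Z2 U1 = finrank Z2 ↥(S.nb h ⊓ S.toQd.perp (S.jb h)) := by rw [hU1]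
    rcases eq_or_ne (finrank Z2 (S.nb h)) m with e | e
    · obtain ⟨e1, e2⟩ := hsmall e
      omega
    · omega
  · rintro _ ⟨y, -, rfl⟩
    exact hU1 ▸ y.2
  · rintro _ ⟨y, hy, rfl⟩ hx0
    have hyJ : (y : V) ∉ S.jb h := fun e => hx0 (by
      rw [(Submodule.disjoint_def.1 hC.disjoint) y e hy]; rfl)
    by_cases hqx : S.q (y : V) = 0
    · exact ⟨0, zero_mem _, by rwa [add_zero], by rwa [add_zero]⟩
    · refine ⟨a, ha, fun e => hyJ (by rw [show (y : V) = a from vadd_eq_zero e]; exact ha), ?_⟩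
      rw [Submodule.subtype_apply, S.polar, z2_eq_one hqx, z2_eq_one (fun e => hN (P.mem_N_of_jb hh ha0 e ha)),
        S.toQd.symm, (hU1 ▸ y.2 : (y : V) ∈ S.nb h ⊓ S.toQd.perp (S.jb h)).2 a ha]
      rfl

theorem sign_add {h : G} {x y w : V} {a b : ZMod 2}
    (hx : h * S.r x * h⁻¹ * S.r w = pw S.ε a * (S.r w * (h * S.r x * h⁻¹)))
    (hy : h * S.r y * h⁻¹ * S.r w = pw S.ε b * (S.r w * (h * S.r y * h⁻¹))) :
    h * S.r (x + y) * h⁻¹ * S.r w = pw S.ε (a + b) * (S.r w * (h * S.r (x + y) * h⁻¹)) := by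
  refine S.hε.comm_sign_peq ?_ (S.hε.refl _) (S.hε.comm_sign_mul hx hy)
  rw [show h * S.r x * h⁻¹ * (h * S.r y * h⁻¹) = h * (S.r x * S.r y) * h⁻¹ by simp [mul_assoc]]
  exact S.hε.conj h (S.mul x y)

theorem mem_N_of_nb {h : G} (hh : h ∈ H) {v : V} (hv : v ≠ 0) (hq : S.q v = 0) (hn : v ∈ S.nb h) : h ∈ S.N := by
  by_contra hN
  have hN' : h⁻¹ ∉ S.N := fun e => hN (by simpa using inv_mem e)
  have hm := P.three
  have hd := P.dim
  have hT : m ≤ finrank Z2 (S.nb h⁻¹) := P.le_finrank_nb hh hv hq hn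
  obtain ⟨w₀, hw₀, hw₀0, hw₀q⟩ := S.toQd.exists_singular (W := S.nb h⁻¹) (by omega)
  have hU : m ≤ finrank Z2 (S.nb h) := inv_inv h ▸ P.le_finrank_nb (inv_mem hh) hw₀0 hw₀q hw₀
  have hUc : S.toQd.perp (S.nb h) ≤ S.nb h := by
    exact inv_inv h ▸ P.coisotropic (inv_mem hh) hN' ⟨w₀, hw₀, hw₀0, hw₀q⟩
  have hTc := P.coisotropic hh hN ⟨v, hn, hv, hq⟩
  obtain ⟨W, hWd, hWle, hWa⟩ := P.exists_family hh hN hUc hU
  have hker : ∀ x (hx : x ∈ W), x ≠ 0 → LinearMap.ker (S.disp (hWle hx).1) = S.nb h⁻¹ := fun x hx hx0 =>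
    P.good hh hN (hWle hx).1 (hWle hx).2 (hWa x hx hx0)
  have hrange : ∀ x (hx : x ∈ W), x ≠ 0 → LinearMap.range (S.disp (hWle hx).1) = S.toQd.perp (S.nb h⁻¹) :=
    fun x hx hx0 => by rw [S.range_disp, hker x hx hx0]
  -- the form vanishes on the common space of displacements
  obtain ⟨x₁, hx₁, hx₁0⟩ := Submodule.exists_mem_ne_zero_of_ne_bot (p := W) fun e => by
    rw [e, finrank_bot] at hWd; omega
  obtain ⟨x₂, hx₂, hx₂s⟩ : ∃ x ∈ W, x ∉ Submodule.span Z2 {x₁} := by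
    by_contra hcon
    push Not at hcon
    have := Submodule.finrank_mono (show W ≤ Submodule.span Z2 {x₁} from hcon)
    have := Qd.finrank_span_one_le x₁
    omega
  have hx₂0 : x₂ ≠ 0 := fun e => hx₂s (e ▸ zero_mem _)
  have h12 : x₁ + x₂ ≠ 0 := fun e => hx₂s (vadd_eq_zero e ▸ Submodule.mem_span_singleton_self x₁)
  have hq0 : ∀ w ∈ S.toQd.perp (S.nb h⁻¹), S.q w = 0 := fun w hw => by
    have s1 := S.sign_disp (hWle hx₁).1 (hrange x₁ hx₁ hx₁0 ▸ hw)
    have s2 := S.sign_disp (hWle hx₂).1 (hrange x₂ hx₂ hx₂0 ▸ hw)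
    have s3 := S.sign_disp (hWle (add_mem hx₁ hx₂)).1 (hrange _ (add_mem hx₁ hx₂) h12 ▸ hw)
    have := S.hε.comm_sign_unique s3 (sign_add P s1 s2)
    rwa [z2_add_self] at this
  -- the alternating forms
  obtain ⟨C, hC⟩ := (S.nb h⁻¹).exists_isCompl
  obtain ⟨d, hd'⟩ : ∃ d, d = finrank Z2 C := ⟨_, rfl⟩
  have hdm : d ≤ m := by have := Submodule.finrank_add_eq_of_isCompl hC; omega
  have hd0 : 0 < d := by
    rcases Nat.eq_zero_or_pos d with e | e
    · exfalso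
      have hC0 : C = ⊥ := Submodule.finrank_eq_zero.1 (hd'.symm.trans e)
      have htop : S.nb h⁻¹ = ⊤ := eq_top_of_isCompl_bot (hC0 ▸ hC)
      have hR := S.mem_R_of_phi (hWle hx₁).1 fun y => (S.mem_ker_disp (hWle hx₁).1).1 (by
        rw [hker x₁ hx₁ hx₁0, htop]; trivial)
      obtain ⟨a, ha, ha0, haq⟩ := hWa x₁ hx₁ hx₁0
      exact hN (P.mem_N_of_jb hh ha0 haq (add_mem hR ha))
    · exact e
  obtain ⟨b⟩ : Nonempty (Basis (Fin d) Z2 C) := ⟨(Module.finBasis Z2 C).reindex (finCongr hd'.symm)⟩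
  have hphi : ∀ (x y : V), x ∈ W → y ∈ W → ∀ z, S.phi (h * S.r (x + y) * h⁻¹) z + z =
      (S.phi (h * S.r x * h⁻¹) z + z) + (S.phi (h * S.r y * h⁻¹) z + z) := by
    intro x y hx hy z
    rcases eq_or_ne x 0 with rfl | hx0
    · rw [zero_add, S.phi_of_mem_R (g := h * S.r 0 * h⁻¹) (S.jb h).zero_mem, vadd_self, zero_add]
    obtain ⟨u, hu⟩ : ∃ u, u = S.phi (h * S.r y * h⁻¹) z + z := ⟨_, rfl⟩
    have hfix : S.phi (h * S.r x * h⁻¹) u = u := by
      rcases eq_or_ne y 0 with rfl | hy0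
      · rw [hu, S.phi_of_mem_R (g := h * S.r 0 * h⁻¹) (S.jb h).zero_mem, vadd_self, S.phi_zero (hWle hx).1]
      · refine (S.mem_ker_disp (hWle hx).1).1 (hker x hx hx0 ▸ hTc ?_)
        rw [← hrange y hy hy0]
        exact ⟨z, hu.symm⟩
    have e1 : S.phi (h * S.r (x + y) * h⁻¹) z = S.phi (h * S.r x * h⁻¹) (S.phi (h * S.r y * h⁻¹) z) := by
      rw [← S.phi_mul (hWle hx).1 (hWle hy).1]
      refine S.phi_eq ?_
      have e : Peq S.ε (h * S.r (x + y) * h⁻¹) (h * S.r x * h⁻¹ * (h * S.r y * h⁻¹)) := by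
        rw [show h * S.r x * h⁻¹ * (h * S.r y * h⁻¹) = h * (S.r x * S.r y) * h⁻¹ by simp [mul_assoc]]
        exact S.hε.conj h (S.hε.symm (S.mul x y))
      exact S.hε.trans (S.hε.mul (S.hε.mul_right _ e) (S.hε.inv e))
        (S.phi_spec (mul_mem (hWle hx).1 (hWle hy).1) z)
    rw [show S.phi (h * S.r y * h⁻¹) z = u + z by rw [hu, add_assoc, vadd_self, add_zero],
      S.phi_add (hWle hx).1, hfix] at e1
    rw [e1, ← hu]; abel
  obtain ⟨A, hA⟩ : ∃ A : W →ₗ[Z2] Matrix (Fin d) (Fin d) Z2, ∀ x i j,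
      A x i j = S.B (b i : V) (S.phi (h * S.r (x : V) * h⁻¹) (b j) + b j) := by
    refine ⟨{ toFun := fun x => Matrix.of fun i j => S.B (b i : V) (S.phi (h * S.r (x : V) * h⁻¹) (b j) + b j)
              map_add' := fun x y => ?_
              map_smul' := fun c x => ?_ }, fun _ _ _ => rfl⟩
    · refine Matrix.ext fun i j => ?_
      rw [Matrix.add_apply, Matrix.of_apply, Matrix.of_apply, Matrix.of_apply, Submodule.coe_add, hphi x y x.2 y.2, map_add]
    · refine Matrix.ext fun i j => ?_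
      rw [RingHom.id_apply, Matrix.smul_apply, Matrix.of_apply, Matrix.of_apply, smul_eq_mul]
      rcases z2_cases c with rfl | rfl
      · rw [zero_smul, Submodule.coe_zero, S.phi_of_mem_R (g := h * S.r 0 * h⁻¹) (S.jb h).zero_mem, vadd_self,
          map_zero, zero_mul]
      · rw [one_smul, one_mul]
  have hsymm : ∀ x i j, A x i j = A x j i := fun x i j => by
    rw [hA, hA, map_add, map_add, S.toQd.symm (b j : V) (b i)]
    congr 1
    have hx := (hWle x.2).1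
    rw [← S.B_phi hx, S.phi_phi_self hx, S.toQd.symm]
  have hdiag : ∀ x i, A x i i = 0 := fun x i => by
    rw [hA]
    obtain ⟨c, hc⟩ : ∃ c, c = S.phi (h * S.r (x : V) * h⁻¹) (b i) + b i := ⟨_, rfl⟩
    have hx := (hWle x.2).1
    have hqc : S.q c = 0 := by
      rcases eq_or_ne (x : V) 0 with e | e
      · rw [hc, e, S.phi_of_mem_R (g := h * S.r 0 * h⁻¹) (S.jb h).zero_mem, vadd_self, S.toQd.q_zero]
      · refine hq0 c ?_
        rw [← hrange x x.2 e, hc]
        exact ⟨b i, rfl⟩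
    have h1 := S.q_phi hx (b i : V)
    rw [show S.phi (h * S.r (x : V) * h⁻¹) (b i) = c + b i by rw [hc, add_assoc, vadd_self, add_zero], S.polar, hqc,
      zero_add, add_eq_left, S.toQd.symm] at h1
    rw [← hc]; exact h1
  have hdet : ∀ x, x ≠ 0 → (A x).det ≠ 0 := fun x hx0 hdet => by
    obtain ⟨v', hv'0, hv'⟩ := Matrix.exists_mulVec_eq_zero_iff.2 hdet
    obtain ⟨z, hz⟩ : ∃ z : V, z = ∑ j, v' j • (b j : V) := ⟨_, rfl⟩
    have hx0' : (x : V) ≠ 0 := fun e => hx0 (Subtype.ext e)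
    have hzC : z ∈ C := hz ▸ Submodule.sum_mem _ fun j _ => Submodule.smul_mem _ _ (b j).2
    obtain ⟨c, hc⟩ : ∃ c, c = S.disp (hWle x.2).1 z := ⟨_, rfl⟩
    have hcperp : c ∈ S.toQd.perp (S.nb h⁻¹) := by rw [← hrange x x.2 hx0', hc]; exact ⟨z, rfl⟩
    have hcb : ∀ i, S.B (b i : V) c = 0 := fun i => by
      have := congrFun hv' i
      simp only [Matrix.mulVec, dotProduct, Pi.zero_apply, hA] at this
      rw [hc, hz, map_sum, map_sum, ← this]
      refine Finset.sum_congr rfl fun j _ => ?_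
      rw [map_smul, map_smul, smul_eq_mul, mul_comm, S.disp_apply]
    have hc0 : c = 0 := S.sep c fun w => by
      have hw : w ∈ S.nb h⁻¹ ⊔ C := by rw [hC.sup_eq_top]; trivial
      obtain ⟨p, hp, r, hr, rfl⟩ := Submodule.mem_sup.1 hw
      rw [map_add, S.toQd.symm c p, hcperp p hp, zero_add]
      have hrsum : r = ((∑ i, b.repr ⟨r, hr⟩ i • b i : C) : V) := congrArg Subtype.val (b.sum_repr ⟨r, hr⟩).symm
      rw [hrsum, Submodule.coe_sum, map_sum]
      exact Finset.sum_eq_zero fun i _ => by rw [Submodule.coe_smul, map_smul, S.toQd.symm, hcb, smul_zero]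
    have hzk : z ∈ S.nb h⁻¹ := by
      rw [← hker x x.2 hx0', LinearMap.mem_ker, ← hc, hc0]
    have hz0 := (Submodule.disjoint_def.1 hC.disjoint) z hzk hzC
    rw [hz] at hz0
    exact hv'0 (funext fun j => Fintype.linearIndependent_iff.1
      (b.linearIndependent.map' C.subtype C.ker_subtype) v' (by simpa using hz0) j)
  have := alt_family_le hd0 A hsymm hdiag hdet
  omega

end Fus

end GSys

end Cfsg.Agent.Classical.CliffordTwo
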