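import Cfsg.Agent.Lib.Classical.CliffordTwo.Peq

/-!
A group with an extraspecial 2-subgroup labelled by a quadratic space, its normaliser and the action on the space.
-/

set_option autoImplicit false
set_option linter.unusedSectionVars false

namespace Cfsg.Agent.Classical.CliffordTwo

open Module

local notation "Z2" => ZMod 2

/-- Labelled extraspecial elements in a group. -/
structure GSys (G : Type*) [Group G] (V : Type*) [AddCommGroup V] [Module (ZMod 2) V] extends Qd V where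
  ε : G
  hε : CInv ε
  r : V → G
  mul : ∀ v w, Peq ε (r v * r w) (r (v + w))
  comm : ∀ v w, r v * r w = pw ε (B v w) * (r w * r v)
  sq : ∀ v, r v * r v = pw ε (q v)
  inj : ∀ v, Peq ε (r v) 1 → v = 0
  full : ∀ g : G, (∀ v, Peq ε (g * r v * g⁻¹) (r v)) → ∃ v, Peq ε g (r v)

namespace GSys

variable {G : Type*} [Group G] {V : Type*} [AddCommGroup V] [Module (ZMod 2) V] (S : GSys G V)

local notation "≈ₑ" => Peq S.ε

theorem r_zero : Peq S.ε (S.r 0) 1 := by
  have h := S.hε.mul_right (S.r 0)⁻¹ (S.mul 0 0)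
  rw [add_zero, mul_inv_cancel_right, mul_inv_cancel] at h
  exact h

theorem r_inv (v : V) : Peq S.ε (S.r v)⁻¹ (S.r v) := by
  have h : Peq S.ε (S.r v * S.r v) 1 := by rw [S.sq]; exact S.hε.pw_peq _
  have h1 := S.hε.mul_right (S.r v)⁻¹ h
  rw [mul_inv_cancel_right, one_mul] at h1
  exact S.hε.symm h1

theorem inv_mul_r (v : V) : Peq S.ε (S.r v * S.r v) 1 := by rw [S.sq]; exact S.hε.pw_peq _

theorem r_inj {v w : V} (h : Peq S.ε (S.r v) (S.r w)) : v = w := by
  refine vadd_eq_zero (S.inj _ ?_)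
  refine S.hε.trans (S.hε.symm (S.mul v w)) ?_
  exact S.hε.trans (S.hε.mul_right _ h) (S.inv_mul_r w)

theorem conj_r (u v : V) : Peq S.ε (S.r u * S.r v * (S.r u)⁻¹) (S.r v) :=
  S.hε.conj_of_comm_sign (S.comm u v)

theorem q_of_peq {g : G} {v w : V} (h : Peq S.ε (g * S.r v * g⁻¹) (S.r w)) : S.q v = S.q w := by
  obtain ⟨s, hs⟩ := S.hε.exists_pw h
  have e : g * (S.r v * S.r v) * g⁻¹ = (g * S.r v * g⁻¹) * (g * S.r v * g⁻¹) := by simp [mul_assoc]
  rw [hs, S.sq, S.hε.conj_pw, mul_assoc, ← mul_assoc (S.r w), ← S.hε.pw_comm, mul_assoc (pw S.ε s) (S.r w),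
    S.sq, ← S.hε.pw_add, ← S.hε.pw_add, ← add_assoc, z2_add_self, zero_add] at e
  exact S.hε.pw_inj e

theorem B_of_peq {g : G} {v v' w w' : V} (h : Peq S.ε (g * S.r v * g⁻¹) (S.r w))
    (h' : Peq S.ε (g * S.r v' * g⁻¹) (S.r w')) : S.B v v' = S.B w w' :=
  S.hε.comm_sign_unique (S.hε.comm_sign_peq h h' (S.hε.comm_sign_conj (S.comm v v'))) (S.comm w w')

/-- The labelled elements up to `ε`. -/
def R : Subgroup G where
  carrier := {g | ∃ v, Peq S.ε g (S.r v)}
  one_mem' := ⟨0, S.hε.symm S.r_zero⟩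
  mul_mem' := by
    rintro a b ⟨v, hv⟩ ⟨w, hw⟩
    exact ⟨v + w, S.hε.trans (S.hε.mul hv hw) (S.mul v w)⟩
  inv_mem' := by
    rintro a ⟨v, hv⟩
    exact ⟨v, S.hε.trans (S.hε.inv hv) (S.r_inv v)⟩

theorem mem_R {g : G} : g ∈ S.R ↔ ∃ v, Peq S.ε g (S.r v) := Iff.rfl

theorem r_mem (v : V) : S.r v ∈ S.R := ⟨v, S.hε.refl _⟩

theorem eps_mem_R : S.ε ∈ S.R := ⟨0, S.hε.trans (Or.inr (mul_one _).symm) (S.hε.symm S.r_zero)⟩

variable [Finite V]

/-- The normaliser. -/
def N : Subgroup G where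
  carrier := {g | ∀ v, ∃ w, Peq S.ε (g * S.r v * g⁻¹) (S.r w)}
  one_mem' v := ⟨v, by simp [S.hε.refl]⟩
  mul_mem' := by
    intro a b ha hb v
    obtain ⟨w, hw⟩ := hb v
    obtain ⟨x, hx⟩ := ha w
    refine ⟨x, S.hε.trans ?_ hx⟩
    have := S.hε.conj a hw
    simpa [mul_assoc] using this
  inv_mem' := by
    intro a ha v
    choose f hf using ha
    have hinj : Function.Injective f := fun x y e => S.r_inj (by
      have h := S.hε.conj a⁻¹ (S.hε.trans (e ▸ hf x) (S.hε.symm (hf y)))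
      simpa [mul_assoc] using h)
    obtain ⟨w, hw⟩ := (Finite.injective_iff_surjective.1 hinj) v
    refine ⟨w, ?_⟩
    have h := S.hε.conj a⁻¹ (hw ▸ hf w)
    exact S.hε.symm (by simpa [mul_assoc] using h)

theorem mem_N {g : G} : g ∈ S.N ↔ ∀ v, ∃ w, Peq S.ε (g * S.r v * g⁻¹) (S.r w) := Iff.rfl

theorem R_le_N : S.R ≤ S.N := by
  rintro g ⟨u, hu⟩ v
  refine ⟨v, S.hε.trans ?_ (S.conj_r u v)⟩
  exact S.hε.mul (S.hε.mul_right _ hu) (S.hε.inv hu)

theorem eps_mem_N : S.ε ∈ S.N := S.R_le_N S.eps_mem_R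

theorem r_mem_N (v : V) : S.r v ∈ S.N := S.R_le_N (S.r_mem v)

/-- The action on the quadratic space. -/
noncomputable def phi (g : G) (v : V) : V :=
  @_root_.Classical.epsilon V ⟨0⟩ fun w => Peq S.ε (g * S.r v * g⁻¹) (S.r w)

theorem phi_eq {g : G} {v w : V} (h : Peq S.ε (g * S.r v * g⁻¹) (S.r w)) : S.phi g v = w :=
  S.r_inj (S.hε.trans (S.hε.symm (@_root_.Classical.epsilon_spec V
    (fun x => Peq S.ε (g * S.r v * g⁻¹) (S.r x)) ⟨w, h⟩)) h)

theorem phi_spec {g : G} (hg : g ∈ S.N) (v : V) : Peq S.ε (g * S.r v * g⁻¹) (S.r (S.phi g v)) := by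
  obtain ⟨w, hw⟩ := hg v
  rwa [S.phi_eq hw]

theorem phi_of_comm {g : G} {v : V} (h : Peq S.ε (g * S.r v * g⁻¹) (S.r v)) : S.phi g v = v := S.phi_eq h

theorem phi_add {g : G} (hg : g ∈ S.N) (v w : V) : S.phi g (v + w) = S.phi g v + S.phi g w := by
  refine S.phi_eq (S.hε.trans (S.hε.conj g (S.hε.symm (S.mul v w))) ?_)
  have h := S.hε.mul (S.phi_spec hg v) (S.phi_spec hg w)
  rw [show g * S.r v * g⁻¹ * (g * S.r w * g⁻¹) = g * (S.r v * S.r w) * g⁻¹ by simp [mul_assoc]] at h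
  exact S.hε.trans h (S.mul _ _)

theorem phi_zero {g : G} (hg : g ∈ S.N) : S.phi g 0 = 0 := by
  have h := S.phi_add hg 0 0
  rwa [add_zero, vadd_self] at h

/-- The action as a linear map. -/
noncomputable def phiL {g : G} (hg : g ∈ S.N) : V →ₗ[ZMod 2] V where
  toFun := S.phi g
  map_add' := S.phi_add hg
  map_smul' c v := by
    rcases z2_cases c with rfl | rfl
    · simp [S.phi_zero hg]
    · simp

theorem phiL_apply {g : G} (hg : g ∈ S.N) (v : V) : S.phiL hg v = S.phi g v := rfl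

theorem phi_mul {g h : G} (hg : g ∈ S.N) (hh : h ∈ S.N) (v : V) : S.phi (g * h) v = S.phi g (S.phi h v) := by
  refine S.phi_eq (S.hε.trans ?_ (S.phi_spec hg _))
  have := S.hε.conj g (S.phi_spec hh v)
  simpa [mul_assoc] using this

theorem phi_one (v : V) : S.phi 1 v = v := S.phi_eq (by simp [S.hε.refl])

theorem phi_inv_phi {g : G} (hg : g ∈ S.N) (v : V) : S.phi g⁻¹ (S.phi g v) = v := by
  rw [← S.phi_mul (inv_mem hg) hg, inv_mul_cancel, S.phi_one]

theorem phi_phi_inv {g : G} (hg : g ∈ S.N) (v : V) : S.phi g (S.phi g⁻¹ v) = v := by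
  rw [← S.phi_mul hg (inv_mem hg), mul_inv_cancel, S.phi_one]

theorem phi_injective {g : G} (hg : g ∈ S.N) : Function.Injective (S.phi g) := fun a b h => by
  rw [← S.phi_inv_phi hg a, h, S.phi_inv_phi hg]

theorem q_phi {g : G} (hg : g ∈ S.N) (v : V) : S.q (S.phi g v) = S.q v := (S.q_of_peq (S.phi_spec hg v)).symm

theorem B_phi {g : G} (hg : g ∈ S.N) (v w : V) : S.B (S.phi g v) (S.phi g w) = S.B v w :=
  (S.B_of_peq (S.phi_spec hg v) (S.phi_spec hg w)).symm

theorem phi_ne_zero {g : G} (hg : g ∈ S.N) {v : V} (hv : v ≠ 0) : S.phi g v ≠ 0 := fun h =>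
  hv (S.phi_injective hg (h.trans (S.phi_zero hg).symm))

theorem phi_r (u v : V) : S.phi (S.r u) v = v := S.phi_eq (S.conj_r u v)

theorem mem_R_of_phi {g : G} (hg : g ∈ S.N) (h : ∀ v, S.phi g v = v) : g ∈ S.R :=
  S.full g fun v => by
    have := S.phi_spec hg v
    rwa [h] at this

theorem phi_of_mem_R {g : G} (hg : g ∈ S.R) (v : V) : S.phi g v = v := by
  obtain ⟨u, hu⟩ := hg
  exact S.phi_eq (S.hε.trans (S.hε.mul (S.hε.mul_right _ hu) (S.hε.inv hu)) (S.conj_r u v))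

theorem rho_phi {g : G} (hg : g ∈ S.N) (v w x : V) :
    S.phi g (S.toQd.rho v w x) = S.toQd.rho (S.phi g v) (S.phi g w) (S.phi g x) := by
  have h := S.phiL_apply hg
  simp only [← h, Qd.rho_apply, map_add, map_smul]
  simp only [h, S.B_phi hg, S.q_phi hg]

/-- An element realising a Siegel transformation. -/
def Lifts (H : Subgroup G) : Prop :=
  ∀ v w : V, S.q v = 0 → S.B v w = 0 → ∃ γ ∈ H, γ ∈ S.N ∧ ∀ x, S.phi γ x = S.toQd.rho v w x

variable {H : Subgroup G}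

theorem exists_move_singular (hd : 6 ≤ finrank Z2 V) (hl : S.Lifts H) {v w : V} (hv : v ≠ 0) (hqv : S.q v = 0)
    (hw : w ≠ 0) (hqw : S.q w = 0) : ∃ γ ∈ H, γ ∈ S.N ∧ S.phi γ v = w := by
  -- to a vector not perpendicular, by one or two steps
  have step : ∀ {a b : V}, a ≠ 0 → S.q a = 0 → b ≠ 0 → S.q b = 0 → S.B a b = 1 →
      ∃ γ ∈ H, γ ∈ S.N ∧ S.phi γ a = b := by
    intro a b ha hqa hb hqb hab
    obtain ⟨c, hc, hc1, -⟩ := S.toQd.exists_nonsingular_perp (by omega) a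
    obtain ⟨γ, hγ, hγN, hγx⟩ := hl a (c + S.B c b • a) hqa (by
      rw [map_add, map_smul, S.toQd.self_perp, smul_zero, add_zero, hc])
    obtain ⟨δ, hδ, hδN, hδx⟩ := hl b (c + S.B c b • a) hqb (by
      rw [map_add, map_smul, S.toQd.symm b a, hab, smul_eq_mul, mul_one, S.toQd.symm b c, z2_add_self])
    refine ⟨γ * δ, mul_mem hγ hδ, mul_mem hγN hδN, ?_⟩
    obtain ⟨e, he⟩ : ∃ e, e = c + S.B c b • a := ⟨_, rfl⟩
    have hae : S.B a e = 0 := by rw [he, map_add, map_smul, S.toQd.self_perp, smul_zero, add_zero, hc]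
    have hbe : S.B b e = 0 := by
      rw [he, map_add, map_smul, S.toQd.symm b a, hab, smul_eq_mul, mul_one, S.toQd.symm b c, z2_add_self]
    have hqe : S.q e = 1 := by
      rw [he, S.polar, hc1, map_smul, S.toQd.symm c a, hc, smul_zero, add_zero]
      rcases z2_cases (S.B c b) with h | h <;> simp [h, S.toQd.q_zero, hqa]
    rw [S.phi_mul hγN hδN, hδx, hγx, ← he]
    simp only [Qd.rho_apply, map_add, map_smul, LinearMap.add_apply, LinearMap.smul_apply, hab, hae, hqe,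
      S.toQd.symm b a, S.toQd.symm e a, hbe, S.toQd.self_perp, S.toQd.symm e b]
    simp
    abel_nf
    simp [two_smul, vadd_self]
  rcases z2_cases (S.B v w) with h | h
  · obtain ⟨a, ha, ha'⟩ : ∃ a, S.B v a = 1 ∧ S.B w a = 1 := by
      obtain ⟨a, -, ha⟩ := S.toQd.exists_perp_one (S := ⊥) (v := v) hv
      rcases eq_or_ne v w with rfl | hvw
      · exact ⟨a, ha, ha⟩
      obtain ⟨b, hb, hb1⟩ := S.toQd.exists_perp_one (S := Submodule.span Z2 {v}) (v := w) fun hmem => by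
        rcases mem_span_one hmem with e | e
        · exact hw e
        · exact hvw e.symm
      rw [S.toQd.mem_perp_one] at hb
      rcases z2_cases (S.B w a) with h' | h'
      · exact ⟨a + b, by rw [map_add, ha, hb, add_zero], by rw [map_add, h', hb1, zero_add]⟩
      · exact ⟨a, ha, h'⟩
    obtain ⟨u, hu, hu', hqu⟩ : ∃ u, S.B v u = 1 ∧ S.B w u = 1 ∧ S.q u = 0 := by
      by_cases hqa : S.q a = 0
      · exact ⟨a, ha, ha', hqa⟩
      · exact ⟨a + v, by rw [map_add, ha, S.toQd.self_perp, add_zero],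
          by rw [map_add, ha', S.toQd.symm w v, h, add_zero],
          by rw [S.polar, z2_eq_one hqa, hqv, S.toQd.symm, ha]; rfl⟩
    have hu0 : u ≠ 0 := fun e => by rw [e, map_zero] at hu; exact zero_ne_one hu
    obtain ⟨γ, hγ, hγN, h1⟩ := step hv hqv hu0 hqu hu
    obtain ⟨δ, hδ, hδN, h2⟩ := step hu0 hqu hw hqw (by rw [S.toQd.symm]; exact hu')
    exact ⟨δ * γ, mul_mem hδ hγ, mul_mem hδN hγN, by rw [S.phi_mul hδN hγN, h1, h2]⟩
  · exact step hv hqv hw hqw h

end GSys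

end Cfsg.Agent.Classical.CliffordTwo
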