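import Mathlib

/-!
Permutations of the binary cube generated by translations and by flips of one coordinate on the points where two
other coordinates are one: they give the whole alternating group.
-/

set_option autoImplicit false
set_option linter.unusedSectionVars false

namespace Cfsg.Agent.Classical.CliffordTwo.Cube

open Equiv
open scoped Pointwise

local notation "Z2" => ZMod 2

variable {k : ℕ}

local notation "Jk" => (Fin k → ZMod 2)

/-- A unit vector. -/
def dlt (t : Fin k) : Fin k → ZMod 2 := Pi.single t 1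

theorem add_self' (a : Jk) : a + a = 0 := funext fun i => by
  rw [Pi.add_apply, Pi.zero_apply]; generalize a i = c; revert c; decide

theorem cases' (c : Z2) : c = 0 ∨ c = 1 := by revert c; decide

theorem dlt_same (t : Fin k) : dlt t t = 1 := by simp [dlt]

theorem dlt_ne {t i : Fin k} (h : i ≠ t) : dlt t i = 0 := by simp [dlt, h]

/-- A translation. -/
def tr (b : Fin k → ZMod 2) : Perm (Fin k → ZMod 2) := Equiv.addRight b

theorem tr_apply (b a : Jk) : tr b a = a + b := rfl

/-- The flip of a coordinate where the coordinates of a set are one. -/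
def flipF (A : Finset (Fin k)) (t : Fin k) (a : Fin k → ZMod 2) : Fin k → ZMod 2 :=
  if ∀ i ∈ A.erase t, a i = 1 then a + dlt t else a

theorem flipF_invol (A : Finset (Fin k)) (t : Fin k) : Function.Involutive (flipF A t) := fun a => by
  by_cases h : ∀ i ∈ A.erase t, a i = 1
  · have h1 : flipF A t a = a + dlt t := if_pos h
    have h2 : ∀ i ∈ A.erase t, (a + dlt t) i = 1 := fun i hi => by
      rw [Pi.add_apply, h i hi, dlt_ne (Finset.ne_of_mem_erase hi), add_zero]
    rw [h1, flipF, if_pos h2, add_assoc, add_self', add_zero]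
  · rw [show flipF A t a = a from if_neg h, flipF, if_neg h]

/-- The flip as a permutation. -/
def flip (A : Finset (Fin k)) (t : Fin k) : Perm (Fin k → ZMod 2) := (flipF_invol A t).toPerm

theorem flip_apply (A : Finset (Fin k)) (t : Fin k) (a : Jk) :
    flip A t a = if ∀ i ∈ A.erase t, a i = 1 then a + dlt t else a := rfl

theorem flip_step {A : Finset (Fin k)} {t b u : Fin k} (ht : t ∉ A) (hu : u ∉ A) (htu : t ≠ u) (hbu : b ≠ u)
    (hbt : b ≠ t) : flip A t * flip {t, b} u * flip A t * flip {t, b} u = flip (insert b A) u := by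
  refine Equiv.ext fun a => ?_
  have eA : A.erase t = A := Finset.erase_eq_of_notMem ht
  have eC : (insert b A).erase u = insert b A := Finset.erase_eq_of_notMem (by simp [hu, hbu.symm])
  have eB : ({t, b} : Finset (Fin k)).erase u = {t, b} := Finset.erase_eq_of_notMem (by simp [htu.symm, hbu.symm])
  have hA : ∀ x : Jk, (∀ i ∈ A, x i = a i) → ((∀ i ∈ A, x i = 1) ↔ ∀ i ∈ A, a i = 1) := fun x hx =>
    ⟨fun h i hi => (hx i hi) ▸ h i hi, fun h i hi => (hx i hi).trans (h i hi)⟩
  simp only [Perm.coe_mul, Function.comp_apply, flip_apply, eA, eB, eC, Finset.mem_insert, Finset.mem_singleton,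
    forall_eq_or_imp, forall_eq]
  have hu1 : ∀ i ∈ A, dlt u i = 0 := fun i hi => dlt_ne fun e => hu (e ▸ hi)
  have ht1 : ∀ i ∈ A, dlt t i = 0 := fun i hi => dlt_ne fun e => ht (e ▸ hi)
  have key : ∀ x : Z2, x + 1 = 1 ↔ x = 0 := by decide
  have huu : dlt u + dlt u = 0 := add_self' _
  have htt : dlt t + dlt t = 0 := add_self' _
  have hut : dlt u t = 0 := dlt_ne htu
  have hub : dlt u b = 0 := dlt_ne hbu
  have htb : dlt t b = 0 := dlt_ne hbt
  have htt1 : dlt t t = 1 := dlt_same t
  have hnot : ∀ x : Z2, x = 0 → ¬ x = 1 := by decide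
  have hxyx : dlt t + (dlt u + dlt t) = dlt u := by rw [add_left_comm, htt, add_zero]
  by_cases hb : a b = 1 <;> by_cases hat : a t = 1 <;> by_cases hal : ∀ i ∈ A, a i = 1
  all_goals
    simp (config := { contextual := true }) [hb, hat, hal, hu1, ht1, hut, hub, htb, htt1, key, add_assoc, huu, htt, hxyx]
  all_goals
    have hat0 : a t = 0 := (cases' (a t)).resolve_right hat
    simp (config := { contextual := true }) [hb, hat0, hal, hu1, ht1, hut, hub, htb, htt1, key, add_assoc, huu, htt, hxyx]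

theorem flip_flat {A : Finset (Fin k)} {t u : Fin k} (hA : ∀ i, i ∈ A ↔ i ≠ t ∧ i ≠ u) (htu : t ≠ u) :
    flip A u = swap 1 (1 + dlt u) * swap (1 + dlt t) (1 + dlt t + dlt u) := by
  refine Equiv.ext fun a => ?_
  have eA : A.erase u = A := Finset.erase_eq_of_notMem fun h => ((hA u).1 h).2 rfl
  rw [flip_apply, eA]
  have key : ∀ x : Z2, x + 1 = 0 ↔ x = 1 := by decide
  by_cases h : ∀ i ∈ A, a i = 1
  · rw [if_pos h]
    have ha : a = 1 + (a t + 1) • dlt t + (a u + 1) • dlt u := funext fun i => by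
      simp only [Pi.add_apply, Pi.smul_apply, Pi.one_apply, smul_eq_mul]
      rcases eq_or_ne i t with rfl | hit
      · rw [dlt_same, dlt_ne htu]; generalize a i = c; generalize a u = d; revert c d; decide
      rcases eq_or_ne i u with rfl | hiu
      · rw [dlt_same, dlt_ne hit]; generalize a i = c; generalize a t = d; revert c d; decide
      rw [h i ((hA i).2 ⟨hit, hiu⟩), dlt_ne hit, dlt_ne hiu]; simp
    generalize a t + 1 = c, a u + 1 = d at ha
    have n1 : (1 : Jk) + dlt t ≠ 1 := fun e => by simpa [dlt_same] using congrFun e t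
    have n2 : (1 : Jk) + dlt u ≠ 1 := fun e => by simpa [dlt_same] using congrFun e u
    have n3 : (1 : Jk) + dlt t + dlt u ≠ 1 := fun e => by simpa [dlt_same, dlt_ne htu] using congrFun e t
    have n4 : (1 : Jk) + dlt t ≠ 1 + dlt u := fun e => by simpa [dlt_same, dlt_ne htu] using congrFun e t
    have n5 : (1 : Jk) + dlt t + dlt u ≠ 1 + dlt u := fun e => by simpa [dlt_same, dlt_ne htu] using congrFun e t
    have n6 : (1 : Jk) + dlt t + dlt u ≠ 1 + dlt t := fun e => by simpa [dlt_same, dlt_ne htu.symm] using congrFun e u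
    rcases cases' c with rfl | rfl <;> rcases cases' d with rfl | rfl <;>
      simp only [zero_smul, one_smul, add_zero] at ha <;> subst ha
    · rw [Perm.mul_apply, swap_apply_of_ne_of_ne n1.symm n3.symm, swap_apply_left]
    · rw [Perm.mul_apply, swap_apply_of_ne_of_ne n4.symm n5.symm, swap_apply_right, add_assoc, add_self', add_zero]
    · rw [Perm.mul_apply, swap_apply_left, swap_apply_of_ne_of_ne n3 n5]
    · rw [Perm.mul_apply, swap_apply_right, swap_apply_of_ne_of_ne n1 n4, add_assoc, add_self', add_zero]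
  · rw [if_neg h]
    push Not at h
    obtain ⟨i, hi, hai⟩ := h
    have hne : ∀ x : Jk, x i = 1 → a ≠ x := fun x hx e => hai (e ▸ hx)
    obtain ⟨hit, hiu⟩ := (hA i).1 hi
    rw [Perm.mul_apply, swap_apply_of_ne_of_ne (hne _ (by simp [dlt_ne hit])) (hne _ (by simp [dlt_ne hit, dlt_ne hiu])),
      swap_apply_of_ne_of_ne (hne _ rfl) (hne _ (by simp [dlt_ne hiu]))]

theorem sq_double {α : Type*} [DecidableEq α] {a b c d e f g : α} (hc : c ≠ a ∧ c ≠ b ∧ c ≠ e ∧ c ≠ f ∧ c ≠ g)
    (hd : d ≠ a ∧ d ≠ b ∧ d ≠ e ∧ d ≠ f ∧ d ≠ g) (hf : f ≠ a ∧ f ≠ b ∧ f ≠ e) (hg : g ≠ a ∧ g ≠ b ∧ g ≠ e) :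
    (swap a b * swap c d * (swap a e * swap f g)) * (swap a b * swap c d * (swap a e * swap f g)) =
      (swap a b * swap a e) * (swap a b * swap a e) := by
  have com : ∀ p q r s : α, p ≠ r → p ≠ s → q ≠ r → q ≠ s → Commute (swap p q) (swap r s) :=
    fun p q r s h1 h2 h3 h4 => by
      show swap p q * swap r s = swap r s * swap p q
      rw [mul_swap_eq_swap_mul, swap_apply_of_ne_of_ne h1.symm h3.symm, swap_apply_of_ne_of_ne h2.symm h4.symm]
  obtain ⟨hca, hcb, hce, hcf, hcg⟩ := hc
  obtain ⟨hda, hdb, hde, hdf, hdg⟩ := hd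
  obtain ⟨hfa, hfb, hfe⟩ := hf
  obtain ⟨hga, hgb, hge⟩ := hg
  have h1 : Commute (swap c d) (swap a e) := com _ _ _ _ hca hce hda hde
  have h2 : Commute (swap c d) (swap a b) := com _ _ _ _ hca hcb hda hdb
  have h3 : Commute (swap f g) (swap a b) := com _ _ _ _ hfa hfb hga hgb
  have h4 : Commute (swap f g) (swap a e) := com _ _ _ _ hfa hfe hga hge
  have h5 : Commute (swap c d) (swap f g) := com _ _ _ _ hcf hcg hdf hdg
  have e1 : swap a b * swap c d * (swap a e * swap f g) = swap a b * swap a e * (swap c d * swap f g) := by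
    rw [mul_assoc (swap a b) (swap c d), ← mul_assoc (swap c d), h1.eq]
    simp only [mul_assoc]
  have h6 : Commute (swap c d * swap f g) (swap a b * swap a e) :=
    (h2.mul_right h1).mul_left (h3.mul_right h4)
  have h7 : (swap c d * swap f g) * (swap c d * swap f g) = 1 := by
    rw [mul_assoc, ← mul_assoc (swap f g), ← h5.eq, mul_assoc (swap c d) (swap f g), swap_mul_self, mul_one,
      swap_mul_self]
  rw [e1, mul_assoc (swap a b * swap a e), ← mul_assoc (swap c d * swap f g), h6.eq, mul_assoc _ (swap c d * swap f g),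
    h7, mul_one]

variable {G : Subgroup (Perm (Fin k → ZMod 2))}

theorem flip_mem (h2 : ∀ A t, A.card = 2 → t ∉ A → flip A t ∈ G) {A : Finset (Fin k)} {t : Fin k} (hA : 2 ≤ A.card)
    (hAk : A.card + 2 ≤ k) (ht : t ∉ A) : flip A t ∈ G := by
  induction A using Finset.strongInduction generalizing t with
  | _ A ih =>
    rcases Nat.lt_or_ge A.card 3 with hlt | hge
    · exact h2 A t (by omega) ht
    obtain ⟨b, hb⟩ := Finset.card_pos.1 (show 0 < A.card by omega)
    obtain ⟨s, hs, hst⟩ : ∃ s, s ∉ A ∧ s ≠ t := by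
      have hc : (insert t A)ᶜ.Nonempty := by
        rw [← Finset.card_pos, Finset.card_compl, Fintype.card_fin, Finset.card_insert_of_notMem ht]
        omega
      obtain ⟨s, hs⟩ := hc
      simp only [Finset.mem_compl, Finset.mem_insert, not_or] at hs
      exact ⟨s, hs.2, hs.1⟩
    have hbs : b ≠ s := fun e => hs (e ▸ hb)
    have hbt : b ≠ t := fun e => ht (e ▸ hb)
    have h1 : flip (A.erase b) s ∈ G := ih _ (Finset.erase_ssubset hb) (by rw [Finset.card_erase_of_mem hb]; omega)
      (by rw [Finset.card_erase_of_mem hb]; omega) (fun h => hs (Finset.mem_of_mem_erase h))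
    have h3 : flip {s, b} t ∈ G := h2 _ _ (Finset.card_pair hbs.symm) (by simp [hst.symm, hbt.symm])
    have key := flip_step (A := A.erase b) (t := s) (b := b) (u := t) (fun h => hs (Finset.mem_of_mem_erase h))
      (fun h => ht (Finset.mem_of_mem_erase h)) hst hbt hbs
    rw [Finset.insert_erase hb] at key
    exact key ▸ mul_mem (mul_mem (mul_mem h1 h3) h1) h3

theorem three_mem (hk : 4 ≤ k) (htr : ∀ b, tr b ∈ G) (h2 : ∀ A t, A.card = 2 → t ∉ A → flip A t ∈ G)
    (a : Jk) {u v : Fin k} (huv : u ≠ v) : swap a (a + dlt u) * swap a (a + dlt v) ∈ G ∧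
      (swap a (a + dlt u) * swap a (a + dlt v)).IsThreeCycle := by
  have hne : ∀ {x : Jk} {i : Fin k}, x ≠ x + dlt i := fun {x i} e => by
    have := congrFun e i
    simp [dlt_same] at this
  have hne2 : ∀ {x : Jk}, x + dlt u ≠ x + dlt v := fun {x} e => by
    have := congrFun (add_left_cancel e) u
    simp [dlt_same, dlt_ne huv] at this
  have h3 : ∀ x : Jk, (swap x (x + dlt u) * swap x (x + dlt v)).IsThreeCycle := fun x =>
    Perm.isThreeCycle_swap_mul_swap_same hne hne hne2
  refine ⟨?_, h3 a⟩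
  obtain ⟨t, ht⟩ : ∃ t, t ∉ ({u, v} : Finset (Fin k)) := by
    by_contra h
    push Not at h
    have := Finset.card_le_card (show (Finset.univ : Finset (Fin k)) ⊆ {u, v} from fun x _ => h x)
    rw [Finset.card_univ, Fintype.card_fin, Finset.card_pair huv] at this
    omega
  obtain ⟨t', ht'⟩ : ∃ t', t' ∉ ({t, u, v} : Finset (Fin k)) := by
    by_contra h
    push Not at h
    have h1 := Finset.card_le_card (show (Finset.univ : Finset (Fin k)) ⊆ {t, u, v} from fun x _ => h x)
    have h2 : ({t, u, v} : Finset (Fin k)).card ≤ 3 := Finset.card_le_three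
    rw [Finset.card_univ, Fintype.card_fin] at h1
    omega
  simp only [Finset.mem_insert, Finset.mem_singleton, not_or] at ht ht'
  obtain ⟨htu, htv⟩ := ht
  obtain ⟨ht't, ht'u, ht'v⟩ := ht'
  have hcard : ∀ {p q : Fin k}, p ≠ q → ({p, q} : Finset (Fin k))ᶜ.card = k - 2 := fun {p q} h => by
    rw [Finset.card_compl, Fintype.card_fin, Finset.card_pair h]
  have f1 : flip ({t, u} : Finset (Fin k))ᶜ u ∈ G :=
    flip_mem h2 (by rw [hcard htu]; omega) (by rw [hcard htu]; omega) (by simp)
  have f2 : flip ({t', v} : Finset (Fin k))ᶜ v ∈ G :=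
    flip_mem h2 (by rw [hcard ht'v]; omega) (by rw [hcard ht'v]; omega) (by simp)
  rw [flip_flat (t := t) (fun i => by simp) htu] at f1
  rw [flip_flat (t := t') (fun i => by simp) ht'v] at f2
  have hsq := mul_mem (mul_mem f1 f2) (mul_mem f1 f2)
  rw [sq_double] at hsq
  · obtain ⟨c, hc⟩ : ∃ c, c = swap (1 : Jk) (1 + dlt u) * swap 1 (1 + dlt v) := ⟨_, rfl⟩
    rw [← hc] at hsq
    have hcm : c ∈ G := by
      have h4 : c ^ 3 = 1 := by rw [hc, ← (h3 1).orderOf]; exact pow_orderOf_eq_one _
      have e : c = (c * c) * (c * c) :=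
        calc c = c ^ 3 * c := by rw [h4, one_mul]
          _ = _ := by simp only [pow_succ, pow_zero, one_mul, mul_assoc]
      rw [e]; exact mul_mem hsq hsq
    have h5 := mul_mem (mul_mem (htr (1 + a)) hcm) (inv_mem (htr (1 + a)))
    have e : tr (1 + a) * c * (tr (1 + a))⁻¹ = swap a (a + dlt u) * swap a (a + dlt v) := by
      rw [hc, ← mul_assoc]
      rw [show tr (1 + a) * swap 1 (1 + dlt u) * swap 1 (1 + dlt v) * (tr (1 + a))⁻¹ =
        (tr (1 + a) * swap 1 (1 + dlt u) * (tr (1 + a))⁻¹) * (tr (1 + a) * swap 1 (1 + dlt v) * (tr (1 + a))⁻¹) by group,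
        ← swap_apply_apply, ← swap_apply_apply]
      have e1 : ∀ x : Jk, tr (1 + a) (1 + x) = a + x := fun x => by
        rw [tr_apply, add_comm 1 x, add_assoc, ← add_assoc 1, add_self', zero_add, add_comm]
      have e0 : tr (1 + a) (1 : Jk) = a := by rw [tr_apply, ← add_assoc, add_self', zero_add]
      rw [e0, e1, e1]
    rwa [e] at h5
  all_goals
    have hut : u ≠ t := fun e => htu e.symm
    have hvt : v ≠ t := fun e => htv e.symm
    have hvu : v ≠ u := huv.symm
    have hut' : u ≠ t' := fun e => ht'u e.symm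
    have hvt' : v ≠ t' := fun e => ht'v e.symm
    have htt' : t ≠ t' := fun e => ht't e.symm
    have dif : ∀ {x y : Jk} (i : Fin k), x i ≠ y i → x ≠ y := fun i h e => h (congrFun e i)
    refine ⟨?_, ?_, ?_⟩ <;> (repeat' apply And.intro) <;>
      first
        | (refine dif t ?_; simp [dlt_same, dlt_ne, hut, hvt, htu, htv, htt', ht't]; done)
        | (refine dif t' ?_; simp [dlt_same, dlt_ne, hut', hvt', ht'u, ht'v, htt', ht't]; done)

/-- Translations and flips give all even permutations. -/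
theorem even_mem (hk : 4 ≤ k) (htr : ∀ b, tr b ∈ G) (h2 : ∀ A t, A.card = 2 → t ∉ A → flip A t ∈ G) :
    alternatingGroup (Fin k → ZMod 2) ≤ G := by
  haveI : MulAction.IsPretransitive G Jk := ⟨fun x y => ⟨⟨tr (x + y), htr _⟩, by
    show x + (x + y) = y
    rw [← add_assoc, add_self', zero_add]⟩⟩
  have hprim : MulAction.IsPreprimitive G Jk := by
    refine MulAction.IsPreprimitive.of_isTrivialBlock_base (0 : Jk) fun {B} h0 hB => ?_
    by_cases hs : B.Subsingleton
    · exact Or.inl hs
    right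
    obtain ⟨b, hb, hb0⟩ : ∃ b ∈ B, b ≠ 0 := by
      by_contra h
      push Not at h
      exact hs fun x hx y hy => (h x hx).trans (h y hy).symm
    have hstab : ∀ g : G, ∀ x ∈ B, (g : Perm Jk) x ∈ B → ∀ y ∈ B, (g : Perm Jk) y ∈ B := fun g x hx hgx y hy => by
      have h1 := MulAction.isBlock_iff_smul_eq_of_nonempty.1 hB (g := g) ⟨_, ⟨x, hx, rfl⟩, hgx⟩
      rw [← h1]
      exact ⟨y, hy, rfl⟩
    have hd : ∀ u, dlt u ∈ B := fun u => by
      by_contra hu
      have hbu : b ≠ dlt u := fun e => hu (e ▸ hb)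
      obtain ⟨v, hvu, hvb⟩ : ∃ v, v ≠ u ∧ dlt v ≠ b := by
        by_contra h
        push Not at h
        obtain ⟨v, hv⟩ := Finset.card_pos.1 (show 0 < (Finset.univ.erase u).card by simp; omega)
        obtain ⟨v', hv'⟩ := Finset.card_pos.1 (show 0 < ((Finset.univ.erase u).erase v).card by
          rw [Finset.card_erase_of_mem hv]; simp; omega)
        simp only [Finset.mem_erase] at hv hv'
        have := congrFun ((h v hv.1).trans (h v' hv'.2.1).symm) v
        simp [dlt_same, dlt_ne hv'.1.symm] at this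
      obtain ⟨hm, -⟩ := three_mem hk htr h2 (0 : Jk) (Ne.symm hvu)
      rw [zero_add, zero_add] at hm
      have hne : dlt v ≠ dlt u := fun e => by
        have := congrFun e v
        simp [dlt_same, dlt_ne hvu] at this
      have e1 : (swap (0 : Jk) (dlt u) * swap 0 (dlt v)) b = b := by
        rw [Perm.mul_apply, swap_apply_of_ne_of_ne hb0 hvb.symm, swap_apply_of_ne_of_ne hb0 hbu]
      have e2 : (swap (0 : Jk) (dlt u) * swap 0 (dlt v)) 0 = dlt v := by
        rw [Perm.mul_apply, swap_apply_left, swap_apply_of_ne_of_ne (fun e => by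
          have := congrFun e v; simp [dlt_same] at this) hne]
      have hv : dlt v ∈ B := e2 ▸ hstab ⟨_, hm⟩ b hb (e1.symm ▸ hb) 0 h0
      have e3 : (swap (0 : Jk) (dlt u) * swap 0 (dlt v)) (dlt v) = dlt u := by
        rw [Perm.mul_apply, swap_apply_right, swap_apply_left]
      exact hu (e3 ▸ hstab ⟨_, hm⟩ b hb (e1.symm ▸ hb) _ hv)
    have hadd : ∀ x ∈ B, ∀ y ∈ B, x + y ∈ B := fun x hx y hy =>
      (hstab ⟨tr y, htr y⟩ 0 h0 (by show (0 : Jk) + y ∈ B; rw [zero_add]; exact hy) x hx)
    refine Set.eq_univ_of_forall fun x => ?_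
    rw [show x = ∑ i, Pi.single i (x i) from (Finset.univ_sum_single x).symm]
    refine Finset.sum_induction _ (· ∈ B) (fun p q hp hq => hadd p hp q hq) h0 fun i _ => ?_
    rcases cases' (x i) with e | e <;> rw [e]
    · rw [Pi.single_zero]; exact h0
    · exact hd i
  obtain ⟨hm, h3⟩ := three_mem hk htr h2 (0 : Jk) (u := ⟨0, by omega⟩) (v := ⟨1, by omega⟩) (by simp)
  exact Perm.alternatingGroup_le_of_isPreprimitive_of_isThreeCycle_mem hprim h3 hm

end Cfsg.Agent.Classical.CliffordTwo.Cube
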