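import Cfsg.Agent.Lib.Classical.CliffordTwo.FrameGen
import Cfsg.Agent.Lib.Classical.CliffordTwo.CC

/-!
Plus type: an orthogonal frame on which the two-group and the doubly controlled elements act by signed permutations,
and an element of the derived normaliser which does not.
-/

set_option autoImplicit false
set_option linter.unusedSectionVars false

namespace Cfsg.Agent.Classical.CliffordTwo

open Module Matrix

local notation "Z2" => ZMod 2

/-- A hyperbolic basis. -/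
structure Std {V : Type*} [AddCommGroup V] [Module (ZMod 2) V] (Q : Qd V) (k : ℕ) where
  z : Fin k → V
  x : Fin k → V
  qz : ∀ i, Q.q (z i) = 0
  qx : ∀ i, Q.q (x i) = 0
  zz : ∀ i j, Q.B (z i) (z j) = 0
  xx : ∀ i j, Q.B (x i) (x j) = 0
  xz : ∀ i j, Q.B (x i) (z j) = if i = j then 1 else 0
  gen : ∀ v, v = ∑ i, Q.B v (x i) • z i + ∑ i, Q.B v (z i) • x i

theorem Qd.exists_std {V : Type*} [AddCommGroup V] [Module (ZMod 2) V] [Finite V] (Q : Qd V) {k : ℕ}
    (hd : finrank Z2 V = 2 * k) (U : Submodule Z2 V) (hU : ∀ u ∈ U, Q.q u = 0) (hk : k ≤ finrank Z2 U) :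
    Nonempty (Std Q k) := by
  classical
  have hUB : ∀ u ∈ U, ∀ u' ∈ U, Q.B u u' = 0 := fun u hu u' hu' => by
    have h := Q.polar u u'
    rw [hU _ (add_mem hu hu'), hU _ hu, hU _ hu', zero_add, zero_add] at h
    exact h.symm
  have hUp : U ≤ Q.perp U := fun u hu w hw => hUB w hw u hu
  have hfU : finrank Z2 U = k := by
    have h1 := Submodule.finrank_mono hUp
    rw [Q.finrank_perp, hd] at h1
    omega
  have hperp : Q.perp U = U :=
    (Submodule.eq_of_le_of_finrank_eq hUp (by rw [Q.finrank_perp, hd, hfU]; omega)).symm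
  obtain ⟨bU⟩ : Nonempty (Basis (Fin k) Z2 U) := ⟨Module.finBasisOfFinrankEq Z2 U hfU⟩
  obtain ⟨z, hz⟩ : ∃ z : Fin k → V, z = fun i => (bU i : V) := ⟨_, rfl⟩
  have hzU : ∀ i, z i ∈ U := fun i => hz ▸ (bU i).2
  have hspan : ∀ u ∈ U, ∃ d : Fin k → Z2, u = ∑ i, d i • z i := fun u hu =>
    ⟨fun i => bU.repr ⟨u, hu⟩ i, by
      have := congrArg Subtype.val (bU.sum_repr ⟨u, hu⟩)
      rw [hz]
      rw [Submodule.coe_sum] at this
      exact this.symm⟩
  obtain ⟨φ, hφ⟩ : ∃ φ : V →ₗ[Z2] (Fin k → Z2), ∀ v j, φ v j = Q.B v (z j) :=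
    ⟨LinearMap.pi fun j => (LinearMap.BilinForm.toLinHomFlip.toAddHom.toFun Q.B (z j) : V →ₗ[Z2] Z2), fun v j => rfl⟩
  have hker : LinearMap.ker φ = U := by
    refine (SetLike.ext fun v => ?_).trans hperp
    rw [LinearMap.mem_ker, Q.mem_perp]
    refine ⟨fun h w hw => ?_, fun h => funext fun j => ?_⟩
    · obtain ⟨d, rfl⟩ := hspan w hw
      simp only [map_sum, map_smul, LinearMap.sum_apply, LinearMap.smul_apply]
      refine Finset.sum_eq_zero fun i _ => ?_
      rw [Q.symm, ← hφ, h, Pi.zero_apply, smul_zero]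
    · rw [hφ, Q.symm]; exact h _ (hzU j)
  have hsurj : Function.Surjective φ := LinearMap.range_eq_top.1 (Submodule.eq_top_of_finrank_eq (by
    have h := LinearMap.finrank_range_add_finrank_ker φ
    rw [hker, hfU, hd] at h
    rw [Module.finrank_fin_fun]; omega))
  choose y hy using fun i => hsurj (Pi.single i 1)
  have hyz : ∀ i j, Q.B (y i) (z j) = if i = j then 1 else 0 := fun i j => by
    rw [← hφ, hy, Pi.single_apply]
    simp [eq_comm]
  obtain ⟨c, hc⟩ : ∃ c : Fin k → Fin k → Z2,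
      c = fun i j => if j < i then Q.B (y i) (y j) else if i = j then Q.q (y i) else 0 := ⟨_, rfl⟩
  obtain ⟨s, hs⟩ : ∃ s : Fin k → V, s = fun i => ∑ j, c i j • z j := ⟨_, rfl⟩
  have hsU : ∀ i, s i ∈ U := fun i => hs ▸ Submodule.sum_mem _ fun j _ => U.smul_mem _ (hzU j)
  have hys : ∀ i l, Q.B (y i) (s l) = c l i := fun i l => by
    simp only [hs, map_sum, map_smul, hyz, smul_eq_mul, mul_ite, mul_one, mul_zero, Finset.sum_ite_eq,
      Finset.mem_univ, if_true]
  have hxz : ∀ i j, Q.B (y i + s i) (z j) = if i = j then 1 else 0 := fun i j => by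
    rw [map_add, LinearMap.add_apply, hyz, hUB _ (hsU i) _ (hzU j), add_zero]
  have hxx : ∀ i l, Q.B (y i + s i) (y l + s l) = 0 := fun i l => by
    simp only [map_add, LinearMap.add_apply]
    rw [hys, Q.symm (s i) (y l), hys, hUB _ (hsU i) _ (hsU l), add_zero]
    rcases lt_trichotomy i l with h | rfl | h
    · simp only [hc, h, if_true, h.not_gt, h.ne, if_false, Q.symm (y l) (y i), add_zero]
      exact z2_add_self _
    · simp only [hc, lt_irrefl, if_false, if_true, Q.self_perp, zero_add]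
      exact z2_add_self _
    · simp only [hc, h, if_true, h.not_gt, h.ne, if_false, zero_add, add_zero]
      exact z2_add_self _
  refine ⟨⟨z, fun i => y i + s i, fun i => hU _ (hzU i), fun i => ?_, fun i j => hUB _ (hzU i) _ (hzU j), hxx, hxz,
    fun v => ?_⟩⟩
  · rw [Q.polar, hU _ (hsU i), hys, add_zero]
    simp only [hc, lt_irrefl, if_false, if_true]
    exact z2_add_self _
  · obtain ⟨x, hx⟩ : ∃ x : Fin k → V, x = fun i => y i + s i := ⟨_, rfl⟩
    have hxe : ∀ i, y i + s i = x i := fun i => by rw [hx]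
    simp only [hxe] at hxz hxx ⊢
    obtain ⟨a, ha⟩ : ∃ a, a = ∑ i, Q.B v (x i) • z i + ∑ i, Q.B v (z i) • x i := ⟨_, rfl⟩
    rw [← ha]
    have h1 : ∀ j, Q.B a (z j) = Q.B v (z j) := fun j => by
      simp [ha, hUB _ (hzU _) _ (hzU j), hxz]
    have h2 : ∀ j, Q.B a (x j) = Q.B v (x j) := fun j => by
      simp [ha, hxx, Q.symm (z _) (x j), hxz]
    have hwU : v + a ∈ U := by
      rw [← hperp, Q.mem_perp]
      intro u hu
      obtain ⟨d, rfl⟩ := hspan u hu
      simp only [map_sum, map_smul, LinearMap.sum_apply, LinearMap.smul_apply]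
      refine Finset.sum_eq_zero fun i _ => ?_
      rw [Q.symm, map_add, LinearMap.add_apply, h1, z2_add_self, smul_zero]
    obtain ⟨d, hd'⟩ := hspan _ hwU
    have hd0 : ∀ j, d j = 0 := fun j => by
      have := congrArg (fun w => Q.B w (x j)) hd'
      simp only [map_add, LinearMap.add_apply, h2, z2_add_self, map_sum, map_smul, LinearMap.sum_apply,
        LinearMap.smul_apply, Q.symm (z _) (x j), hxz, smul_eq_mul, mul_ite, mul_one, mul_zero, Finset.sum_ite_eq,
        Finset.mem_univ, if_true] at this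
      exact this.symm
    exact vadd_eq_zero (by rw [hd']; simp [hd0])

namespace Std

variable {V : Type*} [AddCommGroup V] [Module (ZMod 2) V] {Q : Qd V} {k : ℕ} (D : Std Q k)

/-- The combination of the second halves. -/
def xa (b : Fin k → ZMod 2) : V := ∑ i, b i • D.x i

theorem xa_add (b c : Fin k → Z2) : D.xa (b + c) = D.xa b + D.xa c := by
  simp [xa, add_smul, Finset.sum_add_distrib]

theorem xa_zero : D.xa 0 = 0 := by simp [xa]

theorem xa_dlt (i : Fin k) : D.xa (Cube.dlt i) = D.x i := by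
  rw [xa, Finset.sum_eq_single i (fun j _ hj => by rw [Cube.dlt_ne hj, zero_smul]) (by simp), Cube.dlt_same, one_smul]

theorem B_xa_z (b : Fin k → Z2) (i : Fin k) : Q.B (D.xa b) (D.z i) = b i := by simp [xa, D.xz]

theorem B_z_xa (b : Fin k → Z2) (i : Fin k) : Q.B (D.z i) (D.xa b) = b i := by rw [Q.symm, D.B_xa_z]

theorem B_x_xa (b : Fin k → Z2) (i : Fin k) : Q.B (D.x i) (D.xa b) = 0 := by simp [xa, D.xx]

theorem q_xa (b : Fin k → Z2) : Q.q (D.xa b) = 0 := by
  classical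
  suffices h : ∀ s : Finset (Fin k), Q.q (∑ i ∈ s, b i • D.x i) = 0 from h Finset.univ
  intro s
  induction s using Finset.induction with
  | empty => simp [Q.q_zero]
  | insert j s hj ih =>
    have h1 : Q.q (b j • D.x j) = 0 := by
      rcases z2_smul (b j) (D.x j) with e | e <;> rw [e]
      · exact Q.q_zero
      · exact D.qx j
    rw [Finset.sum_insert hj, Q.polar, h1, ih]
    simp [D.xx]

theorem ccok {i j : Fin k} (hij : i ≠ j) {w : V} (h1 : Q.B (D.z i) w = 0) (h2 : Q.B (D.x i) w = 0)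
    (h3 : Q.B (D.z j) w = 0) (h4 : Q.B (D.x j) w = 0) : CCok Q (D.z i) (D.x i) (D.z j) (D.x j) w where
  qz := D.qz i
  qx := D.qx i
  qz' := D.qz j
  qx' := D.qx j
  zx := by rw [Q.symm, D.xz, if_pos rfl]
  zx' := by rw [Q.symm, D.xz, if_pos rfl]
  z_z' := D.zz i j
  z_x' := by rw [Q.symm, D.xz, if_neg hij.symm]
  x_z' := by rw [D.xz, if_neg hij]
  x_x' := D.xx i j
  z_w := h1
  x_w := h2
  z'_w := h3
  x'_w := h4

end Std

namespace Sys

variable {F : Type*} [Field F] {ι : Type} [Fintype ι] [DecidableEq ι] {V : Type*} [AddCommGroup V]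
  [Module (ZMod 2) V] [Finite V] (S : Sys F (Matrix ι ι F) V) {k : ℕ} (D : Std S.toQd k)

theorem exists_fixed [Nonempty ι] :
    ∃ v : ι → F, v ≠ 0 ∧ ∀ i, (S.r (D.z i) : Matrix ι ι F) *ᵥ v = v := by
  classical
  suffices h : ∀ s : Finset (Fin k), ∃ v : ι → F, v ≠ 0 ∧ ∀ i ∈ s, (S.r (D.z i) : Matrix ι ι F) *ᵥ v = v by
    obtain ⟨v, hv, h'⟩ := h Finset.univ
    exact ⟨v, hv, fun i => h' i (Finset.mem_univ i)⟩
  intro s
  induction s using Finset.induction with
  | empty => exact ⟨fun _ => 1, fun e => one_ne_zero (congrFun e (_root_.Classical.arbitrary ι)), by simp⟩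
  | insert j s hj ih =>
    obtain ⟨v, hv, hfix⟩ := ih
    by_cases h : (S.r (D.z j) : Matrix ι ι F) *ᵥ v = -v
    · refine ⟨(S.r (D.x j) : Matrix ι ι F) *ᵥ v, fun e => hv ?_, ?_⟩
      · have := congrArg ((((S.r (D.x j))⁻¹ : GL ι F) : Matrix ι ι F) *ᵥ ·) e
        simpa [mulVec_mulVec, ← Units.val_mul] using this
      · intro i hi
        rw [mulVec_mulVec, S.comm, S.toQd.symm, D.xz]
        rcases Finset.mem_insert.1 hi with rfl | hi'
        · rw [if_pos rfl, sg_one, smul_mulVec, ← mulVec_mulVec, h, mulVec_neg, neg_one_smul, neg_neg]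
        · rw [if_neg (show j ≠ i from fun e => hj (e ▸ hi')), sg_zero, one_smul, ← mulVec_mulVec, hfix i hi']
    · refine ⟨v + (S.r (D.z j) : Matrix ι ι F) *ᵥ v, fun e => h (eq_neg_of_add_eq_zero_right e), fun i hi => ?_⟩
      rw [mulVec_add, mulVec_mulVec]
      rcases Finset.mem_insert.1 hi with rfl | hi'
      · rw [S.sq, D.qz, sg_zero, one_smul, one_mulVec, add_comm]
      · rw [hfix i hi', S.comm, D.zz, sg_zero, one_smul, ← mulVec_mulVec, hfix i hi']

/-- The vectors of the frame. -/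
def fr (v : ι → F) (a : Fin k → ZMod 2) : ι → F := (S.r (D.xa a) : Matrix ι ι F) *ᵥ v

variable {v : ι → F} (hv : ∀ i, (S.r (D.z i) : Matrix ι ι F) *ᵥ v = v)
include hv

theorem z_fr (i : Fin k) (a : Fin k → Z2) :
    (S.r (D.z i) : Matrix ι ι F) *ᵥ S.fr D v a = sg F (a i) • S.fr D v a := by
  rw [fr, mulVec_mulVec, S.comm, D.B_z_xa, smul_mulVec, ← mulVec_mulVec, hv]

theorem pm_fr (i : Fin k) (a : Fin k → Z2) :
    S.pmVal (D.z i) *ᵥ S.fr D v a = if a i = 1 then S.fr D v a else 0 := by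
  rw [pmVal, smul_mulVec, sub_mulVec, one_mulVec, S.z_fr D hv]
  rcases z2_cases (a i) with e | e <;> rw [e]
  · rw [sg_zero, one_smul, sub_self, smul_zero, if_neg (by decide)]
  · rw [sg_one, neg_one_smul, sub_neg_eq_add, ← two_smul F, smul_smul, inv_mul_cancel₀ S.two, one_smul, if_pos rfl]

theorem x_fr (b a : Fin k → Z2) :
    ∃ s, (S.r (D.xa b) : Matrix ι ι F) *ᵥ S.fr D v a = sg F s • S.fr D v (a + b) := by
  rw [fr, fr, D.xa_add, add_comm (D.xa a), mulVec_mulVec]
  rcases S.mul (D.xa b) (D.xa a) with e | e <;> rw [e]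
  · exact ⟨0, by rw [sg_zero, one_smul]⟩
  · exact ⟨1, by rw [sg_one, neg_one_smul, neg_mulVec]⟩

theorem cc_x_fr {i j t : Fin k} (hit : i ≠ t) (hjt : j ≠ t) (a : Fin k → Z2) :
    ∃ s, S.ccVal (D.z i) (D.z j) (D.x t) *ᵥ S.fr D v a = sg F s • S.fr D v (Cube.flip {i, j} t a) := by
  obtain ⟨s, hs⟩ := S.x_fr D hv (Cube.dlt t) a
  rw [D.xa_dlt] at hs
  rw [ccVal, add_mulVec, one_mulVec, ← mulVec_mulVec, ← mulVec_mulVec, sub_mulVec, one_mulVec, hs]
  simp only [mulVec_sub, mulVec_smul, S.pm_fr D hv]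
  have et : ({i, j} : Finset (Fin k)).erase t = {i, j} := Finset.erase_eq_of_notMem (by simp [hit.symm, hjt.symm])
  have e1 : (a + Cube.dlt t) i = a i := by simp [Cube.dlt_ne hit]
  have e2 : (a + Cube.dlt t) j = a j := by simp [Cube.dlt_ne hjt]
  rw [Cube.flip_apply, et]
  simp only [Finset.mem_insert, Finset.mem_singleton, forall_eq_or_imp, forall_eq, e1, e2]
  rcases z2_cases (a j) with hj | hj <;> rcases z2_cases (a i) with hi | hi <;>
    simp [hi, hj, S.pm_fr D hv, e1] <;> first | exact ⟨s, rfl⟩ | exact ⟨0, by simp [sg_zero]⟩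

theorem cc_z_fr (i j t : Fin k) (a : Fin k → Z2) :
    S.ccVal (D.z i) (D.z j) (D.z t) *ᵥ S.fr D v a =
      (if a i = 1 ∧ a j = 1 ∧ a t = 1 then (-1 : F) else 1) • S.fr D v a := by
  rw [ccVal, add_mulVec, one_mulVec, ← mulVec_mulVec, ← mulVec_mulVec, sub_mulVec, one_mulVec, S.z_fr D hv]
  simp only [mulVec_sub, mulVec_smul, S.pm_fr D hv]
  rcases z2_cases (a j) with hj | hj <;> rcases z2_cases (a i) with hi | hi <;>
    rcases z2_cases (a t) with ht | ht <;> simp [hi, hj, ht, S.pm_fr D hv, sg_zero, sg_one, neg_mulVec]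

theorem fr_orth {f : (ι → F) → (ι → F) → F} (hadj : ∀ X x y, f (S.τ X *ᵥ x) y = f x (X *ᵥ y))
    (hsl : ∀ (c : F) x y, f (c • x) y = c * f x y) (hsr : ∀ (c : F) x y, f x (c • y) = c * f x y)
    {a b : Fin k → Z2} (hab : a ≠ b) : f (S.fr D v a) (S.fr D v b) = 0 := by
  obtain ⟨i, hi⟩ := Function.ne_iff.1 hab
  have h := hadj (S.r (D.z i) : Matrix ι ι F) (S.fr D v a) (S.fr D v b)
  rw [S.adj, D.qz, sg_zero, one_smul, S.z_fr D hv, S.z_fr D hv, hsl, hsr] at h
  by_contra hne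
  exact hi (sg_inj S.two (mul_right_cancel₀ hne h))

theorem fr_span (hv0 : v ≠ 0) : ⊤ ≤ Submodule.span F (Set.range (S.fr D v)) := by
  classical
  obtain ⟨W, hW⟩ : ∃ W, W = Submodule.span F (Set.range (S.fr D v)) := ⟨_, rfl⟩
  have hz : ∀ (c : Fin k → Z2) (a : Fin k → Z2),
      ∃ d : F, (S.r (∑ i, c i • D.z i) : Matrix ι ι F) *ᵥ S.fr D v a = d • S.fr D v a := fun c a => by
    suffices h : ∀ s : Finset (Fin k),
        ∃ d : F, (S.r (∑ i ∈ s, c i • D.z i) : Matrix ι ι F) *ᵥ S.fr D v a = d • S.fr D v a from h Finset.univ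
    have h0 : ∃ d : F, (S.r 0 : Matrix ι ι F) *ᵥ S.fr D v a = d • S.fr D v a := by
      rcases S.r_zero with e | e <;> rw [e]
      · exact ⟨1, by simp⟩
      · exact ⟨-1, by rw [neg_mulVec, one_mulVec, neg_one_smul]⟩
    intro s
    induction s using Finset.induction with
    | empty => rw [Finset.sum_empty]; exact h0
    | insert j s hj ih =>
      obtain ⟨d, hd⟩ := ih
      rw [Finset.sum_insert hj]
      rcases z2_smul (c j) (D.z j) with e | e <;> rw [e]
      · rw [zero_add]; exact ⟨d, hd⟩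
      rcases S.mul (D.z j) (∑ i ∈ s, c i • D.z i) with e' | e'
      · exact ⟨d * sg F (a j), by rw [← e', ← mulVec_mulVec, hd, mulVec_smul, S.z_fr D hv, smul_smul]⟩
      · refine ⟨-(d * sg F (a j)), ?_⟩
        rw [← neg_neg (S.r (D.z j + ∑ i ∈ s, c i • D.z i) : Matrix ι ι F), ← e', neg_mulVec, ← mulVec_mulVec, hd,
          mulVec_smul, S.z_fr D hv, smul_smul, neg_smul]
  have hinv : ∀ (u : V) (y : ι → F), y ∈ W → (S.r u : Matrix ι ι F) *ᵥ y ∈ W := fun u y hy => by
    rw [hW] at hy ⊢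
    induction hy using Submodule.span_induction with
    | mem y hy =>
      obtain ⟨a, rfl⟩ := hy
      rw [D.gen u]
      obtain ⟨d, hd⟩ := hz (fun i => S.B u (D.x i)) (a + fun i => S.B u (D.z i))
      obtain ⟨s, hs⟩ := S.x_fr D hv (fun i => S.B u (D.z i)) a
      have key : ∀ M : Matrix ι ι F,
          M = (S.r (∑ i, S.B u (D.x i) • D.z i) : Matrix ι ι F) * (S.r (D.xa fun i => S.B u (D.z i)) : Matrix ι ι F) ∨
          M = -((S.r (∑ i, S.B u (D.x i) • D.z i) : Matrix ι ι F) * (S.r (D.xa fun i => S.B u (D.z i)) : Matrix ι ι F)) →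
          M *ᵥ S.fr D v a ∈ Submodule.span F (Set.range (S.fr D v)) := fun M hM => by
        have hm : ((S.r (∑ i, S.B u (D.x i) • D.z i) : Matrix ι ι F) * (S.r (D.xa fun i => S.B u (D.z i)) : Matrix ι ι F)) *ᵥ
            S.fr D v a ∈ Submodule.span F (Set.range (S.fr D v)) := by
          rw [← mulVec_mulVec, hs, mulVec_smul, hd]
          exact Submodule.smul_mem _ _ (Submodule.smul_mem _ _ (Submodule.subset_span ⟨_, rfl⟩))
        rcases hM with e | e <;> rw [e]
        · exact hm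
        · rw [neg_mulVec]; exact Submodule.neg_mem _ hm
      refine key _ ?_
      rcases S.mul (∑ i, S.B u (D.x i) • D.z i) (D.xa fun i => S.B u (D.z i)) with e | e
      · exact Or.inl e.symm
      · exact Or.inr (by rw [e, neg_neg]; rfl)
    | zero => simp
    | add y y' _ _ h1 h2 => rw [mulVec_add]; exact add_mem h1 h2
    | smul c y _ h1 => rw [mulVec_smul]; exact Submodule.smul_mem _ _ h1
  have hall : ∀ (X : Matrix ι ι F) (y : ι → F), y ∈ W → X *ᵥ y ∈ W := fun X y hy => by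
    have hX : X ∈ Submodule.span F (Set.range fun u => (S.r u : Matrix ι ι F)) := S.span Submodule.mem_top
    induction hX using Submodule.span_induction with
    | mem X hX => obtain ⟨u, rfl⟩ := hX; exact hinv u y hy
    | zero => simp
    | add X X' _ _ h1 h2 => rw [add_mulVec]; exact add_mem h1 h2
    | smul c X _ h1 => rw [smul_mulVec]; exact Submodule.smul_mem _ _ h1
  have hvW : v ∈ W := by
    have h0 : S.fr D v 0 ∈ W := hW ▸ Submodule.subset_span ⟨0, rfl⟩
    rw [fr, D.xa_zero] at h0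
    rcases S.r_zero with e | e <;> rw [e] at h0
    · simpa using h0
    · simpa [neg_mulVec] using h0
  intro y _
  obtain ⟨m, hm⟩ := Function.ne_iff.1 hv0
  have := hall (vecMulVec y (Pi.single m (v m)⁻¹)) v hvW
  rw [vecMulVec_mulVec, single_dotProduct, inv_mul_cancel₀ hm] at this
  rw [← hW]
  simpa using this

theorem not_mon_val [Fintype F] {i j : Fin k} (hij : i ≠ j) {n : ℕ} (L : (Fin n → F) ≃ₗ[F] (ι → F))
    (ξ : Fin n ≃ (Fin k → ZMod 2)) (hL : ∀ m, L (Pi.single m 1) = S.fr D v (ξ m)) {g : GL ι F}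
    (hg : (g : Matrix ι ι F) = 1 + S.pmVal (D.x i) * ((S.r (D.x j) : Matrix ι ι F) - 1)) :
    ¬ OrthFrame.Mon (OrthFrame.chg L g) := fun hmon => by
  obtain ⟨h0, hh0⟩ : ∃ h0, h0 = ξ.symm (0 : Fin k → Z2) := ⟨_, rfl⟩
  obtain ⟨hi0, hhi0⟩ : ∃ hi0, hi0 = ξ.symm (Cube.dlt i) := ⟨_, rfl⟩
  have hne : h0 ≠ hi0 := fun e => by
    rw [hh0, hhi0] at e
    have := congrFun (ξ.symm.injective e) i
    simp [Cube.dlt_same] at this
  have hv0' : S.fr D v 0 = v ∨ S.fr D v 0 = -v := by
    rw [fr, D.xa_zero]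
    rcases S.r_zero with e | e <;> rw [e]
    · exact Or.inl (one_mulVec v)
    · exact Or.inr (by rw [neg_mulVec, one_mulVec])
  obtain ⟨σ, hσ, hσ2⟩ : ∃ σ : F, S.fr D v 0 = σ • v ∧ σ * σ = 1 := by
    rcases hv0' with e | e
    · exact ⟨1, by simp [e], by simp⟩
    · exact ⟨-1, by simp [e], by simp⟩
  obtain ⟨a, ha⟩ := S.x_fr D hv (Cube.dlt i) (Cube.dlt j)
  have hri : (S.r (D.x i) : Matrix ι ι F) *ᵥ v = S.fr D v (Cube.dlt i) := by rw [fr, D.xa_dlt]
  have hrj : (S.r (D.x j) : Matrix ι ι F) *ᵥ v = S.fr D v (Cube.dlt j) := by rw [fr, D.xa_dlt]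
  rw [D.xa_dlt] at ha
  have hval : (g : Matrix ι ι F) *ᵥ S.fr D v 0 = (2 : F)⁻¹ • (S.fr D v 0 + σ • S.fr D v (Cube.dlt j) +
      σ • S.fr D v (Cube.dlt i) - (σ * sg F a) • S.fr D v (Cube.dlt j + Cube.dlt i)) := by
    rw [hg, hσ, mulVec_smul, add_mulVec, one_mulVec, ← mulVec_mulVec, sub_mulVec, one_mulVec, hrj, pmVal, smul_mulVec,
      sub_mulVec, one_mulVec, mulVec_sub, hri, ha]
    rw [smul_add σ v]
    conv_lhs => rw [show σ • v = (2 : F)⁻¹ • (σ • v + σ • v) by rw [← two_smul F (σ • v), smul_smul, inv_mul_cancel₀ S.two, one_smul]]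
    module
  have h1 : L.symm ((g : Matrix ι ι F) *ᵥ S.fr D v 0) = (2 : F)⁻¹ • ((Pi.single h0 1 : Fin n → F) +
      σ • Pi.single (ξ.symm (Cube.dlt j)) 1 + σ • Pi.single hi0 1 -
      (σ * sg F a) • Pi.single (ξ.symm (Cube.dlt j + Cube.dlt i)) 1) := by
    refine L.injective ?_
    rw [L.apply_symm_apply, hval]
    simp [hL, hh0, hhi0]
  obtain ⟨m, hm⟩ := hmon h0
  have hcol : ∀ l, l ≠ m → L.symm ((g : Matrix ι ι F) *ᵥ S.fr D v 0) l = 0 := fun l hl => by
    have h2 := hm l hl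
    have h3 := congrFun (OrthFrame.chg_mulVec L g (Pi.single h0 1)) l
    rw [Matrix.mulVec_single, MulOpposite.op_one, one_smul, Matrix.col_apply, h2, hL, hh0, Equiv.apply_symm_apply] at h3
    exact h3.symm
  have hdis : ∀ {p q : Fin k → Z2}, p ≠ q → ξ.symm p ≠ ξ.symm q := fun h e => h (ξ.symm.injective e)
  have d1 : (0 : Fin k → Z2) ≠ Cube.dlt j := fun e => by simpa [Cube.dlt_same] using congrFun e j
  have d2 : (0 : Fin k → Z2) ≠ Cube.dlt j + Cube.dlt i := fun e => by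
    simpa [Cube.dlt_same, Cube.dlt_ne hij] using congrFun e i
  have d3 : Cube.dlt i ≠ Cube.dlt j := fun e => by simpa [Cube.dlt_same, Cube.dlt_ne hij] using congrFun e i
  have d4 : Cube.dlt i ≠ Cube.dlt j + Cube.dlt i := fun e => by
    simpa [Cube.dlt_same, Cube.dlt_ne hij.symm] using congrFun e j
  have h2' : (2 : F)⁻¹ ≠ 0 := inv_ne_zero S.two
  rcases eq_or_ne h0 m with rfl | hm0
  · have := hcol hi0 hne.symm
    rw [h1, hh0, hhi0] at this
    simp [(hdis d3), (hdis d4), (hdis (show Cube.dlt i ≠ (0 : Fin k → Z2) from fun e => by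
      simpa [Cube.dlt_same] using congrFun e i)), S.two] at this
    rw [this, mul_zero] at hσ2
    exact zero_ne_one hσ2
  · have := hcol h0 hm0
    rw [h1, hh0, hhi0] at this
    simp [(hdis d1), (hdis d2), (hdis (show (0 : Fin k → Z2) ≠ Cube.dlt i from fun e => by
      simpa [Cube.dlt_same] using congrFun e i)), S.two] at this

end Sys

end Cfsg.Agent.Classical.CliffordTwo
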