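import Cfsg.Agent.Lib.Classical.CliffordTwo.Quad

/-!
Equality up to a central involution, and the dihedral argument for two involutions.
-/

set_option autoImplicit false
set_option linter.unusedSectionVars false

namespace Cfsg.Agent.Classical.CliffordTwo

variable {G : Type*} [Group G]

/-- A power of `ε` indexed by two elements. -/
def pw (ε : G) (s : ZMod 2) : G := if s = 0 then 1 else ε

/-- Equality up to the factor `ε`. -/
def Peq (ε a b : G) : Prop := a = b ∨ a = ε * b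

/-- A central involution. -/
structure CInv (ε : G) : Prop where
  central : ∀ g : G, ε * g = g * ε
  sq : ε * ε = 1
  ne : ε ≠ 1

namespace CInv

variable {ε : G} (hε : CInv ε)
include hε

theorem pw_zero : pw ε 0 = 1 := if_pos rfl

theorem pw_one : pw ε 1 = ε := if_neg one_ne_zero

theorem pw_add (s t : ZMod 2) : pw ε (s + t) = pw ε s * pw ε t := by
  rcases z2_cases s with rfl | rfl <;> rcases z2_cases t with rfl | rfl
  · simp [hε.pw_zero]
  · simp [hε.pw_zero]
  · simp [hε.pw_zero]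
  · rw [show (1 : ZMod 2) + 1 = 0 from rfl, hε.pw_zero, hε.pw_one, hε.sq]

theorem pw_comm (s : ZMod 2) (g : G) : pw ε s * g = g * pw ε s := by
  rcases z2_cases s with rfl | rfl
  · simp [hε.pw_zero]
  · rw [hε.pw_one, hε.central]

theorem pw_inj {s t : ZMod 2} (h : pw ε s = pw ε t) : s = t := by
  rcases z2_cases s with rfl | rfl <;> rcases z2_cases t with rfl | rfl
  · rfl
  · rw [hε.pw_zero, hε.pw_one] at h; exact absurd h.symm hε.ne
  · rw [hε.pw_zero, hε.pw_one] at h; exact absurd h hε.ne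
  · rfl

theorem eps_inv : ε⁻¹ = ε := inv_eq_of_mul_eq_one_right hε.sq

theorem refl (a : G) : Peq ε a a := Or.inl rfl

theorem symm {a b : G} (h : Peq ε a b) : Peq ε b a := by
  rcases h with h | h
  · exact Or.inl h.symm
  · exact Or.inr (by rw [h, ← mul_assoc, hε.sq, one_mul])

theorem trans {a b c : G} (h : Peq ε a b) (h' : Peq ε b c) : Peq ε a c := by
  rcases h with h | h <;> rcases h' with h' | h'
  · exact Or.inl (h.trans h')
  · exact Or.inr (h.trans h')
  · exact Or.inr (by rw [h, h'])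
  · exact Or.inl (by rw [h, h', ← mul_assoc, hε.sq, one_mul])

theorem mul {a b c d : G} (h : Peq ε a b) (h' : Peq ε c d) : Peq ε (a * c) (b * d) := by
  rcases h with h | h <;> rcases h' with h' | h' <;> rw [h, h']
  · exact Or.inl rfl
  · exact Or.inr (by rw [← mul_assoc, ← hε.central b, mul_assoc])
  · exact Or.inr (by rw [mul_assoc])
  · exact Or.inl (by rw [mul_assoc, ← mul_assoc b, ← hε.central b, mul_assoc ε b, ← mul_assoc ε ε, hε.sq, one_mul])

theorem mul_left (g : G) {a b : G} (h : Peq ε a b) : Peq ε (g * a) (g * b) := hε.mul (hε.refl g) h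

theorem mul_right (g : G) {a b : G} (h : Peq ε a b) : Peq ε (a * g) (b * g) := hε.mul h (hε.refl g)

theorem inv {a b : G} (h : Peq ε a b) : Peq ε a⁻¹ b⁻¹ := by
  rcases h with h | h
  · exact Or.inl (by rw [h])
  · exact Or.inr (by rw [h, mul_inv_rev, hε.eps_inv, hε.central])

theorem conj (g : G) {a b : G} (h : Peq ε a b) : Peq ε (g * a * g⁻¹) (g * b * g⁻¹) :=
  hε.mul_right _ (hε.mul_left g h)

theorem pw_peq (s : ZMod 2) : Peq ε (pw ε s) 1 := by
  rcases z2_cases s with rfl | rfl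
  · exact Or.inl hε.pw_zero
  · exact Or.inr (by rw [hε.pw_one, mul_one])

theorem pw_mul_peq (s : ZMod 2) (a : G) : Peq ε (pw ε s * a) a := by
  simpa using hε.mul_right a (hε.pw_peq s)

theorem exists_pw {a b : G} (h : Peq ε a b) : ∃ s, a = pw ε s * b := by
  rcases h with h | h
  · exact ⟨0, by rw [hε.pw_zero, one_mul, h]⟩
  · exact ⟨1, by rw [hε.pw_one, h]⟩

theorem conj_eps (g : G) : g * ε * g⁻¹ = ε := by rw [← hε.central, mul_inv_cancel_right]

theorem conj_pw (g : G) (s : ZMod 2) : g * pw ε s * g⁻¹ = pw ε s := by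
  rw [← hε.pw_comm, mul_inv_cancel_right]

theorem eps_mem {H : Subgroup G} (h : ε ∈ H) {a b : G} (hab : Peq ε a b) (hb : b ∈ H) : a ∈ H := by
  rcases hab with e | e
  · exact e ▸ hb
  · exact e ▸ mul_mem h hb

/-- The sign of commutation of `x` with `y`. -/
theorem comm_sign_conj {g x y : G} {s : ZMod 2} (h : x * y = pw ε s * (y * x)) :
    (g * x * g⁻¹) * (g * y * g⁻¹) = pw ε s * ((g * y * g⁻¹) * (g * x * g⁻¹)) := by
  calc g * x * g⁻¹ * (g * y * g⁻¹) = g * (x * y) * g⁻¹ := by simp [mul_assoc]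
    _ = g * pw ε s * g⁻¹ * (g * (y * x) * g⁻¹) := by rw [h]; simp [mul_assoc]
    _ = _ := by rw [hε.conj_pw]; simp [mul_assoc]

theorem comm_sign_peq {x x' y y' : G} {s : ZMod 2} (hx : Peq ε x x') (hy : Peq ε y y')
    (h : x * y = pw ε s * (y * x)) : x' * y' = pw ε s * (y' * x') := by
  obtain ⟨a, rfl⟩ := hε.exists_pw hx
  obtain ⟨b, rfl⟩ := hε.exists_pw hy
  have e : ∀ a b : ZMod 2, ∀ u v : G, pw ε a * u * (pw ε b * v) = pw ε (a + b) * (u * v) := fun a b u v => by
    rw [hε.pw_add, mul_assoc, ← mul_assoc u, ← hε.pw_comm b u]; simp [mul_assoc]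
  rw [e, e, ← mul_assoc (pw ε s), ← hε.pw_add, add_comm s, add_comm b a, hε.pw_add, hε.pw_add (a + b) s,
    hε.pw_add a b] at h
  simp only [mul_assoc] at h
  exact mul_left_cancel (mul_left_cancel h)

theorem comm_sign_unique {x y : G} {s t : ZMod 2} (h : x * y = pw ε s * (y * x)) (h' : x * y = pw ε t * (y * x)) :
    s = t := hε.pw_inj (mul_right_cancel (h.symm.trans h'))

theorem comm_sign_symm {x y : G} {s : ZMod 2} (h : x * y = pw ε s * (y * x)) : y * x = pw ε s * (x * y) := by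
  rw [h, ← mul_assoc, ← hε.pw_add, z2_add_self, hε.pw_zero, one_mul]

theorem comm_sign_mul {x x' y : G} {s t : ZMod 2} (h : x * y = pw ε s * (y * x))
    (h' : x' * y = pw ε t * (y * x')) : (x * x') * y = pw ε (s + t) * (y * (x * x')) := by
  rw [mul_assoc, h', ← mul_assoc x, ← hε.pw_comm, mul_assoc (pw ε t), ← mul_assoc x, h, ← mul_assoc (pw ε t),
    ← mul_assoc (pw ε t), ← hε.pw_add, add_comm t s]
  simp only [mul_assoc]

theorem comm_sign_of_conj {x y : G} (h : Peq ε (x * y * x⁻¹) y) : ∃ s, x * y = pw ε s * (y * x) := by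
  obtain ⟨s, hs⟩ := hε.exists_pw h
  exact ⟨s, by rw [← mul_assoc, ← hs, inv_mul_cancel_right]⟩

theorem conj_of_comm_sign {x y : G} {s : ZMod 2} (h : x * y = pw ε s * (y * x)) : Peq ε (x * y * x⁻¹) y := by
  rw [h, mul_assoc, mul_inv_cancel_right]
  exact hε.pw_mul_peq s y

theorem conj_symm {x y : G} (h : Peq ε (x * y * x⁻¹) y) : Peq ε (y * x * y⁻¹) x := by
  obtain ⟨s, hs⟩ := hε.comm_sign_of_conj h
  exact hε.conj_of_comm_sign (hε.comm_sign_symm hs)

theorem comm_sign_pow {x y : G} {s : ZMod 2} (h : x * y = pw ε s * (y * x)) (k : ℕ) :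
    x ^ k * y = pw ε ((k : ZMod 2) * s) * (y * x ^ k) := by
  induction k with
  | zero => simp [hε.pw_zero]
  | succ k ih => rw [pow_succ, hε.comm_sign_mul ih h, Nat.cast_add, Nat.cast_one, add_mul, one_mul]

/-- Two involutions up to `ε`: they are conjugate, or the middle power of their product is central. -/
theorem dihedral [Finite G] {u v : G} (hu : Peq ε (u * u) 1) (hv : Peq ε (v * v) 1) :
    (∃ l : ℕ, Peq ε v (((u * v) ^ l)⁻¹ * u * (u * v) ^ l)) ∨
    (∃ k : ℕ, ¬ Peq ε ((u * v) ^ k) 1 ∧ Peq ε (u * (u * v) ^ k * u⁻¹) ((u * v) ^ k) ∧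
      Peq ε (v * (u * v) ^ k * v⁻¹) ((u * v) ^ k) ∧
        ((Even k ∧ ∃ l : ℕ, Peq ε (u * (u * v) ^ k) (((u * v) ^ l)⁻¹ * u * (u * v) ^ l)) ∨
         (Odd k ∧ ∃ l : ℕ, Peq ε (v * (u * v) ^ k) (((u * v) ^ l)⁻¹ * u * (u * v) ^ l)))) := by
  classical
  obtain ⟨c, hc⟩ : ∃ c, c = u * v := ⟨_, rfl⟩
  rw [← hc]
  have hex : ∃ n, 0 < n ∧ Peq ε (c ^ n) 1 := ⟨orderOf c, orderOf_pos c, Or.inl (pow_orderOf_eq_one c)⟩
  obtain ⟨hn0, hn⟩ := Nat.find_spec hex
  have hinv : ∀ {x : G}, Peq ε (x * x) 1 → Peq ε x⁻¹ x := fun {x} hx => by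
    have h := hε.mul_right x⁻¹ hx
    rw [mul_inv_cancel_right, one_mul] at h
    exact hε.symm h
  have huv : Peq ε v (u * c) := by
    have h := hε.mul_right v hu
    rw [one_mul, mul_assoc] at h
    exact hc ▸ hε.symm h
  -- both invert the product
  have huc : ∀ j : ℕ, Peq ε (u * c ^ j * u⁻¹) (c ^ j)⁻¹ := by
    have h1 : Peq ε (u * c * u⁻¹) c⁻¹ := by
      rw [hc, mul_inv_rev]
      refine hε.trans (hε.mul_right u⁻¹ (hc ▸ hε.symm huv)) ?_
      exact hε.mul_right _ (hε.symm (hinv hv))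
    intro j
    induction j with
    | zero => simp [hε.refl]
    | succ j ih =>
      have h := hε.mul h1 ih
      rw [show u * c * u⁻¹ * (u * c ^ j * u⁻¹) = u * c ^ (j + 1) * u⁻¹ by rw [pow_succ']; simp [mul_assoc],
        show c⁻¹ * (c ^ j)⁻¹ = (c ^ (j + 1))⁻¹ by rw [pow_succ, mul_inv_rev]] at h
      exact h
  have hconj : ∀ l : ℕ, Peq ε (u * c ^ (2 * l)) ((c ^ l)⁻¹ * u * c ^ l) := fun l => by
    have h := hε.mul_right (u * c ^ l) (huc l)
    rw [show u * c ^ l * u⁻¹ * (u * c ^ l) = u * c ^ (2 * l) by rw [two_mul, pow_add]; simp [mul_assoc],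
      ← mul_assoc] at h
    exact h
  have hshift : ∀ k : ℕ, Peq ε (v * c ^ k) (u * c ^ (k + 1)) := fun k => by
    rw [pow_succ', ← mul_assoc]
    exact hε.mul_right _ huv
  rcases Nat.even_or_odd' (Nat.find hex) with ⟨k, hk | hk⟩
  · have h1 : Peq ε (u * c ^ k * u⁻¹) (c ^ k) := by
      refine hε.trans (huc k) ?_
      have h := hε.mul_right (c ^ k)⁻¹ hn
      rw [hk, two_mul, pow_add, mul_inv_cancel_right, one_mul] at h
      exact hε.symm h
    refine Or.inr ⟨k, fun h => Nat.find_min hex (show k < Nat.find hex by omega) ⟨by omega, h⟩, h1, ?_, ?_⟩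
    · refine hε.trans ?_ h1
      have h := hε.mul (hε.mul_right (c ^ k) huv) (hε.inv huv)
      rw [show u * c * c ^ k * (u * c)⁻¹ = u * (c * c ^ k * c⁻¹) * u⁻¹ by simp [mul_assoc],
        show c * c ^ k * c⁻¹ = c ^ k by rw [← pow_succ', pow_succ, mul_inv_cancel_right]] at h
      exact h
    · rcases Nat.even_or_odd' k with ⟨l, hl | hl⟩
      · exact Or.inl ⟨⟨l, by omega⟩, l, by rw [hl]; exact hconj l⟩
      · refine Or.inr ⟨⟨l, hl⟩, l + 1, hε.trans (hshift k) ?_⟩
        rw [hl, show 2 * l + 1 + 1 = 2 * (l + 1) by ring]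
        exact hconj (l + 1)
  · refine Or.inl ⟨k + 1, hε.trans ?_ (hconj (k + 1))⟩
    have h := hε.mul_left v hn
    rw [mul_one] at h
    refine hε.trans (hε.symm h) ?_
    rw [hk, show 2 * (k + 1) = 2 * k + 1 + 1 by ring]
    exact hshift _

end CInv

end Cfsg.Agent.Classical.CliffordTwo
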