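import Mathlib

/-!
A linear family of non-degenerate alternating matrices over the field with two elements has at most half the
dimension of the matrices.
-/

set_option autoImplicit false

namespace Cfsg.Agent.Classical.CliffordTwo

open Matrix Finset

local notation "Z2" => ZMod 2

theorem z2_mul_self (a : ZMod 2) : a * a = a := by revert a; decide

theorem z2_add_self (a : ZMod 2) : a + a = 0 := by revert a; decide

theorem z2_smul_sign {d : ℕ} (σ : Equiv.Perm (Fin d)) (a : ZMod 2) : Equiv.Perm.sign σ • a = a := by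
  rcases Int.units_eq_one_or (Equiv.Perm.sign σ) with h | h <;> rw [h]
  · exact one_smul _ a
  · rw [Units.smul_def, Units.val_neg, Units.val_one, neg_one_zsmul]
    exact ZMod.neg_eq_self_mod_two a

/-- The determinant of an alternating matrix over two elements is a sum over fixed point free involutions. -/
theorem det_alt {d : ℕ} (A : Matrix (Fin d) (Fin d) (ZMod 2)) (hs : ∀ i j, A i j = A j i) (hd : ∀ i, A i i = 0) :
    A.det = ∑ σ ∈ (univ : Finset (Equiv.Perm (Fin d))) with σ⁻¹ = σ ∧ ∀ i, σ i ≠ i, ∏ i, A (σ i) i := by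
  classical
  obtain ⟨f, hf⟩ : ∃ f : Equiv.Perm (Fin d) → Z2, f = fun σ => ∏ i, A (σ i) i := ⟨_, rfl⟩
  have hinv : ∀ σ, f σ⁻¹ = f σ := fun σ => by
    simp only [hf]
    rw [← Equiv.prod_comp σ (fun i => A (σ⁻¹ i) i)]
    exact Finset.prod_congr rfl fun i _ => by simp [hs]
  rw [Matrix.det_apply]
  simp only [z2_smul_sign]
  rw [show (fun σ : Equiv.Perm (Fin d) => ∏ i, A (σ i) i) = f from hf.symm, ← Finset.sum_filter_add_sum_filter_not univ
    (fun σ : Equiv.Perm (Fin d) => σ⁻¹ = σ ∧ ∀ i, σ i ≠ i) f, add_eq_left]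
  refine Finset.sum_involution (fun σ _ => σ⁻¹) (fun σ _ => by rw [hinv]; exact z2_add_self _) (fun σ hσ hne he => ?_)
    (fun σ hσ => ?_) fun σ _ => inv_inv σ
  · rw [Finset.mem_filter] at hσ
    refine hσ.2 ⟨he, fun i hi => hne ?_⟩
    simp only [hf]
    exact Finset.prod_eq_zero (Finset.mem_univ i) (by rw [hi, hd])
  · rw [Finset.mem_filter] at hσ ⊢
    refine ⟨Finset.mem_univ _, fun h => hσ.2 ⟨?_, ?_⟩⟩
    · rw [inv_inv] at h; exact h.1.symm
    · intro i hi
      exact h.2 i (by conv_lhs => rw [← hi]; simp)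

/-- A product over all points of an involution-invariant function is the product over half of them. -/
theorem prod_half {d : ℕ} {σ : Equiv.Perm (Fin d)} (hσ : σ⁻¹ = σ) (hne : ∀ i, σ i ≠ i) :
    ∃ J : Finset (Fin d), 2 * J.card = d ∧
      ∀ g : Fin d → ZMod 2, (∀ i, g (σ i) = g i) → ∏ i, g i = ∏ i ∈ J, g i := by
  classical
  have hss : ∀ i, σ (σ i) = i := fun i => by
    conv_lhs => arg 1; rw [← hσ]
    simp
  obtain ⟨J, hJ⟩ : ∃ J : Finset (Fin d), J = univ.filter fun i => i < σ i := ⟨_, rfl⟩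
  have hc : Jᶜ = J.image σ := by
    ext i
    simp only [hJ, Finset.mem_compl, Finset.mem_filter, Finset.mem_univ, true_and, Finset.mem_image, not_lt]
    constructor
    · exact fun h => ⟨σ i, lt_of_lt_of_eq (lt_of_le_of_ne h (hne i)) (hss i).symm, hss i⟩
    · rintro ⟨a, ha, rfl⟩
      rw [hss]; exact ha.le
  refine ⟨J, ?_, fun g hg => ?_⟩
  · have h1 := Finset.card_compl_add_card J
    rw [hc, Finset.card_image_of_injective _ σ.injective, Fintype.card_fin] at h1
    omega
  · rw [← Finset.prod_mul_prod_compl J g, hc, Finset.prod_image fun a _ b _ h => σ.injective h,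
      ← Finset.prod_mul_distrib]
    exact Finset.prod_congr rfl fun i _ => by rw [hg, z2_mul_self]

/-- A linear family of non-degenerate alternating forms on `d` points has dimension at most `d / 2`. -/
theorem alt_family_le {S : Type*} [AddCommGroup S] [Module (ZMod 2) S] [Finite S] {d : ℕ} (hd0 : 0 < d)
    (A : S →ₗ[ZMod 2] Matrix (Fin d) (Fin d) (ZMod 2)) (hs : ∀ x i j, A x i j = A x j i) (hd : ∀ x i, A x i i = 0)
    (hA : ∀ x, x ≠ 0 → (A x).det ≠ 0) : 2 * Module.finrank (ZMod 2) S ≤ d := by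
  classical
  by_contra hlt
  rw [not_le] at hlt
  letI : Fintype S := Fintype.ofFinite S
  have hone : ∀ x : S, (A x).det = if x = 0 then 0 else 1 := fun x => by
    rcases eq_or_ne x 0 with rfl | hx
    · rw [if_pos rfl, map_zero]
      haveI : Nonempty (Fin d) := ⟨⟨0, hd0⟩⟩
      exact Matrix.det_zero
    · rw [if_neg hx]
      exact (show ∀ a : Z2, a ≠ 0 → a = 1 by decide) _ (hA x hx)
  have hsum0 : ∑ x : S, (A x).det = 0 := by
    simp only [fun x => det_alt (A x) (hs x) (hd x)]
    rw [Finset.sum_comm]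
    refine Finset.sum_eq_zero fun σ hσ => ?_
    rw [Finset.mem_filter] at hσ
    obtain ⟨J, hJc, hJ⟩ := prod_half hσ.2.1 hσ.2.2
    have hg : ∀ x, ∏ i, A x (σ i) i = ∏ i ∈ J, A x (σ i) i := fun x => hJ _ fun i => by
      have : σ (σ i) = i := by
        conv_lhs => arg 1; rw [← hσ.2.1]
        simp
      rw [this, hs]
    simp only [hg]
    obtain ⟨L, hL⟩ : ∃ L : S →ₗ[Z2] (J → Z2), ∀ x i, L x i = A x (σ i) i :=
      ⟨LinearMap.pi fun i : J => (Matrix.entryLinearMap Z2 Z2 (σ i) (i : Fin d)).comp A, fun _ _ => rfl⟩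
    obtain ⟨x₀, hx₀, hne⟩ := Submodule.exists_mem_ne_zero_of_ne_bot (p := LinearMap.ker L) fun hbot => by
      have h := LinearMap.finrank_le_finrank_of_injective (LinearMap.ker_eq_bot.1 hbot)
      rw [Module.finrank_fintype_fun_eq_card, Fintype.card_coe] at h
      omega
    have h2 : ∀ x : S, x + x = 0 := fun x => by
      have h := add_smul (1 : Z2) 1 x
      rwa [z2_add_self, zero_smul, one_smul, eq_comm] at h
    refine Finset.sum_involution (fun x _ => x + x₀) (fun x _ => ?_) (fun x _ _ h => hne (add_eq_left.1 h))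
      (fun x _ => Finset.mem_univ _) fun x _ => by rw [add_assoc, h2, add_zero]
    have : ∀ i ∈ J, A (x + x₀) (σ i) i = A x (σ i) i := fun i hi => by
      have h3 := congrFun (LinearMap.mem_ker.1 hx₀) ⟨i, hi⟩
      rw [hL] at h3
      rw [map_add, Matrix.add_apply, h3]; exact add_zero _
    rw [Finset.prod_congr rfl this]
    exact z2_add_self _
  simp only [hone] at hsum0
  rw [← Finset.add_sum_erase _ _ (Finset.mem_univ (0 : S)), if_pos rfl, zero_add,
    Finset.sum_congr rfl (g := fun _ => (1 : Z2)) (fun x hx => if_neg (Finset.ne_of_mem_erase hx)),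
    Finset.sum_const, nsmul_one, Finset.card_erase_of_mem (Finset.mem_univ _), Finset.card_univ] at hsum0
  have hcard : Fintype.card S = 2 ^ Module.finrank Z2 S := by
    rw [Module.card_eq_pow_finrank (K := Z2) (V := S), ZMod.card]
  have hpos : 0 < Module.finrank Z2 S := by omega
  rw [hcard] at hsum0
  have he : (2 : ℕ) ∣ 2 ^ Module.finrank Z2 S - 1 := (ZMod.natCast_eq_zero_iff_even.1 hsum0).two_dvd
  obtain ⟨k, hk⟩ := Nat.exists_eq_succ_of_ne_zero hpos.ne'
  rw [hk, pow_succ] at he
  have := Nat.one_le_two_pow (n := k)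
  omega

end Cfsg.Agent.Classical.CliffordTwo
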