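import Cfsg.Agent.Lib.Classical.CliffordTwo.SympEnd

/-!
The derived group of the isometries does not normalise the two-group.
-/

set_option autoImplicit false
set_option linter.unusedSectionVars false

namespace Cfsg.Agent.Classical.CliffordTwo

open Module

namespace Sys

variable {F : Type*} [Field F] [Fintype F] {A : Type*} [Ring A] [Algebra F A] [Finite A] {V : Type*} [AddCommGroup V]
  [Module (ZMod 2) V] [Finite V] (S : Sys F A V)

/-- A controlled element normalising the two-group is in the smaller two-group. -/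
theorem mem_R_of_ctl_mem_N (h : HPair S.toQd) {c : (S.sub h).Iso} (hN : S.ctl h c ∈ S.gsys.N) :
    S.Psi h (c, c⁻¹) ∈ S.gsys.R := by
  have e1 : S.ctl h c * S.rI h.x * (S.ctl h c)⁻¹ * (S.rI h.x)⁻¹ = S.Psi h (c⁻¹, c) := by
    calc S.ctl h c * S.rI h.x * (S.ctl h c)⁻¹ * (S.rI h.x)⁻¹
        = S.ctl h c * (S.rI h.x * S.ctl h c⁻¹ * (S.rI h.x)⁻¹) := by rw [map_inv]; simp only [mul_assoc]
      _ = _ := by rw [ctl_apply, ctl_apply, S.swap_Psi, ← map_mul, Prod.mk_mul_mk, one_mul, mul_one]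
  obtain ⟨w, hw⟩ := hN h.x
  have h1 : S.Psi h (c⁻¹, c) ∈ S.gsys.R := e1 ▸ S.gsys.R.mul_mem ⟨w, hw⟩ (S.gsys.R.inv_mem (S.gsys.r_mem h.x))
  have h2 := S.gsys.R.inv_mem h1
  rwa [← map_inv, Prod.inv_mk, inv_inv] at h2

/-- Some element of the derived group does not normalise. -/
theorem exists_not_mem_N (hd : 8 ≤ finrank (ZMod 2) V) :
    ∃ g ∈ _root_.commutator S.Iso, g ∉ S.gsys.N := by
  obtain ⟨z, -, hz0, hqz⟩ := S.toQd.exists_singular (W := ⊤) (by rw [finrank_top]; omega)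
  obtain ⟨h, -⟩ := S.exists_hpair (by omega) hz0 hqz
  have hW := h.finrank_W
  obtain ⟨z', -, hz'0, hqz'⟩ := h.qd.exists_singular (W := ⊤) (by rw [finrank_top]; omega)
  obtain ⟨h', -⟩ := (S.sub h).exists_hpair (by omega) hz'0 hqz'
  have hW' := h'.finrank_W
  haveI : Nontrivial h'.W := Module.nontrivial_of_finrank_pos (R := ZMod 2) (by omega)
  obtain ⟨w, hw⟩ := exists_ne (0 : h'.W)
  obtain ⟨u, hu⟩ : ∃ u, u = ((S.sub h).sub h').rI w := ⟨_, rfl⟩
  refine ⟨S.ctl h ((S.sub h).ctl h' u), S.ctl_commutator h ((S.sub h).ctl_commutator h'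
    (hu ▸ ((S.sub h).sub h').r_mem_commutator (by omega) w)), fun hN => hw ?_⟩
  obtain ⟨y, hy⟩ := Sys.Psi_fst_mem_R h (S.mem_R_of_ctl_mem_N h hN)
  have hc := (S.sub h).cinv_epsI
  have h1 : Peq (S.sub h).epsI ((S.sub h).rI h'.x * (S.sub h).ctl h' u * ((S.sub h).rI h'.x)⁻¹)
      ((S.sub h).ctl h' u) :=
    hc.trans (hc.conj _ hy) (hc.trans ((S.sub h).gsys.conj_r h'.x y) (hc.symm hy))
  rw [ctl_apply, (S.sub h).swap_Psi] at h1
  rcases h1 with e | e
  · refine ((S.sub h).sub h').gsys.inj w (Or.inl ?_)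
    exact hu.symm.trans (congrArg Prod.fst ((S.sub h).Psi_injective h' e))
  · have h2 : (S.sub h).Psi h' (u, 1) = (S.sub h).Psi h' (((S.sub h).sub h').epsI, ((S.sub h).sub h').epsI * u) := by
      rw [e, show ((((S.sub h).sub h').epsI, ((S.sub h).sub h').epsI * u) : ((S.sub h).sub h').Iso × _) =
          (((S.sub h).sub h').epsI, ((S.sub h).sub h').epsI) * (1, u) by rw [Prod.mk_mul_mk, mul_one],
        map_mul, ← dia_apply]
      congr 1
      exact (S.sub h).ext_val (by rw [(S.sub h).dia_val]; simp [epsI])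
    refine ((S.sub h).sub h').gsys.inj w (Or.inr ?_)
    rw [mul_one]
    exact hu.symm.trans (congrArg Prod.fst ((S.sub h).Psi_injective h' h2))

end Sys

end Cfsg.Agent.Classical.CliffordTwo
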