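import Cfsg.Agent.Lib.Classical.CliffordTwo.Pfaffian

/-!
Quadratic spaces over the field with two elements: singular vectors, perpendiculars, Siegel transformations.
-/

set_option autoImplicit false
set_option linter.unusedSectionVars false

namespace Cfsg.Agent.Classical.CliffordTwo

open Module

local notation "Z2" => ZMod 2

/-- A quadratic form over two elements with non-degenerate polar form. -/
structure Qd (V : Type*) [AddCommGroup V] [Module (ZMod 2) V] where
  /-- the form -/
  q : V → ZMod 2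
  /-- its polar form -/
  B : LinearMap.BilinForm (ZMod 2) V
  polar : ∀ v w, q (v + w) = q v + q w + B v w
  sep : ∀ v, (∀ w, B v w = 0) → v = 0

theorem z2_eq_one {a : ZMod 2} (h : a ≠ 0) : a = 1 := by revert a; decide

theorem z2_cases (a : ZMod 2) : a = 0 ∨ a = 1 := by revert a; decide

theorem z2_add_eq_zero {a b : ZMod 2} : a + b = 0 ↔ a = b := by revert a b; decide

theorem vadd_self {V : Type*} [AddCommGroup V] [Module (ZMod 2) V] (x : V) : x + x = 0 := by
  have h := add_smul (1 : Z2) 1 x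
  rwa [z2_add_self, zero_smul, one_smul, eq_comm] at h

theorem vadd_eq_zero {V : Type*} [AddCommGroup V] [Module (ZMod 2) V] {x y : V} (h : x + y = 0) : x = y :=
  calc x = x + (y + y) := by rw [vadd_self, add_zero]
    _ = y := by rw [← add_assoc, h, zero_add]

theorem z2_smul {V : Type*} [AddCommGroup V] [Module (ZMod 2) V] (c : ZMod 2) (x : V) : c • x = 0 ∨ c • x = x := by
  rcases z2_cases c with rfl | rfl
  · exact Or.inl (zero_smul _ x)
  · exact Or.inr (one_smul _ x)

theorem mem_span_one {V : Type*} [AddCommGroup V] [Module (ZMod 2) V] {x v : V}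
    (h : x ∈ Submodule.span (ZMod 2) ({v} : Set V)) : x = 0 ∨ x = v := by
  obtain ⟨c, rfl⟩ := Submodule.mem_span_singleton.1 h
  exact z2_smul c v

variable {V : Type*} [AddCommGroup V] [Module (ZMod 2) V]

namespace Qd

variable (Q : Qd V)

theorem q_zero : Q.q 0 = 0 := by
  have h := Q.polar 0 0
  simpa [z2_add_self] using h

theorem self_perp (v : V) : Q.B v v = 0 := by
  have h := Q.polar v v
  rwa [vadd_self, Q.q_zero, z2_add_self, zero_add, eq_comm] at h

theorem symm (v w : V) : Q.B v w = Q.B w v := by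
  have h1 := Q.polar v w
  have h2 := Q.polar w v
  rw [add_comm w v, h1, add_comm (Q.q w)] at h2
  exact add_left_cancel h2

theorem refl : LinearMap.BilinForm.IsRefl Q.B := fun x y h => (Q.symm y x).trans h

theorem nondeg : LinearMap.BilinForm.Nondegenerate Q.B :=
  ⟨fun v h => Q.sep v h, fun v h => Q.sep v fun w => (Q.symm v w).trans (h w)⟩

/-- The perpendicular. -/
def perp (W : Submodule (ZMod 2) V) : Submodule (ZMod 2) V := LinearMap.BilinForm.orthogonal Q.B W

theorem mem_perp {W : Submodule (ZMod 2) V} {x : V} : x ∈ Q.perp W ↔ ∀ w ∈ W, Q.B w x = 0 := Iff.rfl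

theorem mem_perp_span {S : Set V} {x : V} : x ∈ Q.perp (Submodule.span (ZMod 2) S) ↔ ∀ s ∈ S, Q.B s x = 0 := by
  refine ⟨fun h s hs => h s (Submodule.subset_span hs), fun h w hw => ?_⟩
  induction hw using Submodule.span_induction with
  | mem a ha => exact h a ha
  | zero => simp [LinearMap.BilinForm.IsOrtho]
  | add a b _ _ ha hb => simp_all [LinearMap.BilinForm.IsOrtho]
  | smul c a _ ha => simp_all [LinearMap.BilinForm.IsOrtho]

theorem mem_perp_two {a b x : V} : x ∈ Q.perp (Submodule.span (ZMod 2) {a, b}) ↔ Q.B a x = 0 ∧ Q.B b x = 0 := by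
  rw [mem_perp_span]; simp

theorem mem_perp_one {a x : V} : x ∈ Q.perp (Submodule.span (ZMod 2) {a}) ↔ Q.B a x = 0 := by
  rw [mem_perp_span]; simp

theorem perp_anti {U W : Submodule (ZMod 2) V} (h : U ≤ W) : Q.perp W ≤ Q.perp U := fun _ hx u hu => hx u (h hu)

variable [Finite V]

theorem finrank_perp (W : Submodule (ZMod 2) V) : finrank Z2 (Q.perp W) = finrank Z2 V - finrank Z2 W :=
  LinearMap.BilinForm.finrank_orthogonal Q.nondeg W

theorem perp_perp (W : Submodule (ZMod 2) V) : Q.perp (Q.perp W) = W :=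
  LinearMap.BilinForm.orthogonal_orthogonal Q.nondeg Q.refl W

theorem le_perp_comm {U W : Submodule (ZMod 2) V} (h : U ≤ Q.perp W) : W ≤ Q.perp U := fun w hw u hu =>
  (Q.symm u w).trans (h hu w hw)

theorem finrank_span_pair_le (a b : V) : finrank Z2 (Submodule.span Z2 ({a, b} : Set V)) ≤ 2 := by
  classical
  refine (finrank_span_le_card ({a, b} : Set V)).trans ?_
  rw [Set.toFinset_insert, Set.toFinset_singleton]
  exact Finset.card_le_two

theorem finrank_span_one_le (a : V) : finrank Z2 (Submodule.span Z2 ({a} : Set V)) ≤ 1 := by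
  classical
  refine (finrank_span_le_card ({a} : Set V)).trans ?_
  simp

/-- Outside a subspace, linear functionals take every value on its perpendicular. -/
theorem exists_perp_one {S : Submodule (ZMod 2) V} {v : V} (hv : v ∉ S) : ∃ w ∈ Q.perp S, Q.B v w = 1 := by
  by_contra hcon
  push Not at hcon
  refine hv (Q.perp_perp S ▸ fun w hw => ?_)
  show Q.B w v = 0
  rw [Q.symm]
  exact (z2_cases _).resolve_right (hcon w hw)

theorem exists_singular_outside {W E : Submodule (ZMod 2) V} (h : finrank Z2 E + 3 ≤ finrank Z2 W) :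
    ∃ x ∈ W, x ∉ E ∧ Q.q x = 0 := by
  obtain ⟨C, hC⟩ := (Submodule.comap W.subtype E).exists_isCompl
  have hC3 : 3 ≤ finrank Z2 C := by
    have h1 := Submodule.finrank_add_eq_of_isCompl hC
    have h2 : finrank Z2 (Submodule.comap W.subtype E) ≤ finrank Z2 E :=
      LinearMap.finrank_le_finrank_of_injective
        (f := (W.subtype ∘ₗ (Submodule.comap W.subtype E).subtype).codRestrict E fun x => x.2) fun a b e =>
          Subtype.ext (Subtype.ext (congrArg (fun u : E => (u : V)) e))
    omega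
  obtain ⟨a, ha, ha0⟩ := Submodule.exists_mem_ne_zero_of_ne_bot (p := C) fun e => by
    rw [e, finrank_bot] at hC3; omega
  have key : ∀ x : W, x ∈ C → x ≠ 0 → Q.q (x : V) = 0 → ∃ x ∈ W, x ∉ E ∧ Q.q x = 0 := fun x hx hx0 hq =>
    ⟨x, x.2, fun he => hx0 ((Submodule.disjoint_def.1 hC.disjoint) x he hx), hq⟩
  by_cases hqa : Q.q (a : V) = 0
  · exact key a ha ha0 hqa
  obtain ⟨K, hK⟩ : ∃ K : Submodule Z2 W, K = C ⊓ LinearMap.ker ((Q.B (a : V)).comp W.subtype) := ⟨_, rfl⟩
  have hK2 : 2 ≤ finrank Z2 K := by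
    have h1 := Submodule.finrank_sup_add_finrank_inf_eq C (LinearMap.ker ((Q.B (a : V)).comp W.subtype))
    have h2 := LinearMap.finrank_range_add_finrank_ker ((Q.B (a : V)).comp W.subtype)
    have h3 : finrank Z2 (LinearMap.range ((Q.B (a : V)).comp W.subtype)) ≤ 1 :=
      le_trans (Submodule.finrank_le _) (le_of_eq (Module.finrank_self Z2))
    have h4 := Submodule.finrank_le (C ⊔ LinearMap.ker ((Q.B (a : V)).comp W.subtype))
    rw [← hK] at h1
    omega
  obtain ⟨b, hb, hba⟩ : ∃ b ∈ K, b ∉ Submodule.span Z2 ({a} : Set W) := by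
    by_contra hcon
    push Not at hcon
    have := (Submodule.finrank_mono (show K ≤ Submodule.span Z2 ({a} : Set W) from hcon)).trans
      (finrank_span_singleton ha0).le
    omega
  rw [hK] at hb
  have hb0 : b ≠ 0 := fun e => hba (e ▸ zero_mem _)
  by_cases hqb : Q.q (b : V) = 0
  · exact key b hb.1 hb0 hqb
  refine key (a + b) (add_mem ha hb.1) (fun e => hba ((vadd_eq_zero e) ▸ Submodule.mem_span_singleton_self a)) ?_
  have hab : Q.B (a : V) (b : V) = 0 := hb.2
  rw [Submodule.coe_add, Q.polar, z2_eq_one hqa, z2_eq_one hqb, hab]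
  rfl

theorem exists_singular {W : Submodule (ZMod 2) V} (h : 3 ≤ finrank Z2 W) : ∃ x ∈ W, x ≠ 0 ∧ Q.q x = 0 := by
  obtain ⟨x, hx, hx0, hq⟩ := Q.exists_singular_outside (W := W) (E := ⊥) (by rw [finrank_bot]; omega)
  exact ⟨x, hx, fun e => hx0 (e ▸ zero_mem _), hq⟩

/-- A vector perpendicular to a non-zero one and not equal to it can be taken non-singular. -/
theorem exists_nonsingular_perp (hd : 3 ≤ finrank Z2 V) (v : V) : ∃ u, Q.B v u = 0 ∧ Q.q u = 1 ∧ u ≠ v := by
  have h1 := Q.finrank_perp (Submodule.span Z2 ({v} : Set V))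
  have h2 := Qd.finrank_span_one_le v
  obtain ⟨s, hs, hsv⟩ : ∃ s ∈ Q.perp (Submodule.span Z2 ({v} : Set V)), s ∉ Submodule.span Z2 ({v} : Set V) := by
    by_contra hcon
    push Not at hcon
    have := Submodule.finrank_mono (show Q.perp _ ≤ Submodule.span Z2 ({v} : Set V) from hcon)
    omega
  rw [Q.mem_perp_one] at hs
  have hs0 : s ≠ 0 := fun e => hsv (e ▸ zero_mem _)
  have hsv' : s ≠ v := fun e => hsv (e.symm ▸ Submodule.mem_span_singleton_self (R := Z2) v)
  by_cases hq : Q.q s = 0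
  · by_cases hv : Q.q v = 0
    · obtain ⟨w, hw, hw1⟩ := Q.exists_perp_one hsv
      rw [Q.mem_perp_one] at hw
      by_cases hqw : Q.q w = 0
      · refine ⟨s + w, by rw [map_add, hs, hw, add_zero], by rw [Q.polar, hq, hqw, hw1]; rfl, fun e => ?_⟩
        have h := congrArg (Q.B s) e
        rw [map_add, Q.self_perp, hw1, zero_add, Q.symm, hs] at h
        exact one_ne_zero h
      · refine ⟨w, hw, z2_eq_one hqw, fun e => ?_⟩
        rw [e, Q.symm, hs] at hw1
        exact zero_ne_one hw1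
    · refine ⟨s + v, by rw [map_add, hs, Q.self_perp, add_zero],
        by rw [Q.polar, hq, z2_eq_one hv, Q.symm, hs]; rfl, fun e => hs0 (add_eq_right.1 e)⟩
  · exact ⟨s, hs, z2_eq_one hq, hsv'⟩

/-- A singular vector with inner product one with a given vector. -/
theorem exists_singular_pair (hd : 3 ≤ finrank Z2 V) {v : V} (hv : v ≠ 0) : ∃ a, Q.q a = 0 ∧ Q.B v a = 1 := by
  obtain ⟨w, -, hw⟩ := Q.exists_perp_one (S := ⊥) (v := v) hv
  by_cases hq : Q.q w = 0
  · exact ⟨w, hq, hw⟩
  by_cases hqv : Q.q v = 0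
  · exact ⟨w + v, by rw [Q.polar, z2_eq_one hq, hqv, Q.symm, hw]; rfl, by rw [map_add, hw, Q.self_perp, add_zero]⟩
  obtain ⟨P, hP⟩ : ∃ P : Submodule Z2 V, P = Q.perp (Submodule.span Z2 ({v, w} : Set V)) := ⟨_, rfl⟩
  have hd2 := Q.finrank_perp (Submodule.span Z2 ({v, w} : Set V))
  have h2 := Qd.finrank_span_pair_le v w
  obtain ⟨y, hy, hy0⟩ := Submodule.exists_mem_ne_zero_of_ne_bot (p := P) fun e => by
    rw [← hP, e, finrank_bot] at hd2; omega
  rw [hP, Q.mem_perp_two] at hy
  by_cases hqy : Q.q y = 1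
  · exact ⟨w + y, by rw [Q.polar, z2_eq_one hq, hqy, hy.2]; rfl, by rw [map_add, hw, hy.1, add_zero]⟩
  have hyn : y ∉ Submodule.span Z2 ({v, w} : Set V) := fun hmem => by
    obtain ⟨a, b, hab⟩ := Submodule.mem_span_pair.1 hmem
    have e1 := hy.1
    have e2 := hy.2
    rw [← hab, map_add, map_smul, map_smul, Q.self_perp, hw, smul_zero, zero_add, smul_eq_mul, mul_one] at e1
    rw [← hab, map_add, map_smul, map_smul, Q.self_perp, Q.symm w v, hw, smul_zero, add_zero, smul_eq_mul,
      mul_one] at e2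
    rw [e1, e2, zero_smul, zero_smul, add_zero] at hab
    exact hy0 hab.symm
  obtain ⟨y', hy', hyy⟩ := Q.exists_perp_one hyn
  rw [Q.mem_perp_two] at hy'
  obtain ⟨z, hz1, hz2, hqz⟩ : ∃ z, Q.B v z = 0 ∧ Q.B w z = 0 ∧ Q.q z = 1 := by
    by_cases hqy' : Q.q y' = 1
    · exact ⟨y', hy'.1, hy'.2, hqy'⟩
    · refine ⟨y + y', by rw [map_add, hy.1, hy'.1, add_zero], by rw [map_add, hy.2, hy'.2, add_zero], ?_⟩
      rw [Q.polar, hyy, (z2_cases _).resolve_right hqy, (z2_cases _).resolve_right hqy']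
      rfl
  exact ⟨w + z, by rw [Q.polar, z2_eq_one hq, hqz, hz2]; rfl, by rw [map_add, hw, hz1, add_zero]⟩

theorem span_singular (hd : 3 ≤ finrank Z2 V) : Submodule.span Z2 {v | v ≠ 0 ∧ Q.q v = 0} = ⊤ := by
  rw [eq_top_iff]
  intro v _
  rcases eq_or_ne v 0 with rfl | hv
  · exact zero_mem _
  rcases z2_cases (Q.q v) with hq | hq
  · exact Submodule.subset_span ⟨hv, hq⟩
  obtain ⟨a, ha, hva⟩ := Q.exists_singular_pair hd hv
  have ha0 : a ≠ 0 := fun e => by rw [e, map_zero] at hva; exact zero_ne_one hva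
  have hs : Q.q (v + a) = 0 := by rw [Q.polar, hq, ha, hva]; rfl
  have hs0 : v + a ≠ 0 := fun e => by
    rw [vadd_eq_zero e, Q.self_perp] at hva; exact zero_ne_one hva
  have : v = (v + a) + a := by rw [add_assoc, vadd_self, add_zero]
  rw [this]
  exact add_mem (Submodule.subset_span ⟨hs0, hs⟩) (Submodule.subset_span ⟨ha0, ha⟩)

/-- The Siegel transformation of a singular vector `v` and a perpendicular vector `w`. -/
def rho (v w : V) : V →ₗ[ZMod 2] V :=
  LinearMap.id + (Q.B.flip v).smulRight w + (Q.B.flip w + Q.q w • Q.B.flip v).smulRight v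

theorem rho_apply (v w x : V) : Q.rho v w x = x + Q.B x v • w + (Q.B x w + Q.q w * Q.B x v) • v := by
  simp [rho]

theorem rho_self {v w : V} (hw : Q.B v w = 0) : Q.rho v w v = v := by
  simp [rho_apply, Q.self_perp, hw]

theorem rho_perp {v w x : V} (hx : Q.B x v = 0) : Q.rho v w x = x + Q.B x w • v := by
  simp [rho_apply, hx]

theorem rho_add {v w w' : V} (hv : Q.q v = 0) (hw : Q.B v w = 0) (hw' : Q.B v w' = 0) (x : V) :
    Q.rho v w (Q.rho v w' x) = Q.rho v (w + w') x := by
  obtain ⟨a, ha⟩ : ∃ a, a = Q.B x v := ⟨_, rfl⟩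
  simp only [rho_apply, map_add, map_smul, LinearMap.add_apply, LinearMap.smul_apply, Q.self_perp,
    Q.symm w' v, hw, hw', smul_eq_mul, mul_zero, add_zero, Q.polar, Q.symm w' w, ← ha]
  module

theorem rho_zero (v x : V) : Q.rho v 0 x = x := by
  simp [rho_apply, Q.q_zero]

/-- The only non-zero vector fixed by all Siegel transformations at `v` is `v`. -/
theorem fixed_rho (hd : 3 ≤ finrank Z2 V) {v x : V} (hv : v ≠ 0) (hx : ∀ w, Q.B v w = 0 → Q.rho v w x = x) : x = 0 ∨ x = v := by
  have hxv : Q.B x v = 0 := by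
    by_contra h
    obtain ⟨u, hu, -, huv⟩ := Q.exists_nonsingular_perp hd v
    obtain ⟨u', hu', hu'1⟩ : ∃ u', Q.B v u' = 0 ∧ u' ∉ Submodule.span Z2 ({v} : Set V) := by
      by_contra hcon
      push Not at hcon
      rcases mem_span_one (hcon u hu) with e | e
      · have := Q.finrank_perp (Submodule.span Z2 ({v} : Set V))
        have h2 := Qd.finrank_span_one_le v
        have := Submodule.finrank_mono (show Q.perp _ ≤ Submodule.span Z2 ({v} : Set V) from
          fun y hy => hcon y (Q.mem_perp_one.1 hy))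
        omega
      · exact huv e
    have h1 := hx u' hu'
    rw [rho_apply, z2_eq_one h, one_smul, add_assoc, add_eq_left] at h1
    refine hu'1 ?_
    rw [vadd_eq_zero h1]
    exact Submodule.smul_mem _ _ (Submodule.mem_span_singleton_self v)
  refine mem_span_one ((Q.perp_perp (Submodule.span Z2 ({v} : Set V))) ▸ ?_)
  refine Q.mem_perp.2 fun w hw => ?_
  have h1 := hx w (Q.mem_perp_one.1 hw)
  rw [Q.rho_perp hxv, add_eq_left] at h1
  rw [Q.symm]
  exact (smul_eq_zero.1 h1).resolve_right hv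

end Qd

end Cfsg.Agent.Classical.CliffordTwo
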