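import Cfsg.Agent.Lib.Classical.CliffordTwo.Sys

/-!
The subsystem perpendicular to a hyperbolic pair, and the controlled isometries.
-/

set_option autoImplicit false
set_option linter.unusedSectionVars false

namespace Cfsg.Agent.Classical.CliffordTwo

open Module
open scoped commutatorElement

local notation "Z2" => ZMod 2

/-- A hyperbolic pair of singular vectors. -/
structure HPair {V : Type*} [AddCommGroup V] [Module (ZMod 2) V] (Q : Qd V) where
  z : V
  x : V
  qz : Q.q z = 0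
  qx : Q.q x = 0
  bzx : Q.B z x = 1

namespace HPair

variable {V : Type*} [AddCommGroup V] [Module (ZMod 2) V] {Q : Qd V} (h : HPair Q)

theorem bxz : Q.B h.x h.z = 1 := by rw [Q.symm]; exact h.bzx

theorem z_ne : h.z ≠ 0 := fun e => by
  have := h.bzx
  rw [e] at this; simp at this

theorem x_ne : h.x ≠ 0 := fun e => by
  have := h.bzx
  rw [e] at this; simp at this

/-- The perpendicular of the pair. -/
def W : Submodule (ZMod 2) V := Q.perp (Submodule.span (ZMod 2) ({h.z, h.x} : Set V))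

theorem mem_W {v : V} : v ∈ h.W ↔ Q.B h.z v = 0 ∧ Q.B h.x v = 0 := Q.mem_perp_two

/-- The component in the perpendicular. -/
theorem decomp (v : V) : v + Q.B h.x v • h.z + Q.B h.z v • h.x ∈ h.W := by
  rw [h.mem_W]
  simp only [map_add, map_smul, Q.self_perp, h.bzx, h.bxz, smul_eq_mul, mul_zero, mul_one, add_zero, z2_add_self,
    and_self]

/-- The quadratic space of the perpendicular. -/
def qd : Qd h.W where
  q v := Q.q (v : V)
  B := LinearMap.mk₂ (ZMod 2) (fun v w : h.W => Q.B (v : V) (w : V)) (by simp) (by simp) (by simp) (by simp)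
  polar v w := Q.polar v w
  sep v hv := by
    refine Subtype.ext (Q.sep v fun y => ?_)
    have h1 := hv ⟨_, h.decomp y⟩
    obtain ⟨a, b⟩ := h.mem_W.1 v.2
    simp only [LinearMap.mk₂_apply, map_add, map_smul, Q.symm (v : V) h.z, Q.symm (v : V) h.x, a, b, smul_zero,
      add_zero] at h1
    exact h1

theorem qd_q (v : h.W) : h.qd.q v = Q.q (v : V) := rfl

theorem qd_B (v w : h.W) : h.qd.B v w = Q.B (v : V) (w : V) := rfl

theorem finrank_W [Finite V] : finrank Z2 h.W + 2 = finrank Z2 V := by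
  have h1 := Q.finrank_perp (Submodule.span Z2 ({h.z, h.x} : Set V))
  have h2 : finrank Z2 (Submodule.span Z2 ({h.z, h.x} : Set V)) = 2 := by
    refine le_antisymm (Qd.finrank_span_pair_le _ _) ?_
    by_contra hlt
    have hle : Submodule.span Z2 ({h.z} : Set V) ≤ Submodule.span Z2 ({h.z, h.x} : Set V) :=
      Submodule.span_mono (by simp)
    have := finrank_span_singleton (K := Z2) h.z_ne
    have e := Submodule.eq_of_le_of_finrank_le hle (by omega)
    have hx : h.x ∈ Submodule.span Z2 ({h.z} : Set V) := e ▸ Submodule.subset_span (by simp)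
    rcases mem_span_one hx with e' | e'
    · exact h.x_ne e'
    · have := h.bzx
      rw [e', Q.self_perp] at this; exact zero_ne_one this
  have h3 : finrank Z2 (Submodule.span Z2 ({h.z, h.x} : Set V)) ≤ finrank Z2 V := Submodule.finrank_le _
  rw [W, h1, h2]
  omega

end HPair

namespace Sys

variable {F : Type*} [Field F] {A : Type*} [Ring A] [Algebra F A] {V : Type*} [AddCommGroup V] [Module (ZMod 2) V]
  (S : Sys F A V) (h : HPair S.toQd)

/-- The span of the perpendicular basis elements. -/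
def subSpan : Submodule F A := Submodule.span F (Set.range fun w : h.W => (S.r (w : V) : A))

theorem r_mem_subSpan (w : h.W) : (S.r (w : V) : A) ∈ S.subSpan h := Submodule.subset_span ⟨w, rfl⟩

theorem one_mem_subSpan : (1 : A) ∈ S.subSpan h := by
  rcases S.r_zero with e | e
  · exact e ▸ S.r_mem_subSpan h 0
  · have := neg_mem (S.r_mem_subSpan h 0)
    rwa [Submodule.coe_zero, e, neg_neg] at this

theorem mul_mem_subSpan (a b : A) (ha : a ∈ S.subSpan h) (hb : b ∈ S.subSpan h) : a * b ∈ S.subSpan h := by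
  induction ha using Submodule.span_induction with
  | mem a ha =>
    obtain ⟨v, rfl⟩ := ha
    induction hb using Submodule.span_induction with
    | mem b hb =>
      obtain ⟨w, rfl⟩ := hb
      rcases S.mul v w with e | e <;> rw [e]
      · exact S.r_mem_subSpan h (v + w)
      · exact neg_mem (S.r_mem_subSpan h (v + w))
    | zero => simp
    | add x y _ _ hx hy => rw [mul_add]; exact add_mem hx hy
    | smul c x _ hx => rw [Algebra.mul_smul_comm]; exact Submodule.smul_mem _ _ hx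
  | zero => simp
  | add x y _ _ hx hy => rw [add_mul]; exact add_mem hx hy
  | smul c x _ hx => rw [Algebra.smul_mul_assoc]; exact Submodule.smul_mem _ _ hx

/-- The algebra of the perpendicular. -/
def subAlg : Subalgebra F A := (S.subSpan h).toSubalgebra (S.one_mem_subSpan h) (S.mul_mem_subSpan h)

theorem mem_subAlg {a : A} : a ∈ S.subAlg h ↔ a ∈ S.subSpan h := Iff.rfl

theorem τ_mem_subAlg {a : A} (ha : a ∈ S.subAlg h) : S.τ a ∈ S.subAlg h := by
  rw [mem_subAlg] at ha ⊢
  induction ha using Submodule.span_induction with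
  | mem a ha =>
    obtain ⟨v, rfl⟩ := ha
    rw [S.adj]; exact Submodule.smul_mem _ _ (S.r_mem_subSpan h v)
  | zero => simp
  | add x y _ _ hx hy => rw [map_add]; exact add_mem hx hy
  | smul c x _ hx => rw [map_smul]; exact Submodule.smul_mem _ _ hx

theorem commute_of_perp {a : A} (ha : a ∈ S.subAlg h) {u : V} (hu : ∀ w : h.W, S.B u w = 0) :
    Commute (S.r u : A) a := by
  rw [mem_subAlg] at ha
  induction ha using Submodule.span_induction with
  | mem a ha =>
    obtain ⟨v, rfl⟩ := ha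
    show _ * _ = _ * _
    rw [S.comm, hu, sg_zero, one_smul]
  | zero => exact Commute.zero_right _
  | add x y _ _ hx hy => exact hx.add_right hy
  | smul c x _ hx => exact hx.smul_right c

theorem rz_comm {a : A} (ha : a ∈ S.subAlg h) : Commute (S.r h.z : A) a :=
  S.commute_of_perp h ha fun w => (h.mem_W.1 w.2).1

theorem rx_comm {a : A} (ha : a ∈ S.subAlg h) : Commute (S.r h.x : A) a :=
  S.commute_of_perp h ha fun w => (h.mem_W.1 w.2).2

theorem inv_mem_subAlg (w : h.W) : (((S.r (w : V))⁻¹ : Aˣ) : A) ∈ S.subAlg h := by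
  rw [← S.τ_eq_inv (S.τ_r_mul _)]
  exact S.τ_mem_subAlg h (S.r_mem_subSpan h w)

/-- The subsystem. -/
def sub : Sys F (S.subAlg h) h.W where
  toQd := h.qd
  two := S.two
  τ := (S.τ.domRestrict (Subalgebra.toSubmodule (S.subAlg h))).codRestrict (Subalgebra.toSubmodule (S.subAlg h))
    fun a => S.τ_mem_subAlg h a.2
  τ_mul a b := Subtype.ext (S.τ_mul a b)
  r w := ⟨⟨(S.r (w : V) : A), S.r_mem_subSpan h w⟩, ⟨(((S.r (w : V))⁻¹ : Aˣ) : A), S.inv_mem_subAlg h w⟩,
    Subtype.ext (S.r (w : V)).mul_inv, Subtype.ext (S.r (w : V)).inv_mul⟩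
  mul v w := (S.mul v w).imp (fun e => Subtype.ext e) (fun e => Subtype.ext e)
  comm v w := Subtype.ext (S.comm v w)
  sq v := Subtype.ext (S.sq v)
  adj v := Subtype.ext (S.adj v)
  li := LinearIndependent.of_comp (S.subAlg h).val.toLinearMap (S.li.comp _ Subtype.val_injective)
  span := by
    suffices H : ∀ a, a ∈ S.subSpan h → ∀ ha : a ∈ S.subAlg h, (⟨a, ha⟩ : S.subAlg h) ∈
        Submodule.span F (Set.range fun w : h.W => (⟨(S.r (w : V) : A), S.r_mem_subSpan h w⟩ : S.subAlg h)) from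
      fun a _ => H (a : A) a.2 a.2
    intro a ha'
    induction ha' using Submodule.span_induction with
    | mem a hw =>
      intro ha
      obtain ⟨w, rfl⟩ := hw
      exact Submodule.subset_span ⟨w, rfl⟩
    | zero => intro ha; exact zero_mem _
    | add x y hx hy ihx ihy => intro ha; exact add_mem (ihx hx) (ihy hy)
    | smul c x hx ihx => intro ha; exact Submodule.smul_mem _ c (ihx hx)

theorem sub_r_val (w : h.W) : (((S.sub h).r w : S.subAlg h) : A) = S.r (w : V) := rfl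

theorem sub_τ_val (a : S.subAlg h) : ((S.sub h).τ a : A) = S.τ (a : A) := rfl

/-- The projection on the positive eigenspace. -/
def Pp : A := (2 : F)⁻¹ • (1 + (S.r h.z : A))

/-- The projection on the negative eigenspace. -/
def Pm : A := (2 : F)⁻¹ • (1 - (S.r h.z : A))

theorem rz_sq : (S.r h.z : A) * S.r h.z = 1 := by rw [S.sq, h.qz, sg_zero, one_smul]

theorem rx_sq : (S.r h.x : A) * S.r h.x = 1 := by rw [S.sq, h.qx, sg_zero, one_smul]

theorem rx_rz : (S.r h.x : A) * S.r h.z = -((S.r h.z : A) * S.r h.x) := by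
  rw [S.comm, h.bxz, sg_one, neg_one_smul]

theorem half_add (S : Sys F A V) (a : A) : (2 : F)⁻¹ • (a + a) = a := by
  rw [← two_smul F a, smul_smul, inv_mul_cancel₀ S.two, one_smul]

theorem Pp_add_Pm : S.Pp h + S.Pm h = 1 := by
  rw [Pp, Pm, ← smul_add, show (1 : A) + S.r h.z + (1 - S.r h.z) = 1 + 1 by abel, S.half_add]

theorem Pp_sq : S.Pp h * S.Pp h = S.Pp h := by
  rw [Pp, smul_mul_smul_comm, mul_add, mul_one, add_mul, one_mul, S.rz_sq, ← smul_smul,
    show (1 : A) + S.r h.z + (S.r h.z + 1) = (1 + (S.r h.z : A)) + (1 + S.r h.z) by abel, S.half_add]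

theorem Pm_sq : S.Pm h * S.Pm h = S.Pm h := by
  rw [Pm, smul_mul_smul_comm, mul_sub, mul_one, sub_mul, one_mul, S.rz_sq, ← smul_smul,
    show (1 : A) - S.r h.z - (S.r h.z - 1) = (1 - (S.r h.z : A)) + (1 - S.r h.z) by abel, S.half_add]

theorem Pp_Pm : S.Pp h * S.Pm h = 0 := by
  rw [Pp, Pm, smul_mul_smul_comm, add_mul, one_mul, mul_sub, mul_one, S.rz_sq, sub_add_sub_cancel, sub_self,
    smul_zero]

theorem Pm_Pp : S.Pm h * S.Pp h = 0 := by
  rw [Pp, Pm, smul_mul_smul_comm, sub_mul, one_mul, mul_add, mul_one, S.rz_sq, add_comm (S.r h.z : A) 1, sub_self,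
    smul_zero]

theorem rz_Pp : (S.r h.z : A) * S.Pp h = S.Pp h := by
  rw [Pp, Algebra.mul_smul_comm, mul_add, mul_one, S.rz_sq, add_comm]

theorem rz_Pm : (S.r h.z : A) * S.Pm h = -S.Pm h := by
  rw [Pm, Algebra.mul_smul_comm, mul_sub, mul_one, S.rz_sq, ← neg_sub, smul_neg]

theorem τ_Pp : S.τ (S.Pp h) = S.Pp h := by
  rw [Pp, map_smul, map_add, S.τ_one, S.adj, h.qz, sg_zero, one_smul]

theorem τ_Pm : S.τ (S.Pm h) = S.Pm h := by
  rw [Pm, map_smul, map_sub, S.τ_one, S.adj, h.qz, sg_zero, one_smul]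

theorem Pp_comm {a : A} (ha : a ∈ S.subAlg h) : Commute (S.Pp h) a :=
  ((Commute.one_left a).add_left (S.rz_comm h ha)).smul_left _

theorem Pm_comm {a : A} (ha : a ∈ S.subAlg h) : Commute (S.Pm h) a :=
  ((Commute.one_left a).sub_left (S.rz_comm h ha)).smul_left _

theorem rx_Pp : (S.r h.x : A) * S.Pp h = S.Pm h * S.r h.x := by
  rw [Pp, Pm, Algebra.mul_smul_comm, Algebra.smul_mul_assoc, mul_add, mul_one, S.rx_rz, sub_mul, one_mul,
    sub_eq_add_neg]

theorem rx_Pm : (S.r h.x : A) * S.Pm h = S.Pp h * S.r h.x := by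
  rw [Pp, Pm, Algebra.mul_smul_comm, Algebra.smul_mul_assoc, mul_sub, mul_one, S.rx_rz, add_mul, one_mul,
    sub_neg_eq_add]

/-- The block element. -/
def pr (a b : A) : A := S.Pp h * a + S.Pm h * b

theorem pr_one : S.pr h 1 1 = 1 := by rw [pr, mul_one, mul_one, S.Pp_add_Pm]

theorem pr_same (a : A) : S.pr h a a = a := by rw [pr, ← add_mul, S.Pp_add_Pm, one_mul]

theorem pr_mul {a b c d : A} (ha : a ∈ S.subAlg h) (hb : b ∈ S.subAlg h) :
    S.pr h a b * S.pr h c d = S.pr h (a * c) (b * d) := by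
  simp only [pr, add_mul, mul_add, mul_assoc]
  rw [← mul_assoc a, ← mul_assoc a, ← mul_assoc b, ← mul_assoc b, (S.Pp_comm h ha).eq.symm, (S.Pm_comm h ha).eq.symm,
    (S.Pp_comm h hb).eq.symm, (S.Pm_comm h hb).eq.symm]
  simp only [← mul_assoc, S.Pp_sq, S.Pm_sq, S.Pp_Pm, S.Pm_Pp, zero_mul, add_zero, zero_add]

theorem τ_pr {a b : A} (ha : a ∈ S.subAlg h) (hb : b ∈ S.subAlg h) :
    S.τ (S.pr h a b) = S.pr h (S.τ a) (S.τ b) := by
  rw [pr, pr, map_add, S.τ_mul, S.τ_mul, S.τ_Pp, S.τ_Pm, (S.Pp_comm h (S.τ_mem_subAlg h ha)).eq,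
    (S.Pm_comm h (S.τ_mem_subAlg h hb)).eq]

theorem rx_pr {a b : A} (ha : a ∈ S.subAlg h) (hb : b ∈ S.subAlg h) :
    (S.r h.x : A) * S.pr h a b = S.pr h b a * S.r h.x := by
  rw [pr, pr, mul_add, add_mul, ← mul_assoc, ← mul_assoc, S.rx_Pp, S.rx_Pm, mul_assoc, mul_assoc,
    (S.rx_comm h ha).eq, (S.rx_comm h hb).eq, ← mul_assoc, ← mul_assoc, add_comm]

theorem pr_eq_zero {a b : A} (ha : a ∈ S.subAlg h) (hb : b ∈ S.subAlg h) (e : S.pr h a b = 0) : a = 0 ∧ b = 0 := by
  have key : ∀ c ∈ S.subAlg h, S.Pp h * c = 0 → c = 0 := fun c hc hPc => by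
    have h1 : S.Pm h * c = 0 := by
      have := congrArg (fun y => (S.r h.x : A) * y * S.r h.x) hPc
      simp only [mul_zero, zero_mul] at this
      rwa [← mul_assoc, S.rx_Pp, mul_assoc (S.Pm h), (S.rx_comm h hc).eq, mul_assoc, mul_assoc c, S.rx_sq,
        mul_one] at this
    rw [← one_mul c, ← S.Pp_add_Pm h, add_mul, hPc, h1, add_zero]
  constructor
  · refine key a ha ?_
    have := congrArg (fun y => S.Pp h * y) e
    simpa [pr, mul_add, ← mul_assoc, S.Pp_sq, S.Pp_Pm] using this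
  · refine key b hb ?_
    have := congrArg (fun y => (S.r h.x : A) * y) e
    simp only [mul_zero, S.rx_pr h ha hb] at this
    have h2 := congrArg (fun y => S.Pp h * (y * S.r h.x)) this
    simpa [pr, mul_assoc, S.rx_sq, mul_add, ← mul_assoc (S.Pp h), S.Pp_sq, S.Pp_Pm] using h2

theorem pr_inj {a b c d : A} (ha : a ∈ S.subAlg h) (hb : b ∈ S.subAlg h) (hc : c ∈ S.subAlg h)
    (hd : d ∈ S.subAlg h) (e : S.pr h a b = S.pr h c d) : a = c ∧ b = d := by
  have := S.pr_eq_zero h (sub_mem ha hc) (sub_mem hb hd) (by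
    rw [show S.pr h (a - c) (b - d) = S.pr h a b - S.pr h c d by simp only [pr, mul_sub]; abel, e, sub_self])
  exact ⟨sub_eq_zero.1 this.1, sub_eq_zero.1 this.2⟩

theorem τ_mul_iso (g : (S.sub h).Iso) :
    S.τ (((g : (S.subAlg h)ˣ) : S.subAlg h) : A) * (((g : (S.subAlg h)ˣ) : S.subAlg h) : A) = 1 :=
  congrArg Subtype.val ((S.sub h).mem_Iso.1 g.2)

theorem mul_τ_iso (g : (S.sub h).Iso) :
    (((g : (S.subAlg h)ˣ) : S.subAlg h) : A) * S.τ (((g : (S.subAlg h)ˣ) : S.subAlg h) : A) = 1 := by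
  have h1 := congrArg Subtype.val ((g : (S.subAlg h)ˣ).mul_inv)
  rw [← (S.sub h).τ_eq_inv g.2] at h1
  exact h1

theorem pr_τ_mul {a b : A} (ha : a ∈ S.subAlg h) (hb : b ∈ S.subAlg h) (h1 : S.τ a * a = 1) (h2 : S.τ b * b = 1) :
    S.τ (S.pr h a b) * S.pr h a b = 1 := by
  rw [S.τ_pr h ha hb, S.pr_mul h (S.τ_mem_subAlg h ha) (S.τ_mem_subAlg h hb), h1, h2, S.pr_one]

theorem mul_τ_pr {a b : A} (ha : a ∈ S.subAlg h) (hb : b ∈ S.subAlg h) (h1 : a * S.τ a = 1) (h2 : b * S.τ b = 1) :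
    S.pr h a b * S.τ (S.pr h a b) = 1 := by
  rw [S.τ_pr h ha hb, S.pr_mul h ha hb, h1, h2, S.pr_one]

/-- Two isometries of the perpendicular give an isometry. -/
def Psi : (S.sub h).Iso × (S.sub h).Iso →* S.Iso where
  toFun g := S.mkIso (S.pr h (((g.1 : (S.subAlg h)ˣ) : S.subAlg h) : A) (((g.2 : (S.subAlg h)ˣ) : S.subAlg h) : A))
    (S.pr_τ_mul h (SetLike.coe_mem _) (SetLike.coe_mem _) (S.τ_mul_iso h g.1) (S.τ_mul_iso h g.2))
    (S.mul_τ_pr h (SetLike.coe_mem _) (SetLike.coe_mem _) (S.mul_τ_iso h g.1) (S.mul_τ_iso h g.2))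
  map_one' := S.ext_val (S.pr_one h)
  map_mul' g g' := S.ext_val (S.pr_mul h (SetLike.coe_mem _) (SetLike.coe_mem _)).symm

theorem Psi_val (a b : (S.sub h).Iso) : (((S.Psi h (a, b) : S.Iso) : Aˣ) : A) =
    S.pr h (((a : (S.subAlg h)ˣ) : S.subAlg h) : A) (((b : (S.subAlg h)ˣ) : S.subAlg h) : A) := rfl

theorem Psi_injective : Function.Injective (S.Psi h) := fun ⟨a, b⟩ ⟨c, d⟩ e => by
  have := congrArg (fun g : S.Iso => ((g : Aˣ) : A)) e
  simp only [Psi_val] at this
  obtain ⟨h1, h2⟩ := S.pr_inj h (SetLike.coe_mem _) (SetLike.coe_mem _) (SetLike.coe_mem _) (SetLike.coe_mem _) this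
  exact Prod.ext ((S.sub h).ext_val (Subtype.ext h1)) ((S.sub h).ext_val (Subtype.ext h2))

/-- The controlled isometry. -/
def ctl : (S.sub h).Iso →* S.Iso := (S.Psi h).comp (MonoidHom.inr _ _)

theorem ctl_apply (g : (S.sub h).Iso) : S.ctl h g = S.Psi h (1, g) := rfl

/-- The diagonal isometry. -/
def dia : (S.sub h).Iso →* S.Iso := (S.Psi h).comp (MonoidHom.prod (MonoidHom.id _) (MonoidHom.id _))

theorem dia_apply (g : (S.sub h).Iso) : S.dia h g = S.Psi h (g, g) := rfl

theorem dia_val (g : (S.sub h).Iso) :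
    (((S.dia h g : S.Iso) : Aˣ) : A) = (((g : (S.subAlg h)ˣ) : S.subAlg h) : A) := S.pr_same h _

theorem dia_rI (w : h.W) : S.dia h ((S.sub h).rI w) = S.rI (w : V) := S.ext_val (by rw [dia_val]; rfl)

theorem ctl_commutator {g : (S.sub h).Iso} (hg : g ∈ _root_.commutator (S.sub h).Iso) :
    S.ctl h g ∈ _root_.commutator S.Iso := by
  have := Subgroup.mem_map_of_mem (S.ctl h) hg
  rw [commutator_def, Subgroup.map_commutator] at this
  exact Subgroup.commutator_mono le_top le_top this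

theorem dia_commutator {g : (S.sub h).Iso} (hg : g ∈ _root_.commutator (S.sub h).Iso) :
    S.dia h g ∈ _root_.commutator S.Iso := by
  have := Subgroup.mem_map_of_mem (S.dia h) hg
  rw [commutator_def, Subgroup.map_commutator] at this
  exact Subgroup.commutator_mono le_top le_top this

theorem swap_Psi (a b : (S.sub h).Iso) : S.rI h.x * S.Psi h (a, b) * (S.rI h.x)⁻¹ = S.Psi h (b, a) := by
  rw [mul_inv_eq_iff_eq_mul]
  refine S.ext_val ?_
  simp only [Subgroup.coe_mul, Units.val_mul, Psi_val, rI_val]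
  exact S.rx_pr h (SetLike.coe_mem _) (SetLike.coe_mem _)

variable [Finite V]

/-- The centraliser of the first vector. -/
theorem exists_Psi {g : S.Iso} (hg : g * S.rI h.z = S.rI h.z * g) : ∃ a b, g = S.Psi h (a, b) := by
  classical
  haveI := Fintype.ofFinite V
  obtain ⟨M, hM⟩ : ∃ M, M = ((g : Aˣ) : A) := ⟨_, rfl⟩
  have hc : M * (S.r h.z : A) = (S.r h.z : A) * M := by
    have := congrArg (fun y : S.Iso => ((y : Aˣ) : A)) hg
    simpa [hM, S.rI_val] using this
  have hdec : ∃ a ∈ S.subAlg h, ∃ b ∈ S.subAlg h, M = S.pr h a b := by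
    have hterm : ∀ v, ∃ a ∈ S.subAlg h, ∃ b ∈ S.subAlg h,
        S.basis.repr M v • (S.r v : A) = S.pr h a b := fun v => by
      by_cases hv : S.basis.repr M v = 0
      · exact ⟨0, zero_mem _, 0, zero_mem _, by simp [hv, pr]⟩
      have hzv : S.B h.z v = 0 := by
        rw [S.toQd.symm]
        exact S.support_of_comm (s := 0) (by rw [sg_zero, one_smul, hc]) hv
      have hdw := h.decomp v
      rw [hzv, zero_smul, add_zero] at hdw
      obtain ⟨w, hw⟩ : ∃ w : h.W, (w : V) = v + S.B h.x v • h.z := ⟨⟨_, hdw⟩, rfl⟩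
      have hwm : (S.r (w : V) : A) ∈ S.subAlg h := S.r_mem_subSpan h w
      rcases z2_smul (S.B h.x v) h.z with e | e
      · rw [e, add_zero] at hw
        refine ⟨S.basis.repr M v • (S.r (w : V) : A), Subalgebra.smul_mem _ hwm _,
          S.basis.repr M v • (S.r (w : V) : A), Subalgebra.smul_mem _ hwm _, ?_⟩
        rw [S.pr_same, hw]
      · rw [e] at hw
        have hv' : v = h.z + (w : V) := by rw [hw, add_comm v, ← add_assoc, vadd_self, zero_add]
        rcases S.mul h.z (w : V) with e' | e' <;> rw [← hv'] at e'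
        · refine ⟨S.basis.repr M v • (S.r (w : V) : A), Subalgebra.smul_mem _ hwm _,
            -(S.basis.repr M v • (S.r (w : V) : A)), neg_mem (Subalgebra.smul_mem _ hwm _), ?_⟩
          rw [← e', pr, mul_neg, Algebra.mul_smul_comm, Algebra.mul_smul_comm, ← smul_neg, ← smul_add,
            ← neg_mul, ← add_mul]
          congr 1
          rw [← S.rz_Pm, ← S.rz_Pp, ← mul_add, S.Pp_add_Pm, mul_one]
        · refine ⟨-(S.basis.repr M v • (S.r (w : V) : A)), neg_mem (Subalgebra.smul_mem _ hwm _),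
            S.basis.repr M v • (S.r (w : V) : A), Subalgebra.smul_mem _ hwm _, ?_⟩
          rw [show (S.r v : A) = -((S.r h.z : A) * S.r (w : V)) by rw [e', neg_neg], pr, mul_neg,
            Algebra.mul_smul_comm, Algebra.mul_smul_comm, ← smul_neg, ← smul_add]
          congr 1
          rw [← neg_mul, ← neg_mul, ← add_mul]
          congr 1
          conv_lhs => rw [← mul_one (S.r h.z : A), ← S.Pp_add_Pm h, mul_add, S.rz_Pp, S.rz_Pm]
          abel
    choose a ha b hb hab using hterm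
    refine ⟨∑ v, a v, Subalgebra.sum_mem _ fun v _ => ha v, ∑ v, b v, Subalgebra.sum_mem _ fun v _ => hb v, ?_⟩
    conv_lhs => rw [← S.sum_repr M]
    simp only [hab, pr, Finset.mul_sum, Finset.sum_add_distrib]
  obtain ⟨a, ha, b, hb, hM'⟩ := hdec
  have h1 := S.mem_Iso.1 g.2
  have h2 : ((g : Aˣ) : A) * S.τ ((g : Aˣ) : A) = 1 := by rw [S.τ_eq_inv g.2, Units.mul_inv]
  rw [← hM, hM', S.τ_pr h ha hb, S.pr_mul h (S.τ_mem_subAlg h ha) (S.τ_mem_subAlg h hb), ← S.pr_one h] at h1
  rw [← hM, hM', S.τ_pr h ha hb, S.pr_mul h ha hb, ← S.pr_one h] at h2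
  obtain ⟨a1, b1⟩ := S.pr_inj h (mul_mem (S.τ_mem_subAlg h ha) ha) (mul_mem (S.τ_mem_subAlg h hb) hb)
    (one_mem _) (one_mem _) h1
  obtain ⟨a2, b2⟩ := S.pr_inj h (mul_mem ha (S.τ_mem_subAlg h ha)) (mul_mem hb (S.τ_mem_subAlg h hb))
    (one_mem _) (one_mem _) h2
  refine ⟨(S.sub h).mkIso ⟨a, ha⟩ (Subtype.ext a1) (Subtype.ext a2),
    (S.sub h).mkIso ⟨b, hb⟩ (Subtype.ext b1) (Subtype.ext b2), S.ext_val ?_⟩
  rw [← hM, hM']; rfl

end Sys

end Cfsg.Agent.Classical.CliffordTwo
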