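import Cfsg.Agent.Lib.Classical.CliffordTwo.CC
import Cfsg.Agent.Lib.Classical.MaxPtSpread
import Cfsg.Agent.Lib.Classical.SympSimple
import Cfsg.Agent.Lib.Classical.SympBlocks

/-!
Systems realised as symplectic adjoint algebras: the isometries form a symplectic group, and two opposite block
groups generate it.
-/

set_option autoImplicit false
set_option linter.unusedSectionVars false

namespace Cfsg.Agent.Classical.CliffordTwo

open Module Matrix MaxTv

local notation "Z2" => ZMod 2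

namespace Sys

variable {F : Type*} [Field F] {A : Type*} [Ring A] [Algebra F A] {V : Type*} [AddCommGroup V] [Module (ZMod 2) V]

/-- An identification of the algebra with matrices carrying the adjoint to the symplectic adjoint. -/
structure SRep (S : Sys F A V) (i : ℕ) where
  e : A ≃ₐ[F] Matrix (Fin i ⊕ Fin i) (Fin i ⊕ Fin i) F
  adj : ∀ (a : A) (x y : Fin i ⊕ Fin i → F), sympForm i F (e (S.τ a) *ᵥ x) y = sympForm i F x (e a *ᵥ y)

namespace SRep

variable {S : Sys F A V} {i : ℕ} (P : S.SRep i)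

/-- The matrix of an isometry. -/
noncomputable def toGL : S.Iso →* GL (Fin i ⊕ Fin i) F :=
  (Units.map (P.e : A →* Matrix (Fin i ⊕ Fin i) (Fin i ⊕ Fin i) F)).comp S.Iso.subtype

theorem toGL_val (g : S.Iso) : ((P.toGL g : GL (Fin i ⊕ Fin i) F) : Matrix (Fin i ⊕ Fin i) (Fin i ⊕ Fin i) F) =
    P.e ((g : Aˣ) : A) := rfl

theorem toGL_injective : Function.Injective P.toGL := fun g h e =>
  S.ext_val (P.e.injective (congrArg Units.val e))

theorem toGL_mem (g : S.Iso) : P.toGL g ∈ spGL i F := mem_spGL.2 fun x y => by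
  rw [toGL_val, ← P.adj, mulVec_mulVec, ← map_mul, S.mem_Iso.1 g.2, map_one, one_mulVec]

theorem toGL_range : P.toGL.range = spGL i F := by
  refine le_antisymm (by rintro _ ⟨g, rfl⟩; exact P.toGL_mem g) fun M hM => ?_
  obtain ⟨a, ha⟩ : ∃ a, P.e a = (M : Matrix (Fin i ⊕ Fin i) (Fin i ⊕ Fin i) F) := P.e.surjective _
  have h1 : S.τ a * a = 1 := P.e.injective (Matrix.ext_iff_mulVec.2 fun y => by
    rw [map_mul, map_one, one_mulVec, ← mulVec_mulVec]
    refine sub_eq_zero.1 (eq_zero_of_sympForm_eq_zero fun z => ?_)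
    rw [sympForm_sub_left, P.adj, ha, mem_spGL.1 hM, sub_self])
  have h2 : a * S.τ a = 1 := P.e.injective (by
    have := congrArg P.e h1
    rw [map_mul, map_one] at this ⊢
    exact mul_eq_one_comm.1 this)
  exact ⟨S.mkIso a h1 h2, Units.ext ha⟩

/-- The isometries as the symplectic group. -/
noncomputable def iso : S.Iso ≃* spGL i F :=
  (MonoidHom.ofInjective P.toGL_injective).trans (MulEquiv.subgroupCongr P.toGL_range)

/-- The symplectic group inside the general linear group. -/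
noncomputable def symp (F : Type*) [Field F] (i : ℕ) : Matrix.symplecticGroup (Fin i) F ≃* spGL i F where
  toFun a := ⟨MonoidHom.toHomUnits (Submonoid.subtype (Matrix.symplecticGroup (Fin i) F)) a,
    mem_spGL.2 (mem_symplecticGroup_iff_form.1 a.2)⟩
  invFun g := ⟨((g : GL (Fin i ⊕ Fin i) F) : Matrix (Fin i ⊕ Fin i) (Fin i ⊕ Fin i) F),
    mem_symplecticGroup_iff_form.2 (mem_spGL.1 g.2)⟩
  left_inv _ := rfl
  right_inv _ := Subtype.ext (Units.ext rfl)
  map_mul' _ _ := Subtype.ext (Units.ext rfl)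

variable [Fintype F]

theorem perfect (P : S.SRep i) (hi : 2 ≤ i) : _root_.commutator S.Iso = ⊤ := by
  have hp := symp_perfect_of_card (F := F) (m := i) (by
    have h3 : 3 ≤ Fintype.card F := by
      by_contra hlt
      have := Fintype.one_lt_card (α := F)
      have hc : Fintype.card F = 2 := by omega
      exact S.two (by have := FiniteField.cast_card_eq_zero F; rw [hc] at this; exact_mod_cast this)
    omega)
  obtain ⟨e, -⟩ : ∃ e : Matrix.symplecticGroup (Fin i) F ≃* S.Iso, True := ⟨(symp F i).trans P.iso.symm, trivial⟩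
  rw [commutator_def, ← Subgroup.map_top_of_surjective e.toMonoidHom e.surjective, ← Subgroup.map_commutator,
    ← commutator_def, hp]

theorem normal_eq_top (P : S.SRep i) (hi : 2 ≤ i) {L : Subgroup S.Iso} [hL : L.Normal] {x : S.Iso} (hx : x ∈ L)
    (hc : x ∉ Subgroup.center S.Iso) : L = ⊤ := by
  obtain ⟨e, -⟩ : ∃ e : Matrix.symplecticGroup (Fin i) F ≃* S.Iso, True := ⟨(symp F i).trans P.iso.symm, trivial⟩
  have hperf : _root_.commutator (Matrix.symplecticGroup (Fin i) F) = ⊤ := by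
    have h := P.perfect hi
    rw [commutator_def, ← Subgroup.map_top_of_surjective e.toMonoidHom e.surjective, ← Subgroup.map_commutator] at h
    rw [← Subgroup.comap_map_eq_self_of_injective (f := e.toMonoidHom) e.injective (_root_.commutator _),
      commutator_def, h, Subgroup.map_top_of_surjective e.toMonoidHom e.surjective, Subgroup.comap_top]
  haveI := PSp_isSimpleGroup (F := F) (m := i) (by omega) hperf
  obtain ⟨M, hM⟩ : ∃ M, M = L.comap e.toMonoidHom := ⟨_, rfl⟩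
  haveI : M.Normal := hM ▸ hL.comap _
  have hsurj := QuotientGroup.mk'_surjective (Subgroup.center (Matrix.symplecticGroup (Fin i) F))
  haveI : (M.map (QuotientGroup.mk' (Subgroup.center (Matrix.symplecticGroup (Fin i) F)))).Normal :=
    Subgroup.Normal.map inferInstance _ hsurj
  have hxM : e.symm x ∈ M := by rw [hM, Subgroup.mem_comap]; simpa using hx
  have hne : M.map (QuotientGroup.mk' (Subgroup.center (Matrix.symplecticGroup (Fin i) F))) ≠ ⊥ := fun hb => hc (by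
    rw [Subgroup.map_eq_bot_iff, QuotientGroup.ker_mk'] at hb
    refine Subgroup.mem_center_iff.2 fun g => ?_
    have := congrArg e (Subgroup.mem_center_iff.1 (hb hxM) (e.symm g))
    simpa using this)
  have htop := (Subgroup.Normal.eq_bot_or_eq_top inferInstance).resolve_left hne
  -- a normal subgroup covering the quotient by the centre contains all commutators
  have hle : _root_.commutator (Matrix.symplecticGroup (Fin i) F) ≤ M := by
    rw [commutator_def, Subgroup.commutator_le]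
    intro a _ b _
    obtain ⟨a', ha', hae⟩ : QuotientGroup.mk' _ a ∈ M.map (QuotientGroup.mk' (Subgroup.center _)) := by
      rw [htop]; trivial
    obtain ⟨z, hz, rfl⟩ : ∃ z ∈ Subgroup.center (Matrix.symplecticGroup (Fin i) F), a = a' * z :=
      ⟨a'⁻¹ * a, QuotientGroup.eq.1 hae, (mul_inv_cancel_left _ _).symm⟩
    rw [commutatorElement_def, _root_.mul_inv_rev, show a' * z * b * (z⁻¹ * a'⁻¹) * b⁻¹ = a' * (b * a'⁻¹ * b⁻¹) by
      rw [mul_assoc a' z b, ← Subgroup.mem_center_iff.1 hz b]; simp [mul_assoc]]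
    exact mul_mem ha' (Subgroup.Normal.conj_mem inferInstance _ (inv_mem ha') b)
  rw [hperf, top_le_iff, hM] at hle
  rw [eq_top_iff]
  intro y _
  have : e.symm y ∈ L.comap e.toMonoidHom := by rw [hle]; trivial
  simpa using this

variable [Finite V] (h : HPair S.toQd)

/-- The negative eigenspace. -/
noncomputable def negE (P : S.SRep i) : Submodule F (Fin i ⊕ Fin i → F) :=
  LinearMap.range (toLin' (P.e (S.Pm h)))

/-- The positive eigenspace. -/
noncomputable def posE (P : S.SRep i) : Submodule F (Fin i ⊕ Fin i → F) :=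
  LinearMap.range (toLin' (P.e (S.Pp h)))

theorem mem_negE {x : Fin i ⊕ Fin i → F} : x ∈ P.negE h ↔ P.e (S.Pm h) *ᵥ x = x := by
  refine ⟨?_, fun e => ⟨x, by rw [toLin'_apply, e]⟩⟩
  rintro ⟨y, rfl⟩
  rw [toLin'_apply, mulVec_mulVec, ← map_mul, S.Pm_sq]

theorem mem_posE {x : Fin i ⊕ Fin i → F} : x ∈ P.posE h ↔ P.e (S.Pp h) *ᵥ x = x := by
  refine ⟨?_, fun e => ⟨x, by rw [toLin'_apply, e]⟩⟩
  rintro ⟨y, rfl⟩
  rw [toLin'_apply, mulVec_mulVec, ← map_mul, S.Pp_sq]

theorem sup_eq_top : P.posE h ⊔ P.negE h = ⊤ := by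
  refine eq_top_iff.2 fun x _ => Submodule.mem_sup.2 ⟨_, ⟨x, rfl⟩, _, ⟨x, rfl⟩, ?_⟩
  rw [toLin'_apply, toLin'_apply, ← add_mulVec, ← map_add, S.Pp_add_Pm, map_one, one_mulVec]

theorem form_pos_neg {x y : Fin i ⊕ Fin i → F} (hx : x ∈ P.posE h) (hy : y ∈ P.negE h) : sympForm i F x y = 0 := by
  rw [← (P.mem_negE h).1 hy, ← P.adj, S.τ_Pm, ← (P.mem_posE h).1 hx, mulVec_mulVec, ← map_mul, S.Pm_Pp, map_zero,
    zero_mulVec, sympForm_zero_left]

theorem finrank_negE : 2 * finrank F (P.negE h) = 2 * i := by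
  have hswap : ∀ x, x ∈ P.negE h → P.e (S.r h.x : A) *ᵥ x ∈ P.posE h := fun x hx => by
    rw [P.mem_posE, mulVec_mulVec, ← map_mul, ← S.rx_Pm, map_mul, ← mulVec_mulVec, (P.mem_negE h).1 hx]
  have hswap' : ∀ x, x ∈ P.posE h → P.e (S.r h.x : A) *ᵥ x ∈ P.negE h := fun x hx => by
    rw [P.mem_negE, mulVec_mulVec, ← map_mul, ← S.rx_Pp, map_mul, ← mulVec_mulVec, (P.mem_posE h).1 hx]
  have hinj : Function.Injective fun x => P.e (S.r h.x : A) *ᵥ x := fun a b e => by
    have := congrArg (fun x => P.e (S.r h.x : A) *ᵥ x) e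
    simpa [mulVec_mulVec, ← map_mul, S.rx_sq] using this
  have h1 : finrank F (P.negE h) = finrank F (P.posE h) := le_antisymm
    (LinearMap.finrank_le_finrank_of_injective (f := ((toLin' (P.e (S.r h.x : A))).comp (P.negE h).subtype).codRestrict
      (P.posE h) fun x => by simpa using hswap x x.2) fun a b e => Subtype.ext (hinj (by
        simpa using congrArg Subtype.val e)))
    (LinearMap.finrank_le_finrank_of_injective (f := ((toLin' (P.e (S.r h.x : A))).comp (P.posE h).subtype).codRestrict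
      (P.negE h) fun x => by simpa using hswap' x x.2) fun a b e => Subtype.ext (hinj (by
        simpa using congrArg Subtype.val e)))
  have h2 := Submodule.finrank_sup_add_finrank_inf_eq (P.posE h) (P.negE h)
  have h3 : P.posE h ⊓ P.negE h = ⊥ := eq_bot_iff.2 fun x ⟨hx, hy⟩ => by
    rw [Submodule.mem_bot, ← (P.mem_posE h).1 hx, ← (P.mem_negE h).1 hy, mulVec_mulVec, ← map_mul, S.Pp_Pm,
      map_zero, zero_mulVec]
  rw [P.sup_eq_top, h3, finrank_bot, finrank_top, finrank_fintype_fun_eq_card, Fintype.card_sum, Fintype.card_fin]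
    at h2
  omega

theorem negE_sep {x : Fin i ⊕ Fin i → F} (hx : x ∈ P.negE h) (hperp : ∀ y ∈ P.negE h, sympForm i F x y = 0) :
    x = 0 := eq_zero_of_sympForm_eq_zero fun y => by
  obtain ⟨a, ha, b, hb, rfl⟩ := Submodule.mem_sup.1 ((P.sup_eq_top h).symm ▸ (Submodule.mem_top : y ∈ ⊤))
  rw [sympForm_add_right, hperp b hb, sympForm_swap, P.form_pos_neg h ha hx, neg_zero, zero_add]

theorem posE_sep {x : Fin i ⊕ Fin i → F} (hx : x ∈ P.posE h) (hperp : ∀ y ∈ P.posE h, sympForm i F x y = 0) :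
    x = 0 := eq_zero_of_sympForm_eq_zero fun y => by
  obtain ⟨a, ha, b, hb, rfl⟩ := Submodule.mem_sup.1 ((P.sup_eq_top h).symm ▸ (Submodule.mem_top : y ∈ ⊤))
  rw [sympForm_add_right, hperp a ha, P.form_pos_neg h hx hb, zero_add]

theorem sub_maps {a : A} (ha : a ∈ S.subAlg h) {x : Fin i ⊕ Fin i → F} (hx : x ∈ P.negE h) :
    P.e a *ᵥ x ∈ P.negE h := by
  rw [P.mem_negE, mulVec_mulVec, ← map_mul, (S.Pm_comm h ha).eq, map_mul, ← mulVec_mulVec, (P.mem_negE h).1 hx]

/-- The subsystem is realised on the negative eigenspace. -/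
theorem exists_sub (P : S.SRep i) {j : ℕ} (hj : i = 2 * j) (hcard : 4 * Nat.card h.W = Nat.card V) : Nonempty ((S.sub h).SRep j) := by
  classical
  obtain ⟨E, hE⟩ : ∃ E, E = P.negE h := ⟨_, rfl⟩
  obtain ⟨B, hB⟩ : ∃ B : LinearMap.BilinForm F E, ∀ u v : E, B u v = sympForm i F (u : _) (v : _) :=
    ⟨(sympB i F).restrict E, fun u v => sympB_apply _ _⟩
  have hEd : finrank F E = 2 * j := by rw [hE]; have := P.finrank_negE h; omega
  obtain ⟨L, hL⟩ := exists_symp_coords B (fun u => by rw [hB, sympForm_self])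
    (fun u hu => Subtype.ext (P.negE_sep h (hE ▸ u.2) fun y hy => by
      have hy' : y ∈ E := by rw [hE]; exact hy
      rw [← hu ⟨y, hy'⟩, hB])) hEd
  have hmaps : ∀ (a : S.subAlg h) (x : E), P.e (a : A) *ᵥ (x : Fin i ⊕ Fin i → F) ∈ E := fun a x =>
    by have h1 := P.sub_maps h a.2 (show (x : Fin i ⊕ Fin i → F) ∈ P.negE h by rw [← hE]; exact x.2); rwa [← hE] at h1
  obtain ⟨op, hop⟩ : ∃ op : S.subAlg h → (E →ₗ[F] E), ∀ a x, (op a x : Fin i ⊕ Fin i → F) = P.e (a : A) *ᵥ x :=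
    ⟨fun a => ((toLin' (P.e (a : A))).comp E.subtype).codRestrict E fun x => by simpa using hmaps a x,
      fun a x => by simp⟩
  obtain ⟨ρ, hρ⟩ : ∃ ρ : S.subAlg h →ₐ[F] Matrix (Fin j ⊕ Fin j) (Fin j ⊕ Fin j) F,
      ∀ a x, ρ a *ᵥ x = L.symm (op a (L x)) := by
    have key : ∀ a x, LinearMap.toMatrix' (L.symm.toLinearMap ∘ₗ op a ∘ₗ L.toLinearMap) *ᵥ x = L.symm (op a (L x)) :=
      fun a x => by rw [LinearMap.toMatrix'_mulVec]; rfl
    refine ⟨AlgHom.ofLinearMap
      { toFun := fun a => LinearMap.toMatrix' (L.symm.toLinearMap ∘ₗ op a ∘ₗ L.toLinearMap)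
        map_add' := fun a b => Matrix.ext_iff_mulVec.2 fun x => by
          rw [key, add_mulVec, key, key, ← map_add]
          exact congrArg L.symm (Subtype.ext (by simp [hop, add_mulVec]))
        map_smul' := fun c a => Matrix.ext_iff_mulVec.2 fun x => by
          rw [key, RingHom.id_apply, smul_mulVec, key, ← map_smul]
          exact congrArg L.symm (Subtype.ext (by simp [hop, smul_mulVec])) }
      (Matrix.ext_iff_mulVec.2 fun x => by
        refine (key _ _).trans ?_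
        rw [one_mulVec, show op 1 (L x) = L x from Subtype.ext (by simp [hop]), LinearEquiv.symm_apply_apply])
      (fun a b => Matrix.ext_iff_mulVec.2 fun x => by
        refine (key _ _).trans (Eq.trans ?_ (mulVec_mulVec ..))
        refine Eq.trans ?_ (key a _).symm
        refine Eq.trans ?_ (congrArg (fun y => L.symm (op a (L y))) (key b x).symm)
        simp only [LinearEquiv.apply_symm_apply]
        exact congrArg L.symm (Subtype.ext (by simp [hop, mulVec_mulVec]))), fun a x => key a x⟩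
  have hinj : Function.Injective ρ := (injective_iff_map_eq_zero ρ).2 fun a ha => by
    have h0 : ∀ x : Fin i ⊕ Fin i → F, P.e ((a : A) * S.Pm h) *ᵥ x = 0 := fun x => by
      rw [map_mul, ← mulVec_mulVec]
      have h1 : P.e (S.Pm h) *ᵥ x ∈ E := hE ▸ ⟨x, rfl⟩
      have h2 := hρ a (L.symm ⟨_, h1⟩)
      rw [ha, zero_mulVec, LinearEquiv.apply_symm_apply] at h2
      have h3 := (LinearEquiv.map_eq_zero_iff L.symm).1 h2.symm
      have := hop a ⟨_, h1⟩
      rw [h3] at this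
      exact this.symm
    have h4 : (a : A) * S.Pm h = 0 := P.e.injective (by
      rw [map_zero]; exact Matrix.ext_iff_mulVec.2 fun x => by rw [h0, zero_mulVec])
    refine Subtype.ext ((S.pr_eq_zero h (zero_mem _) a.2 ?_).2)
    rw [pr, mul_zero, zero_add, (S.Pm_comm h a.2).eq, h4]
  letI : Fintype V := Fintype.ofFinite V
  letI : Fintype h.W := Fintype.ofFinite _
  have hdim : finrank F (S.subAlg h) = finrank F (Matrix (Fin j ⊕ Fin j) (Fin j ⊕ Fin j) F) := by
    have h1 : finrank F (Matrix (Fin i ⊕ Fin i) (Fin i ⊕ Fin i) F) = Fintype.card V := by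
      rw [← P.e.toLinearEquiv.finrank_eq, finrank_eq_card_basis S.basis]
    rw [finrank_eq_card_basis (S.sub h).basis, finrank_matrix, Module.finrank_self]
    rw [finrank_matrix, Module.finrank_self] at h1
    rw [Nat.card_eq_fintype_card, Nat.card_eq_fintype_card] at hcard
    simp only [Fintype.card_sum, Fintype.card_fin, mul_one, hj] at h1 ⊢
    nlinarith
  haveI : FiniteDimensional F (S.subAlg h) := Module.Finite.of_basis (S.sub h).basis
  have hbij : Function.Bijective ρ := ⟨hinj,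
    (LinearMap.injective_iff_surjective_of_finrank_eq_finrank (f := ρ.toLinearMap) hdim).1 hinj⟩
  refine ⟨⟨AlgEquiv.ofBijective ρ hbij, fun a x y => ?_⟩⟩
  show sympForm j F (ρ _ *ᵥ x) y = sympForm j F x (ρ a *ᵥ y)
  rw [hρ, hρ, ← hL, ← hL, LinearEquiv.apply_symm_apply, LinearEquiv.apply_symm_apply, hB, hB, hop, hop]
  exact P.adj _ _ _

theorem exists_tv (v : Fin i ⊕ Fin i → F) (hv : v ∈ P.negE h ∨ v ∈ P.posE h) (c : F) :
    ∃ a b, ∀ x, P.e (((S.Psi h (a, b) : S.Iso) : Aˣ) : A) *ᵥ x = x + (c * sympForm i F x v) • v := by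
  obtain ⟨T, hT, hTx⟩ := exists_sp_tv v c
  rw [← P.toGL_range] at hT
  obtain ⟨g, rfl⟩ := hT
  have hzv : P.e (S.r h.z : A) *ᵥ v = v ∨ P.e (S.r h.z : A) *ᵥ v = -v := by
    rcases hv with hv | hv
    · right; rw [← (P.mem_negE h).1 hv, mulVec_mulVec, ← map_mul, S.rz_Pm, map_neg, neg_mulVec]
    · left; rw [← (P.mem_posE h).1 hv, mulVec_mulVec, ← map_mul, S.rz_Pp]
  have hcomm : g * S.rI h.z = S.rI h.z * g := P.toGL_injective (Units.ext (Matrix.ext_iff_mulVec.2 fun x => by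
    simp only [map_mul, Units.val_mul, ← mulVec_mulVec, hTx]
    simp only [toGL_val, rI_val, mulVec_add, mulVec_smul]
    have hB : sympForm i F (P.e (S.r h.z : A) *ᵥ x) v = sympForm i F x (P.e (S.r h.z : A) *ᵥ v) := by
      rw [← P.adj, S.adj, h.qz, sg_zero, one_smul]
    rw [hB]
    rcases hzv with e | e <;> rw [e]
    rw [show sympForm i F x (-v) = -sympForm i F x v by rw [← neg_one_smul F v, sympForm_smul_right]; ring]
    module))
  obtain ⟨a, b, hab⟩ := S.exists_Psi h hcomm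
  refine ⟨a, b, fun x => ?_⟩
  rw [← hab]
  exact hTx x

/-- Both block groups give the whole group. -/
theorem eq_top_of_blocks [Finite A] (P : S.SRep i) {H : Subgroup S.Iso} (hblocks : ∀ a b, S.Psi h (a, b) ∈ H)
    {γ : S.Iso} (hγ : γ ∈ H) (hγN : γ ∈ S.gsys.N) (hγz : S.gsys.phi γ h.z = h.x) : H = ⊤ := by
  classical
  obtain ⟨M, hM⟩ : ∃ M, M = H.map P.toGL := ⟨_, rfl⟩
  obtain ⟨S₀, hS₀⟩ : ∃ S₀ : Set (Fin i ⊕ Fin i → F), S₀ = (P.negE h : Set _) ∪ P.posE h := ⟨_, rfl⟩
  obtain ⟨g, hg⟩ : ∃ g, g = P.toGL γ := ⟨_, rfl⟩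
  have hgM : g ∈ M := hM ▸ hg ▸ Subgroup.mem_map_of_mem _ hγ
  have hPt : ∀ v ∈ S₀, Pt M v := fun v hv c => by
    obtain ⟨a, b, hab⟩ := P.exists_tv h v (by rw [hS₀] at hv; exact hv) c
    refine ⟨P.toGL (S.Psi h (a, b)), hM ▸ Subgroup.mem_map_of_mem _ (hblocks a b), fun x => ?_⟩
    rw [P.toGL_val, hab, fn_dot sesq_sympForm, sympForm_smul_right]
  have hrx : P.e (S.r h.x : A) = ((g : GL (Fin i ⊕ Fin i) F) : Matrix _ _ F) * P.e (S.r h.z : A) *
        ((g⁻¹ : GL (Fin i ⊕ Fin i) F) : Matrix _ _ F) ∨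
      P.e (S.r h.x : A) = -(((g : GL (Fin i ⊕ Fin i) F) : Matrix _ _ F) * P.e (S.r h.z : A) *
        ((g⁻¹ : GL (Fin i ⊕ Fin i) F) : Matrix _ _ F)) := by
    have h1 := S.gsys.phi_spec hγN h.z
    rw [hγz] at h1
    rcases S.peq_iff.1 (S.cinv_epsI.symm h1) with e | e
    · left
      have h2 := congrArg P.e e
      rw [hg, ← map_inv]
      simpa [gsys_r, toGL_val, rI_val, map_mul, -map_inv] using h2
    · right
      have h2 := congrArg P.e e
      rw [hg, ← map_inv]
      simpa [gsys_r, toGL_val, rI_val, map_mul, -map_inv] using h2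
  obtain ⟨S₁, hS₁⟩ : ∃ S₁ : Set (Fin i ⊕ Fin i → F), S₁ = S₀ ∪ (fun v => (g : Matrix _ _ F) *ᵥ v) '' S₀ := ⟨_, rfl⟩
  have hS₁Pt : ∀ v ∈ S₁, Pt M v := fun v hv => by
    rw [hS₁] at hv
    rcases hv with hv | ⟨w, hw, rfl⟩
    · exact hPt v hv
    · exact (hPt w hw).map hgM (hg ▸ P.toGL_mem γ)
  have hspan : Submodule.span F S₁ = ⊤ := by
    refine eq_top_iff.2 ?_
    rw [← P.sup_eq_top h]
    refine sup_le (fun x hx => Submodule.subset_span ?_) (fun x hx => Submodule.subset_span ?_) <;>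
      (rw [hS₁]; left; rw [hS₀])
    · exact Or.inr hx
    · exact Or.inl hx
  have hgx : ∀ x y, sympForm i F ((g : Matrix _ _ F) *ᵥ x) ((g : Matrix _ _ F) *ᵥ y) = sympForm i F x y :=
    mem_spGL.1 (hg ▸ P.toGL_mem γ)
  -- every centre meets both eigenspaces of the other element
  have hmeet : ∀ E ∈ ({P.negE h, P.posE h} : Set (Submodule F (Fin i ⊕ Fin i → F))),
      ∀ E' ∈ ({P.negE h, P.posE h} : Set (Submodule F (Fin i ⊕ Fin i → F))),
      ∃ u ∈ E, ∃ v ∈ E', sympForm i F u ((g : Matrix _ _ F) *ᵥ v) ≠ 0 := by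
    intro E hE E' hE'
    by_contra hcon
    push Not at hcon
    obtain ⟨s, hs⟩ : ∃ s : A, E = LinearMap.range (toLin' (P.e s)) ∧ S.τ s = s ∧ (s = S.Pm h ∨ s = S.Pp h) := by
      rcases hE with rfl | rfl
      · exact ⟨_, rfl, S.τ_Pm h, Or.inl rfl⟩
      · exact ⟨_, rfl, S.τ_Pp h, Or.inr rfl⟩
    obtain ⟨t, ht⟩ : ∃ t : A, E' = LinearMap.range (toLin' (P.e t)) ∧ (t = S.Pm h ∨ t = S.Pp h) := by
      rcases hE' with rfl | rfl
      · exact ⟨_, rfl, Or.inl rfl⟩
      · exact ⟨_, rfl, Or.inr rfl⟩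
    have h0 : ∀ y, P.e s *ᵥ ((g : Matrix _ _ F) *ᵥ (P.e t *ᵥ y)) = 0 := fun y => eq_zero_of_sympForm_eq_zero fun u => by
      conv_lhs => arg 3; rw [← hs.2.1]
      rw [P.adj, sympForm_swap, hcon _ (hs.1 ▸ ⟨u, toLin'_apply _ _⟩) _ (ht.1 ▸ ⟨y, toLin'_apply _ _⟩), neg_zero]
    have h1 : P.e s * ((g : Matrix _ _ F) * P.e t * ((g⁻¹ : GL (Fin i ⊕ Fin i) F) : Matrix _ _ F)) = 0 :=
      Matrix.ext_iff_mulVec.2 fun y => by rw [← mulVec_mulVec, ← mulVec_mulVec, ← mulVec_mulVec, h0, zero_mulVec]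
    obtain ⟨σ, τ', hσ, hτ'⟩ : ∃ σ τ' : F, (σ = 1 ∨ σ = -1) ∧ (τ' = 1 ∨ τ' = -1) ∧
        s * (1 + τ' • (S.r h.x : A)) = 0 ∧ (S.r h.z : A) * s = σ • s := by
      have hconj : ∀ τ' : F, t = (2 : F)⁻¹ • (1 + τ' • (S.r h.z : A)) →
          ∃ τ'' : F, (τ'' = τ' ∨ τ'' = -τ') ∧ P.e (s * (1 + τ'' • (S.r h.x : A))) = 0 := fun τ' ht' => by
        rw [ht', map_smul, map_add, map_one, map_smul, Matrix.mul_smul, Matrix.smul_mul, Matrix.mul_smul,
          smul_eq_zero, mul_add, mul_one, add_mul, Units.mul_inv, Matrix.mul_smul, Matrix.smul_mul] at h1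
        have h1' := h1.resolve_left (inv_ne_zero S.two)
        rcases hrx with e | e
        · exact ⟨τ', Or.inl rfl, by rw [map_mul, map_add, map_one, map_smul, e]; exact h1'⟩
        · exact ⟨-τ', Or.inr rfl, by rw [map_mul, map_add, map_one, map_smul, e, neg_smul, smul_neg, neg_neg]; exact h1'⟩
      obtain ⟨τ', hτ1, hτ2⟩ : ∃ τ' : F, (τ' = 1 ∨ τ' = -1) ∧ t = (2 : F)⁻¹ • (1 + τ' • (S.r h.z : A)) := by
        rcases ht.2 with e | e <;> rw [e]
        · exact ⟨-1, Or.inr rfl, by rw [neg_one_smul, ← sub_eq_add_neg]; rfl⟩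
        · exact ⟨1, Or.inl rfl, by rw [one_smul]; rfl⟩
      obtain ⟨τ'', hτ'', hz⟩ := hconj τ' hτ2
      obtain ⟨σ, hσ1, hσ2⟩ : ∃ σ : F, (σ = 1 ∨ σ = -1) ∧ (S.r h.z : A) * s = σ • s := by
        rcases hs.2.2 with e | e <;> rw [e]
        · exact ⟨-1, Or.inr rfl, by rw [S.rz_Pm, neg_one_smul]⟩
        · exact ⟨1, Or.inl rfl, by rw [S.rz_Pp, one_smul]⟩
      refine ⟨σ, τ'', hσ1, ?_, P.e.injective (by rw [hz, map_zero]), hσ2⟩
      rcases hτ1 with rfl | rfl <;> rcases hτ'' with e | e <;> simp [e]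
    obtain ⟨hτu, hz0, hzs⟩ := hτ'
    -- multiply by the projection on the right
    have hs0 : s ≠ 0 := by
      intro e
      rcases hs.2.2 with e' | e'
      · have h0 := S.pr_eq_zero h (zero_mem _) (one_mem _) (by rw [pr, mul_zero, mul_one, zero_add, ← e', e])
        haveI := S.nontrivial
        exact one_ne_zero h0.2
      · have h0 := S.pr_eq_zero h (one_mem _) (zero_mem _) (by rw [pr, mul_zero, mul_one, add_zero, ← e', e])
        haveI := S.nontrivial
        exact one_ne_zero h0.1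
    refine hs0 ?_
    have hsxs : s * (S.r h.x : A) * s = 0 := by
      rcases hs.2.2 with e | e <;> rw [e, mul_assoc]
      · rw [S.rx_Pm, ← mul_assoc, S.Pm_Pp, zero_mul]
      · rw [S.rx_Pp, ← mul_assoc, S.Pp_Pm, zero_mul]
    have hss : s * s = s := by
      rcases hs.2.2 with e | e <;> rw [e]
      · exact S.Pm_sq h
      · exact S.Pp_sq h
    have := congrArg (· * s) hz0
    simp only [zero_mul, mul_add, add_mul, mul_one, Algebra.mul_smul_comm, Algebra.smul_mul_assoc, hsxs, smul_zero,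
      add_zero, hss] at this
    exact this
  have hsym : ∀ {u v}, PtAdj M u v → PtAdj M v u := fun {u v} ⟨a, b, c⟩ =>
    ⟨b, a, by rw [sympForm_swap]; exact neg_ne_zero.2 c⟩
  have hsame : ∀ {u v}, ∀ E ∈ ({P.negE h, P.posE h} : Set (Submodule F (Fin i ⊕ Fin i → F))), u ∈ E → v ∈ E →
      u ≠ 0 → v ≠ 0 → Relation.ReflTransGen (PtAdj M) u v := fun {u v} E hE hu hv hu0 hv0 => by
    have hsep : ∀ x ∈ E, x ≠ 0 → ∃ y ∈ E, sympForm i F x y ≠ 0 := fun x hx hx0 => by
      by_contra hcon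
      push Not at hcon
      rcases hE with rfl | rfl
      · exact hx0 (P.negE_sep h hx hcon)
      · exact hx0 (P.posE_sep h hx hcon)
    obtain ⟨w, hw, h1, h2⟩ := exists_both (S := E) (sympB i F u) (sympB i F v)
      (by obtain ⟨y, hy, hy'⟩ := hsep u hu hu0; exact ⟨y, hy, by rwa [sympB_apply]⟩)
      (by obtain ⟨y, hy, hy'⟩ := hsep v hv hv0; exact ⟨y, hy, by rwa [sympB_apply]⟩)
    rw [sympB_apply] at h1 h2
    have hmem : ∀ {x}, x ∈ E → Pt M x := fun {x} hx => hPt x (by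
      rw [hS₀]; rcases hE with rfl | rfl
      · exact Or.inl hx
      · exact Or.inr hx)
    exact (Relation.ReflTransGen.single ⟨hmem hu, hmem hw, h1⟩).tail (hsym ⟨hmem hv, hmem hw, h2⟩)
  have hsameg : ∀ {u v}, Relation.ReflTransGen (PtAdj M) u v →
      Relation.ReflTransGen (PtAdj M) ((g : Matrix _ _ F) *ᵥ u) ((g : Matrix _ _ F) *ᵥ v) := fun {u v} huv =>
    huv.lift _ fun a b ⟨ha, hb, hab⟩ =>
      ⟨ha.map hgM (hg ▸ P.toGL_mem γ), hb.map hgM (hg ▸ P.toGL_mem γ), by rwa [hgx]⟩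
  have hsymr : ∀ {u v}, Relation.ReflTransGen (PtAdj M) u v → Relation.ReflTransGen (PtAdj M) v u := fun {u v} huv => by
    induction huv with
    | refl => exact .refl
    | tail _ hab ih => exact (Relation.ReflTransGen.single (hsym hab)).trans ih
  have hPtE : ∀ E ∈ ({P.negE h, P.posE h} : Set (Submodule F (Fin i ⊕ Fin i → F))), ∀ x ∈ E, x ∈ S₀ := by
    intro E hE x hx
    rw [hS₀]; rcases hE with rfl | rfl
    · exact Or.inl hx
    · exact Or.inr hx
  have hcross : ∀ E ∈ ({P.negE h, P.posE h} : Set (Submodule F (Fin i ⊕ Fin i → F))),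
      ∀ E' ∈ ({P.negE h, P.posE h} : Set (Submodule F (Fin i ⊕ Fin i → F))), ∀ u ∈ E, ∀ v ∈ E', u ≠ 0 → v ≠ 0 →
        Relation.ReflTransGen (PtAdj M) u ((g : Matrix _ _ F) *ᵥ v) := fun E hE E' hE' u hu v hv hu0 hv0 => by
    obtain ⟨a, ha, b, hb, hab⟩ := hmeet E hE E' hE'
    have ha0 : a ≠ 0 := fun e => hab (by rw [e, sympForm_zero_left])
    have hb0 : b ≠ 0 := fun e => hab (by rw [e, mulVec_zero, sympForm_zero_right])
    exact ((hsame E hE hu ha hu0 ha0).tail ⟨hPt a (hPtE E hE a ha), (hPt b (hPtE E' hE' b hb)).map hgM (hg ▸ P.toGL_mem γ), hab⟩).trans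
      (hsameg (hsame E' hE' hb hv hb0 hv0))
  have hmax : spGL i F ≤ M := by
    refine spGL_le_of_connected (S := S₁ \ {0}) S.two (fun v hv => hS₁Pt v hv.1) ?_ ?_
    · rw [Submodule.span_sdiff_singleton_zero, hspan]
    · have hset : ∀ v ∈ S₁ \ {0}, ∃ E ∈ ({P.negE h, P.posE h} : Set (Submodule F (Fin i ⊕ Fin i → F))),
          (v ∈ E ∧ v ≠ 0) ∨ ∃ w ∈ E, w ≠ 0 ∧ v = (g : Matrix _ _ F) *ᵥ w := by
        rintro v ⟨hv, hv0⟩
        rw [hS₁, hS₀] at hv
        rcases hv with (hv | hv) | ⟨w, hw | hw, rfl⟩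
        · exact ⟨_, Or.inl rfl, Or.inl ⟨hv, hv0⟩⟩
        · exact ⟨_, Or.inr rfl, Or.inl ⟨hv, hv0⟩⟩
        · exact ⟨_, Or.inl rfl, Or.inr ⟨w, hw, fun e => hv0 (by simp [e]), rfl⟩⟩
        · exact ⟨_, Or.inr rfl, Or.inr ⟨w, hw, fun e => hv0 (by simp [e]), rfl⟩⟩
      intro u hu v hv
      obtain ⟨E, hE, hu'⟩ := hset u hu
      obtain ⟨E', hE', hv'⟩ := hset v hv
      rcases hu' with ⟨hu', hu0⟩ | ⟨u', hu', hu0, rfl⟩ <;> rcases hv' with ⟨hv', hv0⟩ | ⟨v', hv', hv0, rfl⟩
      · obtain ⟨a, ha, b, hb, hab⟩ := hmeet E hE E' hE'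
        have hb0 : b ≠ 0 := fun e => hab (by rw [e, mulVec_zero, sympForm_zero_right])
        exact (hcross E hE E' hE' u hu' b hb hu0 hb0).trans (hsymr (hcross E' hE' E' hE' v hv' b hb hv0 hb0))
      · exact hcross E hE E' hE' u hu' v' hv' hu0 hv0
      · exact hsymr (hcross E' hE' E hE v hv' u' hu' hv0 hu0)
      · obtain ⟨a, ha, b, hb, hab⟩ := hmeet E hE E' hE'
        have ha0 : a ≠ 0 := fun e => hab (by rw [e, sympForm_zero_left])
        exact (hsymr (hcross E hE E hE a ha u' hu' ha0 hu0)).trans (hcross E hE E' hE' a ha v' hv' ha0 hv0)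
  rw [eq_top_iff]
  intro x _
  obtain ⟨y, hy, e⟩ := hM ▸ hmax (P.toGL_mem x)
  exact P.toGL_injective e ▸ hy

end SRep

end Sys

end Cfsg.Agent.Classical.CliffordTwo
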