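import Cfsg.Agent.Lib.Classical.CliffordTwo.Bridge
import Cfsg.Agent.Lib.Classical.CliffordTwo.SympSix
import Cfsg.Agent.Lib.Classical.MaxTransvection

/-!
The normaliser of an extraspecial group of minus type and order 128 in the eight-dimensional symplectic group.
-/

set_option autoImplicit false
open Cfsg

namespace Cfsg.Agent.Classical.CliffordTwo

open Matrix Module

/-- Maximality of the normaliser of a minus type extraspecial group in the eight-dimensional symplectic group. -/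
theorem symplectic_eight_normalizer_maximal {F : Type*} [Field F] [Fintype F] (p : ℕ) (R : Subgroup (Matrix.GeneralLinearGroup (Fin 4 ⊕ Fin 4) F)) (hp : p.Prime) (hpo : Odd p) (hF : Fintype.card F = p) (hR : Cfsg.Geo.IsSymplecticTypeGroup 2 R) (hirr : Cfsg.Geo.ActsAbsolutelyIrreducibly (Cfsg.Geo.matrixSet R)) (hRD : R ≤ Cfsg.spGL 4 F) (hcard : Nat.card R = 128) (hZ : Nat.card (Subgroup.center R) = 2) (hminus : Cfsg.Geo.IsOfMinusType 3 R) : Cfsg.Geo.IsMaximalIn (Cfsg.spGL 4 F) (Cfsg.Geo.subgroupNormalizer R ⊓ Cfsg.spGL 4 F) := by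
  classical
  have h2 : (2 : F) ≠ 0 := by
    intro h
    haveI : Fact p.Prime := ⟨hp⟩
    haveI := charP_of_card_eq_prime hF
    have h' : ((2 : ℕ) : F) = 0 := by exact_mod_cast h
    have := (CharP.cast_eq_zero_iff F p 2).1 h'
    have := (Nat.prime_dvd_prime_iff_eq hp Nat.prime_two).1 this
    subst this
    exact absurd hpo (by decide)
  obtain ⟨τ, hτdef⟩ : ∃ τ : Matrix (Fin 4 ⊕ Fin 4) (Fin 4 ⊕ Fin 4) F →ₗ[F] Matrix (Fin 4 ⊕ Fin 4) (Fin 4 ⊕ Fin 4) F,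
      ∀ X, τ X = -(Matrix.J (Fin 4) F * Xᵀ * Matrix.J (Fin 4) F) :=
    ⟨-((LinearMap.mulRight F (Matrix.J (Fin 4) F)).comp ((LinearMap.mulLeft F (Matrix.J (Fin 4) F)).comp
      (Matrix.transposeLinearEquiv (Fin 4 ⊕ Fin 4) (Fin 4 ⊕ Fin 4) F F).toLinearMap)), fun X => by simp⟩
  have hJJ : Matrix.J (Fin 4) F * Matrix.J (Fin 4) F = -1 := Matrix.J_squared _ _
  have hτmul : ∀ a b, τ (a * b) = τ b * τ a := fun a b => by
    rw [hτdef, hτdef, hτdef, transpose_mul, neg_mul_neg]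
    simp only [← mul_assoc]
    rw [mul_assoc _ (Matrix.J (Fin 4) F) (Matrix.J (Fin 4) F), hJJ]
    simp [mul_assoc]
  have hadj : ∀ X (x y : Fin 4 ⊕ Fin 4 → F), sympForm 4 F (τ X *ᵥ x) y = sympForm 4 F x (X *ᵥ y) := fun X x y => by
    simp only [sympForm, mulVec_mulVec]
    rw [← vecMul_transpose, ← dotProduct_mulVec, mulVec_mulVec, hτdef, transpose_neg, transpose_mul, transpose_mul,
      transpose_transpose, J_transpose]
    simp [mul_assoc, hJJ]
  have hiso : ∀ g : GL (Fin 4 ⊕ Fin 4) F,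
      τ (g : Matrix (Fin 4 ⊕ Fin 4) (Fin 4 ⊕ Fin 4) F) * g = 1 ↔ g ∈ spGL 4 F := fun g => by
    show _ ↔ ∀ x y, sympForm 4 F ((g : Matrix (Fin 4 ⊕ Fin 4) (Fin 4 ⊕ Fin 4) F) *ᵥ x) ((g : Matrix (Fin 4 ⊕ Fin 4) (Fin 4 ⊕ Fin 4) F) *ᵥ y) = sympForm 4 F x y
    constructor
    · intro h x y
      rw [← hadj, mulVec_mulVec, h, one_mulVec]
    · intro h
      refine Matrix.ext_iff_mulVec.2 fun v => sub_eq_zero.1 (Classical.eq_zero_of_sympForm_eq_zero fun y => ?_)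
      rw [one_mulVec, Classical.sympForm_sub_left, ← mulVec_mulVec, hadj, h, sub_self]
  obtain E := Bridge.ext_of (k := 3) h2 (by simp) hR hirr (by rw [hcard]; norm_num) hZ
  obtain ⟨S, hSτ, hSR, hsurj, hdim⟩ := E.exists_sys τ hτmul fun g hg => (hiso g).2 (hRD hg)
  have hfr : finrank (ZMod 2) (Fin (2 * 3) → ZMod 2) = 6 := Module.finrank_fin_fun _
  have hIso : ∀ g, g ∈ S.Iso ↔ g ∈ spGL 4 F := fun g => by rw [S.mem_Iso, hSτ]; exact hiso g
  have hN : ∀ g : S.Iso, g ∈ S.gsys.N ↔ (g : GL _ F) ∈ Geo.subgroupNormalizer R := Bridge.mem_N_iff hSR hsurj E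
  have P : S.SRep 4 := ⟨AlgEquiv.refl, fun a x y => by rw [hSτ]; exact hadj a x y⟩
  refine Classical.MaxTv.isMaximalIn_intro inf_le_right (fun hle => ?_) fun M hHM hMK g hg hgH => ?_
  · obtain ⟨g, hgN⟩ := S.exists_not_mem_N_of_rep P (by norm_num) (by omega)
    exact hgN ((hN g).2 (hle ((hIso g).1 g.2)).1)
  · obtain ⟨H, hH⟩ : ∃ H, H = M.comap S.Iso.subtype := ⟨_, rfl⟩
    have hNO : S.NO ≤ H := fun x hx => by
      rw [hH, Subgroup.mem_comap]
      exact hHM ⟨(hN x).1 hx.1, (hIso x).1 x.2⟩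
    have hnot : ¬ H ≤ S.gsys.N := fun hle => hgH ⟨(hN ⟨g, (hIso g).2 (hMK hg)⟩).1 (hle (by rw [hH]; exact hg)),
      hMK hg⟩
    have htop : H = ⊤ := S.symp_six P hfr (fun U hU => Bridge.noHalf hSR hsurj E hminus U hU) (hF ▸ hp) hNO hnot
    intro x hx
    have : (⟨x, (hIso x).2 hx⟩ : S.Iso) ∈ H := htop ▸ Subgroup.mem_top _
    rw [hH, Subgroup.mem_comap] at this
    exact this

end Cfsg.Agent.Classical.CliffordTwo
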