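import Cfsg.Agent.Lib.Classical.CliffordTwo.GSys

/-!
Algebras with an involutory anti-automorphism and a basis of signed commuting or anticommuting isometries.
-/

set_option autoImplicit false
set_option linter.unusedSectionVars false

namespace Cfsg.Agent.Classical.CliffordTwo

open Module
open scoped commutatorElement

local notation "Z2" => ZMod 2

/-- A sign. -/
def sg (F : Type*) [Ring F] (s : ZMod 2) : F := if s = 0 then 1 else -1

section

variable (F : Type*) [Ring F]

theorem sg_zero : sg F 0 = 1 := if_pos rfl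

theorem sg_one : sg F 1 = -1 := if_neg one_ne_zero

theorem sg_add (s t : ZMod 2) : sg F (s + t) = sg F s * sg F t := by
  rcases z2_cases s with rfl | rfl <;> rcases z2_cases t with rfl | rfl
  · simp [sg_zero]
  · simp [sg_zero]
  · simp [sg_zero]
  · rw [show (1 : ZMod 2) + 1 = 0 from rfl, sg_zero, sg_one, neg_mul_neg, one_mul]

theorem sg_sq (s : ZMod 2) : sg F s * sg F s = 1 := by rw [← sg_add, z2_add_self, sg_zero]

end

/-- A Clifford system. -/
structure Sys (F : Type*) [Field F] (A : Type*) [Ring A] [Algebra F A] (V : Type*) [AddCommGroup V]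
    [Module (ZMod 2) V] extends Qd V where
  two : (2 : F) ≠ 0
  τ : A →ₗ[F] A
  τ_mul : ∀ a b, τ (a * b) = τ b * τ a
  r : V → Aˣ
  mul : ∀ v w, (r v : A) * r w = r (v + w) ∨ (r v : A) * r w = -(r (v + w) : A)
  comm : ∀ v w, (r v : A) * r w = sg F (B v w) • ((r w : A) * r v)
  sq : ∀ v, (r v : A) * r v = sg F (q v) • (1 : A)
  adj : ∀ v, τ (r v : A) = sg F (q v) • (r v : A)
  li : LinearIndependent F fun v => (r v : A)
  span : ⊤ ≤ Submodule.span F (Set.range fun v => (r v : A))

namespace Sys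

variable {F : Type*} [Field F] {A : Type*} [Ring A] [Algebra F A] {V : Type*} [AddCommGroup V] [Module (ZMod 2) V]
  (S : Sys F A V)

theorem sg_eq_one {s : ZMod 2} (h : sg F s = 1) (h2 : (2 : F) ≠ 0) : s = 0 := by
  rcases z2_cases s with rfl | rfl
  · rfl
  · rw [sg_one] at h; exact absurd (by linear_combination -h : (2 : F) = 0) h2

theorem sg_inj (h2 : (2 : F) ≠ 0) {s t : ZMod 2} (h : sg F s = sg F t) : s = t :=
  z2_add_eq_zero.1 (sg_eq_one (by rw [sg_add, h, sg_sq]) h2)

theorem r_zero : (S.r 0 : A) = 1 ∨ (S.r 0 : A) = -1 := by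
  rcases S.mul 0 0 with h | h <;> rw [add_zero] at h
  · exact Or.inl (congrArg Units.val (mul_eq_right.1 (Units.ext h : S.r 0 * S.r 0 = S.r 0)))
  · refine Or.inr (congrArg Units.val (?_ : S.r 0 = -1))
    have h' : S.r 0 * S.r 0 = (-1) * S.r 0 := Units.ext (by simpa using h)
    exact mul_right_cancel h'

theorem r_ne_zero (v : V) : (S.r v : A) ≠ 0 := S.li.ne_zero v

theorem nontrivial (S : Sys F A V) : Nontrivial A := ⟨⟨_, 0, S.r_ne_zero 0⟩⟩

/-- The basis. -/
noncomputable def basis : Basis V F A := Basis.mk S.li S.span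

theorem basis_apply (v : V) : S.basis v = (S.r v : A) := Basis.mk_apply ..

theorem sum_repr [Fintype V] (a : A) : ∑ v, S.basis.repr a v • (S.r v : A) = a := by
  simpa [S.basis_apply] using S.basis.sum_repr a

theorem repr_r_smul [DecidableEq V] (c : F) (v u : V) :
    S.basis.repr (c • (S.r v : A)) u = if v = u then c else 0 := by
  rw [map_smul, ← S.basis_apply, Basis.repr_self, Finsupp.smul_apply, Finsupp.single_apply, smul_eq_mul, mul_ite,
    mul_one, mul_zero]

theorem τ_one : S.τ 1 = 1 := by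
  rcases S.r_zero with h | h
  · have := S.adj 0
    rwa [h, S.toQd.q_zero, sg_zero, one_smul] at this
  · have := S.adj 0
    rw [h, S.toQd.q_zero, sg_zero, one_smul, map_neg] at this
    exact neg_injective this

theorem τ_smul_one (c : F) : S.τ (c • (1 : A)) = c • 1 := by rw [map_smul, S.τ_one]

theorem τ_r_mul (v : V) : S.τ (S.r v : A) * S.r v = 1 := by
  rw [S.adj, Algebra.smul_mul_assoc, S.sq, smul_smul, sg_sq, one_smul]

/-- Elements commuting with a basis element up to a given sign have their support prescribed. -/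
theorem support_of_comm [Finite V] {a : A} {w : V} {s : ZMod 2}
    (h : a * (S.r w : A) = sg F s • ((S.r w : A) * a)) {v : V} (hv : S.basis.repr a v ≠ 0) : S.B v w = s := by
  classical
  haveI := Fintype.ofFinite V
  have h2 : ∑ u, (S.basis.repr a u * sg F (S.B u w) - sg F s * S.basis.repr a u) • ((S.r w : A) * S.r u) = 0 := by
    simp only [sub_smul, Finset.sum_sub_distrib, sub_eq_zero]
    calc ∑ u, (S.basis.repr a u * sg F (S.B u w)) • ((S.r w : A) * S.r u) = a * S.r w := by
          conv_rhs => rw [← S.sum_repr a, Finset.sum_mul]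
          exact Finset.sum_congr rfl fun u _ => by rw [Algebra.smul_mul_assoc, S.comm u w, smul_smul]
      _ = _ := by
          rw [h]
          conv_lhs => rw [← S.sum_repr a, Finset.mul_sum, Finset.smul_sum]
          exact Finset.sum_congr rfl fun u _ => by rw [Algebra.mul_smul_comm, smul_smul]
  have hli : LinearIndependent F fun u => (S.r w : A) * S.r u :=
    S.li.map' (LinearMap.mulLeft F (S.r w : A)) (LinearMap.ker_eq_bot.2 fun a b e => (Units.mul_right_inj (S.r w)).1 e)
  have := Fintype.linearIndependent_iff.1 hli _ h2 v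
  rw [mul_comm, ← sub_mul, mul_eq_zero] at this
  exact sg_inj S.two (sub_eq_zero.1 (this.resolve_right hv))

/-- The isometries. -/
def Iso : Subgroup Aˣ where
  carrier := {g | S.τ (g : A) * (g : A) = 1}
  one_mem' := by simp [S.τ_one]
  mul_mem' := by
    intro a b (ha : S.τ (a : A) * a = 1) (hb : S.τ (b : A) * b = 1)
    show S.τ ((a * b : Aˣ) : A) * ((a * b : Aˣ) : A) = 1
    rw [Units.val_mul, S.τ_mul, mul_assoc, ← mul_assoc (S.τ (a : A)), ha, one_mul, hb]
  inv_mem' := by
    intro a (ha : S.τ (a : A) * a = 1)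
    show S.τ ((a⁻¹ : Aˣ) : A) * ((a⁻¹ : Aˣ) : A) = 1
    have h : S.τ (a : A) = ((a⁻¹ : Aˣ) : A) := by
      calc S.τ (a : A) = S.τ (a : A) * a * ((a⁻¹ : Aˣ) : A) := by rw [mul_assoc, Units.mul_inv, mul_one]
        _ = _ := by rw [ha, one_mul]
    rw [← h, ← S.τ_mul, h, Units.mul_inv, S.τ_one]

theorem mem_Iso {g : Aˣ} : g ∈ S.Iso ↔ S.τ (g : A) * (g : A) = 1 := Iff.rfl

theorem τ_eq_inv {g : Aˣ} (hg : g ∈ S.Iso) : S.τ (g : A) = ((g⁻¹ : Aˣ) : A) :=
  calc S.τ (g : A) = S.τ (g : A) * g * ((g⁻¹ : Aˣ) : A) := by rw [mul_assoc, Units.mul_inv, mul_one]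
    _ = _ := by rw [S.mem_Iso.1 hg, one_mul]

/-- An element with its adjoint as inverse, as an isometry. -/
def mkIso (a : A) (h : S.τ a * a = 1) (h' : a * S.τ a = 1) : S.Iso := ⟨⟨a, S.τ a, h', h⟩, h⟩

theorem mkIso_val (a : A) (h : S.τ a * a = 1) (h' : a * S.τ a = 1) :
    (((S.mkIso a h h' : S.Iso) : Aˣ) : A) = a := rfl

/-- The central sign. -/
def epsI : S.Iso := ⟨-1, by simp [mem_Iso, S.τ_one]⟩

/-- The basis elements as isometries. -/
def rI (v : V) : S.Iso := ⟨S.r v, S.τ_r_mul v⟩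

theorem rI_val (v : V) : (((S.rI v : S.Iso) : Aˣ) : A) = S.r v := rfl

theorem epsI_val : (((S.epsI : S.Iso) : Aˣ) : A) = -1 := by simp [epsI]

theorem ext_val {g h : S.Iso} (e : ((g : Aˣ) : A) = ((h : Aˣ) : A)) : g = h := Subtype.ext (Units.ext e)

theorem peq_iff {g h : S.Iso} :
    Peq S.epsI g h ↔ ((g : Aˣ) : A) = ((h : Aˣ) : A) ∨ ((g : Aˣ) : A) = -((h : Aˣ) : A) := by
  refine or_congr ⟨fun e => by rw [e], S.ext_val⟩ ⟨fun e => by rw [e]; simp [epsI], fun e => S.ext_val ?_⟩
  simpa [epsI] using e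

theorem ne_neg_self (S : Sys F A V) {a : A} (ha : a ≠ 0) : a ≠ -a := fun e => ha (by
  have h : (2 : F) • a = 0 := by rw [two_smul]; nth_rewrite 2 [e]; exact add_neg_cancel a
  exact (smul_eq_zero.1 h).resolve_left S.two)

theorem cinv_epsI : CInv S.epsI where
  central g := S.ext_val (by simp [epsI])
  sq := S.ext_val (by simp [epsI])
  ne e := by
    haveI := S.nontrivial
    have h : (-1 : A) = 1 := by simpa [epsI] using congrArg (fun g : S.Iso => ((g : Aˣ) : A)) e
    exact S.ne_neg_self one_ne_zero h.symm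

theorem pw_val (s : ZMod 2) : (((pw S.epsI s : S.Iso) : Aˣ) : A) = sg F s • 1 := by
  rcases z2_cases s with rfl | rfl
  · simp [pw, sg_zero]
  · simp [pw, sg_one, epsI]

variable [Finite V]

theorem eq_smul_of_comm {a : A} (h : ∀ w, ∃ s : ZMod 2, a * (S.r w : A) = sg F s • ((S.r w : A) * a)) :
    ∃ (v : V) (c : F), a = c • (S.r v : A) := by
  classical
  haveI := Fintype.ofFinite V
  by_cases ha : ∃ v, S.basis.repr a v ≠ 0
  · obtain ⟨v, hv⟩ := ha
    refine ⟨v, S.basis.repr a v, ?_⟩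
    conv_lhs => rw [← S.sum_repr a]
    refine Finset.sum_eq_single v (fun u _ huv => ?_) (by simp)
    by_contra hu
    have hu' : S.basis.repr a u ≠ 0 := fun e => hu (by rw [e, zero_smul])
    refine huv (vadd_eq_zero (S.sep _ fun w => ?_))
    obtain ⟨s, hs⟩ := h w
    rw [map_add, LinearMap.add_apply, S.support_of_comm hs hu', S.support_of_comm hs hv, z2_add_self]
  · push Not at ha
    refine ⟨0, 0, ?_⟩
    rw [zero_smul]
    exact (S.basis.repr.map_eq_zero_iff).1 (Finsupp.ext ha)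

theorem scalar_mem_iso {c : F} (hc : c * c = 1) (a : A) : c • a = a ∨ c • a = -a := by
  rcases mul_self_eq_one_iff.1 hc with rfl | rfl
  · exact Or.inl (one_smul F a)
  · exact Or.inr (neg_one_smul F a)

/-- The labelled group of isometries. -/
def gsys : GSys S.Iso V where
  toQd := S.toQd
  ε := S.epsI
  hε := S.cinv_epsI
  r := S.rI
  mul v w := S.peq_iff.2 (S.mul v w)
  comm v w := S.ext_val (by
    rw [Subgroup.coe_mul, Subgroup.coe_mul, Subgroup.coe_mul, Units.val_mul, Units.val_mul, Units.val_mul, S.pw_val,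
      smul_one_mul]
    exact S.comm v w)
  sq v := S.ext_val (by rw [Subgroup.coe_mul, Units.val_mul, S.pw_val]; exact S.sq v)
  inj v h := by
    classical
    by_contra hv
    have h1 : (S.r v : A) = 1 ∨ (S.r v : A) = -1 := S.peq_iff.1 h
    have h2 : ∃ c : F, (S.r v : A) = c • (S.r 0 : A) := by
      rcases h1 with e | e <;> rcases S.r_zero with e' | e'
      · exact ⟨1, by rw [e, e', one_smul]⟩
      · exact ⟨-1, by rw [e, e', neg_one_smul, neg_neg]⟩
      · exact ⟨-1, by rw [e, e', neg_one_smul]⟩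
      · exact ⟨1, by rw [e, e', one_smul]⟩
    obtain ⟨c, hc⟩ := h2
    have := congrArg (fun a => S.basis.repr a v) hc
    simp only [S.repr_r_smul, Ne.symm hv, if_false] at this
    rw [← one_smul F (S.r v : A), S.repr_r_smul, if_pos rfl] at this
    exact one_ne_zero this
  full g hg := by
    obtain ⟨v, c, hvc⟩ := S.eq_smul_of_comm (a := ((g : Aˣ) : A)) fun w => by
      obtain ⟨s, hs⟩ := S.cinv_epsI.comm_sign_of_conj (hg w)
      refine ⟨s, ?_⟩
      have := congrArg (fun x : S.Iso => ((x : Aˣ) : A)) hs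
      simpa [S.pw_val, S.rI_val] using this
    refine ⟨v, S.peq_iff.2 ?_⟩
    have h1 := S.mem_Iso.1 g.2
    rw [hvc, map_smul, Algebra.smul_mul_assoc, Algebra.mul_smul_comm, smul_smul, S.τ_r_mul] at h1
    have hc : c * c = 1 := by
      haveI := S.nontrivial
      by_contra hne
      have : (c * c - 1) • (1 : A) = 0 := by rw [sub_smul, h1, one_smul, sub_self]
      exact (smul_ne_zero (sub_ne_zero.2 hne) one_ne_zero) this
    rw [hvc]
    exact scalar_mem_iso hc _

theorem gsys_q : (S.gsys.toQd) = S.toQd := rfl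

theorem gsys_r (v : V) : S.gsys.r v = S.rI v := rfl

theorem gsys_eps : S.gsys.ε = S.epsI := rfl

/-- The derived group of the isometries intersected with the normaliser. -/
def NO : Subgroup S.Iso := S.gsys.N ⊓ _root_.commutator S.Iso

theorem NO_le : S.NO ≤ S.gsys.N := inf_le_left

theorem NO_normal {g : S.Iso} (hg : g ∈ S.gsys.N) {x : S.Iso} (hx : x ∈ S.NO) : g * x * g⁻¹ ∈ S.NO :=
  ⟨S.gsys.N.mul_mem (S.gsys.N.mul_mem hg hx.1) (S.gsys.N.inv_mem hg), (Subgroup.Normal.conj_mem inferInstance _ hx.2 g)⟩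

/-- In dimension at least four the two-group lies in the derived group. -/
theorem r_mem_commutator (hd : 4 ≤ finrank (ZMod 2) V) (v : V) : S.rI v ∈ _root_.commutator S.Iso := by
  have key : ∀ u', S.q u' = 1 → S.rI u' ∈ _root_.commutator S.Iso := fun u' hu' => by
    obtain ⟨u, hu, hqu, hne⟩ := S.toQd.exists_nonsingular_perp (by omega) u'
    obtain ⟨a, ha, ha1⟩ := S.toQd.exists_perp_one (S := Submodule.span Z2 ({u} : Set V)) (v := u') fun hm => by
      rcases mem_span_one hm with e | e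
      · rw [e, S.toQd.q_zero] at hu'; exact zero_ne_one hu'
      · exact hne e.symm
    rw [S.toQd.mem_perp_one] at ha
    obtain ⟨U, hU⟩ : ∃ U, U = (S.r u : A) := ⟨_, rfl⟩
    obtain ⟨W, hW⟩ : ∃ W, W = (S.r u' : A) := ⟨_, rfl⟩
    obtain ⟨X, hX⟩ : ∃ X, X = (S.r a : A) := ⟨_, rfl⟩
    have hUU : U * U = -1 := by rw [hU, S.sq, hqu, sg_one, neg_one_smul]
    have hWW : W * W = -1 := by rw [hW, S.sq, hu', sg_one, neg_one_smul]
    have hUW : U * W = W * U := by rw [hU, hW, S.comm, S.toQd.symm, hu, sg_zero, one_smul]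
    have hXU : X * U = U * X := by rw [hX, hU, S.comm, S.toQd.symm, ha, sg_zero, one_smul]
    have hWX : W * X = -(X * W) := by rw [hX, hW, S.comm, ha1, sg_one, neg_one_smul]
    have hτU : S.τ U = -U := by rw [hU, S.adj, hqu, sg_one, neg_one_smul]
    have hτW : S.τ W = -W := by rw [hW, S.adj, hu', sg_one, neg_one_smul]
    have h2' : ((2 : F)⁻¹ * (2 : F)⁻¹) * (2 * 2) = 1 := by field_simp [S.two]
    obtain ⟨g, hg⟩ : ∃ g, g = (2 : F)⁻¹ • ((1 + U) * (1 + W)) := ⟨_, rfl⟩
    have hτg : S.τ g = (2 : F)⁻¹ • ((1 - W) * (1 - U)) := by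
      rw [hg, map_smul, S.τ_mul, map_add, map_add, S.τ_one, hτU, hτW, ← sub_eq_add_neg, ← sub_eq_add_neg]
    have hm : ∀ Y : A, Y * Y = -1 → (1 - Y) * (1 + Y) = (2 : F) • 1 ∧ (1 + Y) * (1 - Y) = (2 : F) • 1 := by
      intro Y hY
      rw [two_smul]
      exact ⟨by rw [sub_mul, one_mul, mul_add, mul_one, hY]; abel, by rw [add_mul, one_mul, mul_sub, mul_one, hY]; abel⟩
    have g1 : S.τ g * g = 1 := by
      rw [hτg, hg, smul_mul_smul_comm, mul_assoc (1 - W), ← mul_assoc (1 - U), (hm U hUU).1, smul_one_mul,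
        Algebra.mul_smul_comm, (hm W hWW).1, smul_smul, smul_smul,
        show (2 : F)⁻¹ * (2 : F)⁻¹ * 2 * 2 = 1 by linear_combination h2', one_smul]
    have g2 : g * S.τ g = 1 := by
      rw [hτg, hg, smul_mul_smul_comm, mul_assoc (1 + U), ← mul_assoc (1 + W), (hm W hWW).2, smul_one_mul,
        Algebra.mul_smul_comm, (hm U hUU).2, smul_smul, smul_smul,
        show (2 : F)⁻¹ * (2 : F)⁻¹ * 2 * 2 = 1 by linear_combination h2', one_smul]
    have hgX : g * X = W * (X * g) := by
      have e2 : (1 + W) * X = X * (1 - W) := by rw [add_mul, one_mul, mul_sub, mul_one, hWX, sub_eq_add_neg]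
      have e3 : 1 - W = -W * (1 + W) := by rw [mul_add, mul_one, neg_mul W W, hWW, neg_neg]; abel
      have e4 : (1 + U) * X = X * (1 + U) := by rw [add_mul, one_mul, mul_add, mul_one, hXU]
      rw [hg, Algebra.smul_mul_assoc, mul_assoc, e2, e3, ← mul_assoc (1 + U), e4, Algebra.mul_smul_comm,
        Algebra.mul_smul_comm]
      congr 1
      have e5 : (1 + U) * -W = -W * (1 + U) := by rw [add_mul, one_mul, mul_add, mul_one, mul_neg, neg_mul, hUW]
      rw [mul_assoc X, ← mul_assoc (1 + U), e5, mul_assoc (-W), ← mul_assoc X (-W), mul_neg X W, ← hWX, mul_assoc]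
    obtain ⟨gI, hgI⟩ : ∃ gI : S.Iso, ((gI : Aˣ) : A) = g := ⟨S.mkIso g g1 g2, rfl⟩
    have h : gI * S.rI a = S.rI u' * (S.rI a * gI) := S.ext_val (by simp [S.rI_val, hgI, ← hX, ← hW, hgX])
    rw [show S.rI u' = ⁅gI, S.rI a⁆ by rw [commutatorElement_def, h]; simp [mul_assoc]]
    exact Subgroup.commutator_mem_commutator (Subgroup.mem_top _) (Subgroup.mem_top _)
  have heps : S.epsI ∈ _root_.commutator S.Iso := by
    obtain ⟨a, ha⟩ : ∃ a : V, a ≠ 0 := by
      by_contra h
      push Not at h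
      haveI : Subsingleton V := ⟨fun x y => (h x).trans (h y).symm⟩
      rw [finrank_zero_of_subsingleton] at hd; omega
    obtain ⟨b, -, hb⟩ := S.toQd.exists_perp_one (S := ⊥) (v := a) ha
    have h : S.rI a * S.rI b = S.epsI * (S.rI b * S.rI a) := by
      have := S.gsys.comm a b
      rwa [show S.gsys.B a b = 1 from hb, S.gsys.hε.pw_one] at this
    rw [show S.epsI = ⁅S.rI a, S.rI b⁆ by rw [commutatorElement_def, h]; simp [mul_assoc]]
    exact Subgroup.commutator_mem_commutator (Subgroup.mem_top _) (Subgroup.mem_top _)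
  rcases z2_cases (S.q v) with hq | hq
  · obtain ⟨u₁, h1, hq1, -⟩ := S.toQd.exists_nonsingular_perp (by omega) v
    have hq2 : S.q (v + u₁) = 1 := by rw [S.polar, hq, hq1, h1]; rfl
    have h := S.gsys.hε.symm (S.gsys.mul (v + u₁) u₁)
    rw [add_assoc, vadd_self, add_zero] at h
    exact S.gsys.hε.eps_mem heps h (mul_mem (key _ hq2) (key _ hq1))
  · exact key v hq

theorem R_le_NO (hd : 4 ≤ finrank (ZMod 2) V) : S.gsys.R ≤ S.NO := fun g hg => ⟨S.gsys.R_le_N hg, by
  have heps : S.epsI ∈ _root_.commutator S.Iso := by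
    have h1 := S.gsys.r_zero
    have h0 := S.r_mem_commutator hd 0
    obtain ⟨a, ha⟩ : ∃ a : V, a ≠ 0 := by
      by_contra h
      push Not at h
      haveI : Subsingleton V := ⟨fun x y => (h x).trans (h y).symm⟩
      rw [finrank_zero_of_subsingleton] at hd; omega
    obtain ⟨b, -, hb⟩ := S.toQd.exists_perp_one (S := ⊥) (v := a) ha
    have h : S.rI a * S.rI b = S.epsI * (S.rI b * S.rI a) := by
      have := S.gsys.comm a b
      rwa [show S.gsys.B a b = 1 from hb, S.gsys.hε.pw_one] at this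
    rw [eq_comm, ← eq_mul_inv_iff_mul_eq] at h
    rw [h]
    exact mul_mem (mul_mem (S.r_mem_commutator hd a) (S.r_mem_commutator hd b))
      (inv_mem (mul_mem (S.r_mem_commutator hd b) (S.r_mem_commutator hd a)))
  obtain ⟨v, hv⟩ := hg
  exact S.gsys.hε.eps_mem heps hv (S.r_mem_commutator hd v)⟩

end Sys

end Cfsg.Agent.Classical.CliffordTwo
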